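import Cfsg.Agent.Golay.Orbit
import Cfsg.Prelude.Def_Spor_Mathieu

/-!
# Explicit elements of the Mathieu groups (helper447)
-/

set_option autoImplicit false

namespace Cfsg.Agent.H447.MElems

open Cfsg Cfsg.Agent.Golay.Orbit
open scoped Pointwise

/-- table lookup -/
def app (l : List ℕ) (i : ℕ) : ℕ := l.getD i 0

/-- `g` has the table `l` of images of indices -/
def Tab (g : Equiv.Perm GolayPt) (l : List ℕ) : Prop := ∀ q, idx (g q) = app l (idx q)

/-- check of a table -/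
def chk (l : List ℕ) : Bool := okTab (l.map (2 ^ ·)) && m24Tab (l.map (2 ^ ·))

theorem exists_elem (l : List ℕ) (h : chk l = true) : ∃ g ∈ M24, Tab g l := by
  rw [chk, Bool.and_eq_true] at h
  obtain ⟨g, hg⟩ := exists_rep _ h.1
  refine ⟨g, hg.mem_M24 h.2, fun q => ?_⟩
  have h1 := hg.eq q
  have h2 : idx q < (l.map (2 ^ ·)).length := by rw [hg.len]; exact idx_lt q
  have h3 : idx q < l.length := by simpa using h2
  rw [List.getD_eq_getElem _ _ h2, List.getElem_map] at h1
  rw [app, List.getD_eq_getElem _ _ h3]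
  exact (Nat.pow_right_injective le_rfl h1).symm

theorem ext_idx {g h : Equiv.Perm GolayPt} (H : ∀ q, idx (g q) = idx (h q)) : g = h :=
  Equiv.ext fun q => idx_injective (H q)

/-- A pair of elements of order 3 giving an orbit of length 6. -/
def SixPair (X : Type*) [Group X] : Prop :=
  ∃ x y t : X, x ^ 3 = 1 ∧ y ^ 3 = 1 ∧ t ^ 2 = 1 ∧ t ≠ 1 ∧ Commute x t ∧ Commute y t ∧
    t = (y⁻¹ * x) ^ 2

theorem SixPair.map {X Y : Type*} [Group X] [Group Y] (h : SixPair X) (f : X →* Y)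
    (hf : Function.Injective f) : SixPair Y := by
  obtain ⟨x, y, t, h1, h2, h3, h4, h5, h6, h7⟩ := h
  refine ⟨f x, f y, f t, by rw [← map_pow, h1, map_one], by rw [← map_pow, h2, map_one],
    by rw [← map_pow, h3, map_one], fun h => h4 (hf (h.trans (map_one f).symm)),
    h5.map f, h6.map f, ?_⟩
  rw [← map_inv, ← map_mul, ← map_pow, ← h7]

/-- relations on tables -/
def rels (a b t : List ℕ) : Bool :=
  (List.range 24).all fun i =>
    app a (app a (app a i)) == i && app b (app b (app b i)) == i && app t (app t i) == i &&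
    app a (app t i) == app t (app a i) && app b (app t i) == app t (app b i) &&
    app a (app b (app b (app a i))) == app b (app t i)

theorem pair_of_tabs {P : Subgroup (Equiv.Perm GolayPt)} {x y t : Equiv.Perm GolayPt} {a b c : List ℕ}
    (hx : x ∈ P) (hy : y ∈ P) (ht : t ∈ P) (hxa : Tab x a) (hyb : Tab y b) (htc : Tab t c)
    (hr : rels a b c = true) (hc : ∃ i < 24, app c i ≠ i) : SixPair P := by
  rw [rels, List.all_eq_true] at hr
  have hr' : ∀ q : GolayPt, app a (app a (app a (idx q))) = idx q ∧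
      app b (app b (app b (idx q))) = idx q ∧ app c (app c (idx q)) = idx q ∧
      app a (app c (idx q)) = app c (app a (idx q)) ∧ app b (app c (idx q)) = app c (app b (idx q)) ∧
      app a (app b (app b (app a (idx q)))) = app b (app c (idx q)) := by
    intro q
    have := hr (idx q) (List.mem_range.2 (idx_lt q))
    simpa only [Bool.and_eq_true, beq_iff_eq, and_assoc] using this
  have e1 : x ^ 3 = 1 := ext_idx fun q => by
    show idx (x (x (x q))) = idx q
    rw [hxa, hxa, hxa]; exact (hr' q).1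
  have e2 : y ^ 3 = 1 := ext_idx fun q => by
    show idx (y (y (y q))) = idx q
    rw [hyb, hyb, hyb]; exact (hr' q).2.1
  have e3 : t ^ 2 = 1 := ext_idx fun q => by
    show idx (t (t q)) = idx q
    rw [htc, htc]; exact (hr' q).2.2.1
  have e4 : x * t = t * x := ext_idx fun q => by
    show idx (x (t q)) = idx (t (x q))
    rw [hxa, htc, htc, hxa]; exact (hr' q).2.2.2.1
  have e5 : y * t = t * y := ext_idx fun q => by
    show idx (y (t q)) = idx (t (y q))
    rw [hyb, htc, htc, hyb]; exact (hr' q).2.2.2.2.1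
  have e6 : x * y * y * x = y * t := ext_idx fun q => by
    show idx (x (y (y (x q)))) = idx (y (t q))
    rw [hxa, hyb, hyb, hxa, hyb, htc]; exact (hr' q).2.2.2.2.2
  have e7 : t ≠ 1 := by
    rintro rfl
    obtain ⟨i, hi, hci⟩ := hc
    apply hci
    have h1 := htc (pt i)
    rw [idx_pt i hi] at h1
    rw [← h1, Equiv.Perm.one_apply, idx_pt i hi]
  have e8 : t = (y⁻¹ * x) ^ 2 := by
    have h2 : y⁻¹ = y * y := by
      rw [inv_eq_iff_mul_eq_one, ← mul_assoc, ← e2]; rfl
    have h3 : x * (y⁻¹ * x) = y * t := by rw [h2, ← e6]; group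
    rw [pow_two, mul_assoc, h3, inv_mul_cancel_left]
  refine ⟨⟨x, hx⟩, ⟨y, hy⟩, ⟨t, ht⟩, ?_, ?_, ?_, ?_, ?_, ?_, ?_⟩
  · exact Subtype.ext e1
  · exact Subtype.ext e2
  · exact Subtype.ext e3
  · intro h; exact e7 (congrArg Subtype.val h)
  · exact Subtype.ext e4
  · exact Subtype.ext e5
  · exact Subtype.ext e8

theorem idx_none : idx none = 23 := by decide +kernel
theorem idx_zero : idx (some 0) = 0 := by decide +kernel

theorem fix_of_tab {g : Equiv.Perm GolayPt} {l : List ℕ} (h : Tab g l) {q : GolayPt}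
    (hl : app l (idx q) = idx q) : g q = q := idx_injective (by rw [h, hl])

theorem mem_M23 {g : Equiv.Perm GolayPt} {l : List ℕ} (hg : g ∈ M24) (h : Tab g l)
    (hl : app l 23 = 23) : g ∈ Spor.M23 := by
  refine Subgroup.mem_inf.2 ⟨hg, ?_⟩
  exact fix_of_tab h (by rw [idx_none, hl])

theorem mem_M22 {g : Equiv.Perm GolayPt} {l : List ℕ} (hg : g ∈ M24) (h : Tab g l)
    (hl : app l 23 = 23) (hl0 : app l 0 = 0) : g ∈ Spor.M22 := by
  refine Subgroup.mem_inf.2 ⟨mem_M23 hg h hl, ?_⟩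
  exact fix_of_tab h (by rw [idx_zero, hl0])

/-- indices of the points of the dodecad of squares -/
def sqL : List ℕ := [0, 1, 2, 3, 4, 6, 8, 9, 12, 13, 16, 18]

theorem mem_sqD (q : GolayPt) : q ∈ Spor.squareDodecad ↔ idx q ∈ sqL := by
  revert q; decide +kernel

theorem mem_M12 {g : Equiv.Perm GolayPt} {l : List ℕ} (hg : g ∈ M24) (h : Tab g l)
    (hl : ∀ i ∈ sqL, app l i ∈ sqL) : g ∈ Spor.M12 := by
  refine Subgroup.mem_inf.2 ⟨hg, ?_⟩
  rw [MulAction.mem_stabilizer_iff]
  apply Finset.eq_of_subset_of_card_le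
  · intro y hy
    obtain ⟨x, hx, rfl⟩ := Finset.mem_smul_finset.1 hy
    rw [mem_sqD] at hx ⊢
    rw [Equiv.Perm.smul_def, h]
    exact hl _ hx
  · rw [Finset.card_smul_finset]

theorem mem_M11 {g : Equiv.Perm GolayPt} {l : List ℕ} (hg : g ∈ M24) (h : Tab g l)
    (hl : ∀ i ∈ sqL, app l i ∈ sqL) (hl0 : app l 0 = 0) : g ∈ Spor.M11 := by
  refine Subgroup.mem_inf.2 ⟨mem_M12 hg h hl, ?_⟩
  exact fix_of_tab h (by rw [idx_zero, hl0])

/-- tables for `M₂₂` -/
def a22 : List ℕ := [0, 8, 2, 12, 10, 18, 3, 9, 17, 13, 19, 22, 6, 7, 11, 5, 16, 1, 15, 4, 20, 21, 14, 23]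
def b22 : List ℕ := [0, 20, 8, 21, 10, 1, 6, 9, 15, 19, 13, 3, 14, 4, 16, 2, 12, 17, 18, 7, 5, 11, 22, 23]
def t22 : List ℕ := [0, 15, 20, 14, 4, 8, 22, 7, 5, 9, 10, 12, 11, 13, 3, 1, 21, 18, 17, 19, 2, 16, 6, 23]
def f22 : List ℕ := [0, 5, 17, 14, 11, 3, 6, 16, 8, 4, 21, 18, 10, 12, 1, 22, 20, 2, 9, 7, 19, 13, 15, 23]
def e22 : List ℕ := [0, 21, 16, 4, 2, 11, 17, 20, 22, 13, 19, 9, 10, 5, 7, 14, 15, 12, 6, 8, 3, 1, 18, 23]
/-- tables for `M₁₁` -/
def a11 : List ℕ := [0, 16, 2, 9, 4, 17, 18, 15, 3, 8, 7, 20, 6, 1, 11, 10, 13, 19, 12, 5, 14, 21, 22, 23]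
def b11 : List ℕ := [0, 16, 18, 3, 8, 20, 4, 10, 6, 2, 21, 11, 12, 1, 19, 15, 13, 17, 9, 22, 23, 7, 14, 5]
def t11 : List ℕ := [0, 1, 4, 12, 2, 14, 9, 7, 18, 6, 10, 17, 3, 13, 5, 15, 16, 11, 8, 20, 19, 21, 23, 22]
def f11 : List ℕ := [0, 18, 6, 8, 13, 14, 1, 20, 4, 9, 17, 21, 12, 3, 11, 19, 16, 10, 2, 23, 7, 5, 15, 22]

theorem pair_M22 : SixPair Spor.M22 := by
  obtain ⟨x, hx, hxa⟩ := exists_elem a22 (by decide +kernel)
  obtain ⟨y, hy, hyb⟩ := exists_elem b22 (by decide +kernel)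
  obtain ⟨t, ht, htc⟩ := exists_elem t22 (by decide +kernel)
  exact pair_of_tabs (mem_M22 hx hxa (by decide +kernel) (by decide +kernel))
    (mem_M22 hy hyb (by decide +kernel) (by decide +kernel))
    (mem_M22 ht htc (by decide +kernel) (by decide +kernel)) hxa hyb htc (by decide +kernel)
    ⟨1, by norm_num, by decide +kernel⟩

theorem pair_M11 : SixPair Spor.M11 := by
  obtain ⟨x, hx, hxa⟩ := exists_elem a11 (by decide +kernel)
  obtain ⟨y, hy, hyb⟩ := exists_elem b11 (by decide +kernel)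
  obtain ⟨t, ht, htc⟩ := exists_elem t11 (by decide +kernel)
  exact pair_of_tabs (mem_M11 hx hxa (by decide +kernel) (by decide +kernel))
    (mem_M11 hy hyb (by decide +kernel) (by decide +kernel))
    (mem_M11 ht htc (by decide +kernel) (by decide +kernel)) hxa hyb htc (by decide +kernel)
    ⟨2, by norm_num, by decide +kernel⟩

theorem pair_M12 : SixPair Spor.M12 :=
  pair_M11.map (Subgroup.inclusion inf_le_left) (Subgroup.inclusion_injective _)

theorem pair_M23 : SixPair Spor.M23 :=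
  pair_M22.map (Subgroup.inclusion inf_le_left) (Subgroup.inclusion_injective _)

theorem pair_M24 : SixPair M24 :=
  pair_M23.map (Subgroup.inclusion inf_le_left) (Subgroup.inclusion_injective _)

theorem orderOf_of_tab {g : Equiv.Perm GolayPt} {l : List ℕ} (h : Tab g l) {n : ℕ} {a : ℕ}
    (hn : n = 2 ^ (a + 1)) (h1 : ∀ i < 24, (app l)^[n] i = i) (h2 : ∃ i < 24, (app l)^[2 ^ a] i ≠ i) :
    orderOf g = n := by
  have hit : ∀ (m : ℕ) (q : GolayPt), idx ((g ^ m) q) = (app l)^[m] (idx q) := by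
    intro m
    induction m with
    | zero => intro q; rfl
    | succ m ih =>
      intro q
      rw [pow_succ, Equiv.Perm.mul_apply, ih, h, Function.iterate_succ_apply]
  rw [hn]
  have : Fact (Nat.Prime 2) := ⟨Nat.prime_two⟩
  apply orderOf_eq_prime_pow
  · intro hone
    obtain ⟨i, hi, hne⟩ := h2
    apply hne
    have h3 := hit (2 ^ a) (pt i)
    rw [hone, idx_pt i hi] at h3
    rw [← h3]
    exact idx_pt i hi
  · apply ext_idx
    intro q
    rw [hit, ← hn, h1 _ (idx_lt q)]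
    rfl

theorem four_M22 : ∃ g : Spor.M22, orderOf g = 4 := by
  obtain ⟨g, hg, hgt⟩ := exists_elem f22 (by decide +kernel)
  refine ⟨⟨g, mem_M22 hg hgt (by decide +kernel) (by decide +kernel)⟩, ?_⟩
  rw [Subgroup.orderOf_mk]
  exact orderOf_of_tab hgt (a := 1) (by norm_num) (by decide +kernel) (by decide +kernel)

theorem eight_M22 : ∃ g : Spor.M22, orderOf g = 8 := by
  obtain ⟨g, hg, hgt⟩ := exists_elem e22 (by decide +kernel)
  refine ⟨⟨g, mem_M22 hg hgt (by decide +kernel) (by decide +kernel)⟩, ?_⟩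
  rw [Subgroup.orderOf_mk]
  exact orderOf_of_tab hgt (a := 2) (by norm_num) (by decide +kernel) (by decide +kernel)

theorem four_M11 : ∃ g : Spor.M11, orderOf g = 4 := by
  obtain ⟨g, hg, hgt⟩ := exists_elem f11 (by decide +kernel)
  refine ⟨⟨g, mem_M11 hg hgt (by decide +kernel) (by decide +kernel)⟩, ?_⟩
  rw [Subgroup.orderOf_mk]
  exact orderOf_of_tab hgt (a := 1) (by norm_num) (by decide +kernel) (by decide +kernel)

end Cfsg.Agent.H447.MElems
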