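import Cfsg.Agent.H447.CTab
import Cfsg.Agent.Characters.GaloisBasic
import Cfsg.Agent.Characters.DegreeBounds

/-!
# Two irreducible characters given by their doubles (helper447, for helper359, S4819 / S4820, McL)

`GC.of_double` : in a table with `m + 2 n` classes where two of the rational vectors `R a1`, `R a2` are only known to satisfy
`2 R a1`, `2 R a2` generalized characters, both are generalized characters, provided a parity and a degree condition hold.
-/

set_option autoImplicit false

namespace Cfsg.Agent.H447.CTab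

open Cfsg Cfsg.Agent.Characters.Core Cfsg.Agent.Characters.Brauer
open scoped ComplexConjugate

universe u

/-- **the combinatorial lemma** -/
theorem comb_double {I : Type*} [Fintype I] [DecidableEq I] {n : ℕ} (σ : I → I) (hσ : ∀ i, σ (σ i) = i) (S : Finset I)
    (hS : ∀ i ∈ S, σ i = i) (μ : Fin n → I → ℤ) (ν : Bool → I → ℤ) (hμσ : ∀ b i, μ b (σ i) = μ b i)
    (hνσ : ∀ s i, ν s (σ i) = ν s i) (hμS : ∀ b, ∀ i ∈ S, μ b i = 0) (hνS : ∀ s, ∀ i ∈ S, ν s i = 0)
    (hμ2 : ∀ b, ∑ i, μ b i * μ b i = 2) (hdisj : ∀ b b', b ≠ b' → ∀ i, μ b i ≠ 0 → μ b' i = 0)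
    (hνμ : ∀ s b, ∑ i, ν s i * μ b i = 0) (hν4 : ∀ s, ∑ i, ν s i * ν s i = 4) (hν0 : ∑ i, ν true i * ν false i = 0)
    (hcard : Fintype.card I = S.card + 2 * n + 2) (hfix : (Finset.univ.filter fun i => σ i = i).card ≤ S.card + 2) :
    (∀ s i, Even (ν s i)) ∨ ∃ (b : Fin n) (e : I) (ε x δ : ℤ), (ε = 1 ∨ ε = -1) ∧ (x = 1 ∨ x = -1) ∧ (δ = 1 ∨ δ = -1) ∧
      ∀ i, 2 * ε * μ b i + x * (ν true i + δ * ν false i) = if i = e then 4 else 0 := by
  have h1 := fun b => two_of_sum_sq (hμ2 b)
  choose p q hpq hp hq h0 using h1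
  have hp0 : ∀ b, μ b (p b) ≠ 0 := fun b => by rcases hp b with h | h <;> rw [h] <;> norm_num
  have hq0 : ∀ b, μ b (q b) ≠ 0 := fun b => by rcases hq b with h | h <;> rw [h] <;> norm_num
  have hmem : ∀ b i, μ b i ≠ 0 → i = p b ∨ i = q b := by
    intro b i hi
    by_contra hcon
    push Not at hcon
    exact hi (h0 b i hcon.1 hcon.2)
  have hσp : ∀ b, σ (p b) = p b ∨ σ (p b) = q b := fun b => hmem b _ (by rw [hμσ]; exact hp0 b)
  have hσq : ∀ b, σ (q b) = p b ∨ σ (q b) = q b := fun b => hmem b _ (by rw [hμσ]; exact hq0 b)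
  have hpS : ∀ b, p b ∉ S := fun b h => hp0 b (hμS b _ h)
  have hqS : ∀ b, q b ∉ S := fun b h => hq0 b (hμS b _ h)
  have hb : ∀ b b', b ≠ b' → p b ≠ p b' ∧ p b ≠ q b' ∧ q b ≠ p b' ∧ q b ≠ q b' := by
    intro b b' hne
    refine ⟨fun h => ?_, fun h => ?_, fun h => ?_, fun h => ?_⟩
    · exact hp0 b' (h ▸ hdisj b b' hne _ (hp0 b))
    · exact hq0 b' (h ▸ hdisj b b' hne _ (hp0 b))
    · exact hp0 b' (h ▸ hdisj b b' hne _ (hq0 b))
    · exact hq0 b' (h ▸ hdisj b b' hne _ (hq0 b))
  -- the two remaining elements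
  let TB : Finset I := Finset.univ.biUnion fun b => {p b, q b}
  have hTB : ∀ i, i ∈ TB ↔ ∃ b, i = p b ∨ i = q b := by
    intro i
    simp only [TB, Finset.mem_biUnion, Finset.mem_univ, true_and, Finset.mem_insert, Finset.mem_singleton]
  have hTBcard : TB.card = 2 * n := by
    rw [Finset.card_biUnion]
    · rw [Finset.sum_congr rfl (g := fun _ => 2) fun b _ => Finset.card_pair (hpq b), Finset.sum_const, Finset.card_univ,
        Fintype.card_fin, smul_eq_mul, mul_comm]
    · intro b _ b' _ hne
      obtain ⟨e1, e2, e3, e4⟩ := hb b b' hne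
      rw [Function.onFun, Finset.disjoint_left]
      intro i hi hi'
      simp only [Finset.mem_insert, Finset.mem_singleton] at hi hi'
      rcases hi with rfl | rfl <;> rcases hi' with h | h
      · exact e1 h
      · exact e2 h
      · exact e3 h
      · exact e4 h
  have hdisjS : Disjoint S TB := by
    rw [Finset.disjoint_left]
    intro i hi hi'
    obtain ⟨b, rfl | rfl⟩ := (hTB i).1 hi'
    · exact hpS b hi
    · exact hqS b hi
  have hC : ((S ∪ TB)ᶜ).card = 2 := by
    rw [Finset.card_compl, Finset.card_union_of_disjoint hdisjS, hTBcard, hcard]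
    omega
  obtain ⟨η, η', hη, hCe⟩ := Finset.card_eq_two.1 hC
  have hC' : ∀ i, i = η ∨ i = η' ↔ i ∉ S ∧ ∀ b, i ≠ p b ∧ i ≠ q b := by
    intro i
    have h2 : i ∈ (S ∪ TB)ᶜ ↔ i = η ∨ i = η' := by rw [hCe, Finset.mem_insert, Finset.mem_singleton]
    rw [← h2, Finset.mem_compl, Finset.mem_union, hTB]
    push Not
    rfl
  have hηS := (hC' η).1 (Or.inl rfl)
  have hη'S := (hC' η').1 (Or.inr rfl)
  have hσC : ∀ i, i = η ∨ i = η' → σ i = η ∨ σ i = η' := by
    intro i hi
    have h2 := (hC' i).1 hi
    rw [hC']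
    refine ⟨fun h => h2.1 ?_, fun b => ⟨fun h => ?_, fun h => ?_⟩⟩
    · have h3 := hS _ h
      rw [hσ] at h3
      rw [h3]
      exact h
    · rcases hmem b i (by rw [← hμσ, h]; exact hp0 b) with h3 | h3
      · exact (h2.2 b).1 h3
      · exact (h2.2 b).2 h3
    · rcases hmem b i (by rw [← hμσ, h]; exact hq0 b) with h3 | h3
      · exact (h2.2 b).1 h3
      · exact (h2.2 b).2 h3
  -- swapped pairs
  have hsw : ∀ b s, σ (p b) ≠ p b → ν s (p b) = 0 ∧ ν s (q b) = 0 := by
    intro b s hne
    have h2 := (hσp b).resolve_left hne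
    have h3 : ν s (q b) = ν s (p b) := by rw [← h2, hνσ]
    have h4 : μ b (q b) = μ b (p b) := by rw [← h2, hμσ]
    have h5 := hνμ s b
    rw [Fintype.sum_eq_add (p b) (q b) (hpq b) fun i hi => by rw [h0 b i hi.1 hi.2, mul_zero], h3, h4] at h5
    have h6 : ν s (p b) * μ b (p b) = 0 := by omega
    have h7 := (mul_eq_zero.1 h6).resolve_right (hp0 b)
    exact ⟨h7, h3.trans h7⟩
  -- at most two more real elements
  have hE : ∀ E : Finset I, (∀ i ∈ E, σ i = i ∧ i ∉ S) → E.card ≤ 2 := by
    intro E hE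
    have h2 : Disjoint S E := by
      rw [Finset.disjoint_left]
      exact fun i hi hi' => (hE i hi').2 hi
    have h3 : (S ∪ E).card ≤ (Finset.univ.filter fun i => σ i = i).card := by
      apply Finset.card_le_card
      intro i hi
      rw [Finset.mem_filter]
      rcases Finset.mem_union.1 hi with h | h
      · exact ⟨Finset.mem_univ _, hS i h⟩
      · exact ⟨Finset.mem_univ _, (hE i h).1⟩
    rw [Finset.card_union_of_disjoint h2] at h3
    omega
  by_cases hreal : ∃ b, σ (p b) = p b
  · right
    obtain ⟨b, hbp⟩ := hreal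
    have hbq : σ (q b) = q b := by
      refine (hσq b).resolve_left fun h => hpq b ?_
      rw [← hbp, ← h, hσ]
    have hother : ∀ b', b' ≠ b → σ (p b') ≠ p b' := by
      intro b' hne h
      have h' : σ (q b') = q b' := by
        refine (hσq b').resolve_left fun h2 => hpq b' ?_
        rw [← h, ← h2, hσ]
      obtain ⟨e1, e2, e3, e4⟩ := hb b' b hne
      have h3 := hE {p b', q b', p b, q b} (by
        intro i hi
        simp only [Finset.mem_insert, Finset.mem_singleton] at hi
        rcases hi with rfl | rfl | rfl | rfl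
        · exact ⟨h, hpS b'⟩
        · exact ⟨h', hqS b'⟩
        · exact ⟨hbp, hpS b⟩
        · exact ⟨hbq, hqS b⟩)
      rw [Finset.card_insert_of_notMem (by simp [hpq b', e1, e2]), Finset.card_insert_of_notMem (by simp [e3, e4]),
        Finset.card_pair (hpq b)] at h3
      omega
    have hση : σ η = η' := by
      refine (hσC η (Or.inl rfl)).resolve_left fun h => ?_
      have h' : σ η' = η' := by
        refine (hσC η' (Or.inr rfl)).resolve_left fun h2 => hη ?_
        rw [← h, ← h2, hσ]
      have h3 := hE {η, η', p b, q b} (by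
        intro i hi
        simp only [Finset.mem_insert, Finset.mem_singleton] at hi
        rcases hi with rfl | rfl | rfl | rfl
        · exact ⟨h, hηS.1⟩
        · exact ⟨h', hη'S.1⟩
        · exact ⟨hbp, hpS b⟩
        · exact ⟨hbq, hqS b⟩)
      rw [Finset.card_insert_of_notMem (by simp [hη, (hηS.2 b).1, (hηS.2 b).2]),
        Finset.card_insert_of_notMem (by simp [(hη'S.2 b).1, (hη'S.2 b).2]), Finset.card_pair (hpq b)] at h3
      omega
    have hy : ∀ s, ν s η' = ν s η := fun s => by rw [← hση, hνσ]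
    have hz : ∀ s i, i ≠ p b → i ≠ q b → i ≠ η → i ≠ η' → ν s i = 0 := by
      intro s i h2 h3 h4 h5
      by_cases hiS : i ∈ S
      · exact hνS s i hiS
      · by_contra hcon
        have h6 := (hC' i).2 ⟨hiS, fun b' => ?_⟩
        · rcases h6 with h6 | h6
          · exact h4 h6
          · exact h5 h6
        · by_cases hbb : b' = b
          · subst hbb
            exact ⟨h2, h3⟩
          · exact ⟨fun h => hcon (h ▸ (hsw b' s (hother b' hbb)).1), fun h => hcon (h ▸ (hsw b' s (hother b' hbb)).2)⟩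
    have hsum : ∀ s t, ∑ i, ν s i * ν t i = ν s (p b) * ν t (p b) + ν s (q b) * ν t (q b) + 2 * (ν s η * ν t η) := by
      intro s t
      rw [← Finset.sum_subset (Finset.subset_univ ({p b, q b, η, η'} : Finset I)) fun i _ hi => by
        simp only [Finset.mem_insert, Finset.mem_singleton, not_or] at hi
        rw [hz s i hi.1 hi.2.1 hi.2.2.1 hi.2.2.2, zero_mul]]
      rw [Finset.sum_insert (by simp [hpq b, (hηS.2 b).1.symm, (hη'S.2 b).1.symm]),
        Finset.sum_insert (by simp [(hηS.2 b).2.symm, (hη'S.2 b).2.symm]), Finset.sum_pair hη, hy, hy]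
      ring
    have hx : ∀ s, ν s (p b) * μ b (p b) + ν s (q b) * μ b (q b) = 0 := by
      intro s
      rw [← hνμ s b]
      exact (Fintype.sum_eq_add (f := fun i => ν s i * μ b i) (p b) (q b) (hpq b) fun i hi => by
        show ν s i * μ b i = 0
        rw [h0 b i hi.1 hi.2, mul_zero]).symm
    have hx' : ∀ s, ν s (q b) = -(μ b (p b) * μ b (q b)) * ν s (p b) := by
      intro s
      have h2 := hx s
      rcases hp b with h3 | h3 <;> rcases hq b with h4 | h4 <;> rw [h3, h4] at h2 ⊢ <;> omega
    have hpm : ∀ s, (ν s (p b) = 1 ∨ ν s (p b) = -1) ∧ (ν s η = 1 ∨ ν s η = -1) := by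
      intro s
      have h2 := hν4 s
      rw [hsum s s, hx' s] at h2
      have h3 : μ b (p b) * μ b (p b) = 1 := by rcases hp b with h | h <;> rw [h] <;> norm_num
      have h4 : μ b (q b) * μ b (q b) = 1 := by rcases hq b with h | h <;> rw [h] <;> norm_num
      have h5 : ν s (p b) * ν s (p b) + ν s η * ν s η = 2 := by
        have h6 : -(μ b (p b) * μ b (q b)) * ν s (p b) * (-(μ b (p b) * μ b (q b)) * ν s (p b)) =
            (μ b (p b) * μ b (p b)) * (μ b (q b) * μ b (q b)) * (ν s (p b) * ν s (p b)) := by ring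
        rw [h6, h3, h4] at h2
        linarith
      generalize ν s (p b) = u at h5 ⊢
      generalize ν s η = w at h5 ⊢
      have hu1 : u ≤ 1 := by nlinarith [mul_self_nonneg w]
      have hu2 : -1 ≤ u := by nlinarith [mul_self_nonneg w]
      have hw1 : w ≤ 1 := by nlinarith [mul_self_nonneg u]
      have hw2 : -1 ≤ w := by nlinarith [mul_self_nonneg u]
      have hu0 : u ≠ 0 := by
        rintro rfl
        have h6 : w * w = 2 := by linarith
        interval_cases w <;> omega
      have hw0 : w ≠ 0 := by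
        rintro rfl
        have h6 : u * u = 2 := by linarith
        interval_cases u <;> omega
      omega
    have horth : ν true (p b) * ν false (p b) + ν true η * ν false η = 0 := by
      have h2 := hν0
      rw [hsum true false, hx' true, hx' false] at h2
      have h3 : μ b (p b) * μ b (p b) = 1 := by rcases hp b with h | h <;> rw [h] <;> norm_num
      have h4 : μ b (q b) * μ b (q b) = 1 := by rcases hq b with h | h <;> rw [h] <;> norm_num
      have h6 : -(μ b (p b) * μ b (q b)) * ν true (p b) * (-(μ b (p b) * μ b (q b)) * ν false (p b)) =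
          (μ b (p b) * μ b (p b)) * (μ b (q b) * μ b (q b)) * (ν true (p b) * ν false (p b)) := by ring
      rw [h6, h3, h4] at h2
      linarith
    refine ⟨b, p b, μ b (p b), ν true (p b), -(ν true η * ν false η), hp b, (hpm true).1, ?_, fun i => ?_⟩
    · rcases (hpm true).2 with h2 | h2 <;> rcases (hpm false).2 with h3 | h3 <;> rw [h2, h3] <;> norm_num
    · have e1 := hx' true
      have e2 := hx' false
      by_cases hip : i = p b
      · subst hip
        rw [if_pos rfl]
        rcases hp b with h2 | h2 <;> rcases (hpm true).1 with h3 | h3 <;> rcases (hpm false).1 with h4 | h4 <;>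
          rcases (hpm true).2 with h5 | h5 <;> rcases (hpm false).2 with h6 | h6 <;>
          rw [h3, h4, h5, h6] at horth <;> rw [h2, h3, h4, h5, h6] <;> omega
      · rw [if_neg hip]
        by_cases hiq : i = q b
        · subst hiq
          rw [e1, e2]
          rcases hp b with h2 | h2 <;> rcases (hpm true).1 with h3 | h3 <;> rcases (hpm false).1 with h4 | h4 <;>
            rcases (hpm true).2 with h5 | h5 <;> rcases (hpm false).2 with h6 | h6 <;> rcases hq b with h7 | h7 <;>
            rw [h3, h4, h5, h6] at horth <;> rw [h2, h3, h4, h5, h6, h7] <;> omega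
        · rw [h0 b i hip hiq]
          by_cases hiη : i = η ∨ i = η'
          · have h8 : ∀ s, ν s i = ν s η := by
              rcases hiη with rfl | rfl
              · exact fun _ => rfl
              · exact hy
            rw [h8, h8]
            rcases (hpm true).2 with h5 | h5 <;> rcases (hpm false).2 with h6 | h6 <;> rw [h5, h6] <;> ring
          · push Not at hiη
            rw [hz true i hip hiq hiη.1 hiη.2, hz false i hip hiq hiη.1 hiη.2]
            ring
  · left
    push Not at hreal
    have hz : ∀ s i, i ≠ η → i ≠ η' → ν s i = 0 := by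
      intro s i h4 h5
      by_cases hiS : i ∈ S
      · exact hνS s i hiS
      · by_contra hcon
        have h6 := (hC' i).2 ⟨hiS, fun b' =>
          ⟨fun h => hcon (h ▸ (hsw b' s (hreal b')).1), fun h => hcon (h ▸ (hsw b' s (hreal b')).2)⟩⟩
        rcases h6 with h6 | h6
        · exact h4 h6
        · exact h5 h6
    intro s i
    have h2 := hν4 s
    rw [Fintype.sum_eq_add η η' hη fun i hi => by rw [hz s i hi.1 hi.2, zero_mul]] at h2
    have key : ∀ u w : ℤ, u * u + w * w = 4 → Even u := by
      intro u w h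
      have hu1 : u ≤ 2 := by nlinarith [mul_self_nonneg w]
      have hu2 : -2 ≤ u := by nlinarith [mul_self_nonneg w]
      by_contra hcon
      rw [Int.not_even_iff_odd] at hcon
      have hu : u = 1 ∨ u = -1 := by
        obtain ⟨t, ht⟩ := hcon
        omega
      have hw : w * w = 3 := by rcases hu with rfl | rfl <;> linarith
      have hw1 : w ≤ 2 := by nlinarith
      have hw2 : -2 ≤ w := by nlinarith
      interval_cases w <;> omega
    by_cases h3 : i = η
    · rw [h3]
      exact key _ _ h2
    · by_cases h4 : i = η'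
      · rw [h4]
        exact key _ _ (by rw [add_comm]; exact h2)
      · rw [hz s i h3 h4]
        exact ⟨0, rfl⟩

section main

variable {G : Type u} [Group G] [Finite G] {k r m n : ℕ}

theorem degree_dvd (χ : IrrCharacter G) : ∃ d : ℕ, 0 < d ∧ (χ : G → ℂ) 1 = d ∧ d ∣ Nat.card G := by
  obtain ⟨d, hd, hd'⟩ := isIrr_apply_one χ.2
  obtain ⟨N, ρ, hρ, h⟩ := χ.2
  have h5 := Characters.DegreeBounds.finrank_dvd_card ρ
  refine ⟨d, hd, hd', ?_⟩
  have h6 : (χ : G → ℂ) 1 = (Module.finrank ℂ (Fin N → ℂ) : ℂ) := by rw [← h, Representation.char_one]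
  rw [hd'] at h6
  rw [show d = Module.finrank ℂ (Fin N → ℂ) from by exact_mod_cast h6]
  exact h5

/-- the real irreducible characters -/
theorem card_real_le_of (T : ClassTab G k) (real : Fin k → Bool)
    (hreal : ∀ i, real i = false → ¬ IsConj (T.x i) (T.x i)⁻¹)
    (card_real : (Finset.univ.filter fun i => real i = true).card ≤ m) :
    Nat.card {χ : IrrCharacter G // cj χ = χ} ≤ m := by
  have h1 : Nat.card {χ : IrrCharacter G // cj χ = χ} =
      Nat.card {χ : IrrCharacter G // ∀ g : G, ((χ : G → ℂ) g).im = 0} :=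
    Nat.card_congr (Equiv.subtypeEquivRight fun χ => cj_eq_iff χ)
  rw [h1, S0160.result]
  refine le_trans ?_ card_real
  rw [← Fintype.card_subtype, ← Nat.card_eq_fintype_card]
  have hf : ∀ C : {C : ConjClasses G // ∀ g : G, ConjClasses.mk g = C → IsConj g g⁻¹},
      real (T.cl (ConjClasses.exists_rep C.1).choose) = true := by
    intro C
    have h2 := C.2 _ (ConjClasses.exists_rep C.1).choose_spec
    generalize (ConjClasses.exists_rep C.1).choose = g at h2 ⊢
    by_contra hcon
    rw [Bool.not_eq_true] at hcon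
    refine hreal _ hcon ?_
    obtain ⟨y, hy⟩ := isConj_iff.1 (T.isConj_cl g)
    have h3 : IsConj (T.x (T.cl g))⁻¹ g⁻¹ := isConj_iff.2 ⟨y, by
      conv_rhs => rw [← hy]
      group⟩
    exact (T.isConj_cl g).trans (h2.trans h3.symm)
  refine Nat.card_le_card_of_injective (fun C => ⟨T.cl (ConjClasses.exists_rep C.1).choose, hf C⟩) fun C C' h => ?_
  have h4 : T.cl (ConjClasses.exists_rep C.1).choose = T.cl (ConjClasses.exists_rep C'.1).choose :=
    congrArg Subtype.val h
  apply Subtype.ext
  rw [← (ConjClasses.exists_rep C.1).choose_spec, ← (ConjClasses.exists_rep C'.1).choose_spec]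
  apply ConjClasses.mk_eq_mk_iff_isConj.2
  have h5 := T.isConj_cl (ConjClasses.exists_rep C.1).choose
  rw [h4] at h5
  exact h5.symm.trans (T.isConj_cl _)

/-- **Two irreducible characters given by their doubles** -/
theorem GC.of_double (T : ClassTab G k) (rc : Fin k → Fin r) (R : Fin m → Fin r → ℤ) (P : Fin n → Fin r → ℤ)
    (i0 : Fin k) (real : Fin k → Bool) (hi0 : T.x i0 = 1)
    (gP : ∀ b, GC T rc (P b))
    (RR : ∀ a b, ∑ i, ((Nat.card G / T.c i : ℕ) : ℤ) * (R a (rc i) * R b (rc i)) =
      if a = b then (Nat.card G : ℤ) else 0)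
    (PP : ∀ a b, ∑ i, ((Nat.card G / T.c i : ℕ) : ℤ) * (P a (rc i) * P b (rc i)) =
      if a = b then 2 * (Nat.card G : ℤ) else 0)
    (RP : ∀ a b, ∑ i, ((Nat.card G / T.c i : ℕ) : ℤ) * (R a (rc i) * P b (rc i)) = 0)
    (Rpos : ∀ a, 0 < R a (rc i0)) (hk : k = m + 2 * n)
    (hreal : ∀ i, real i = false → ¬ IsConj (T.x i) (T.x i)⁻¹)
    (card_real : (Finset.univ.filter fun i => real i = true).card ≤ m)
    (a1 a2 : Fin m) (hne : a1 ≠ a2) (gR : ∀ a, a ≠ a1 → a ≠ a2 → GC T rc (R a))
    (g1 : GC T rc (fun j => 2 * R a1 j)) (g2 : GC T rc (fun j => 2 * R a2 j))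
    (hodd : ∀ b, ∃ i, Odd (P b (rc i) + R a1 (rc i) + R a2 (rc i)))
    (hdeg : ∀ b b', b ≠ b' → ¬ (P b (rc i0) + P b' (rc i0)) ∣ 2 * (Nat.card G : ℤ)) :
    GC T rc (R a1) ∧ GC T rc (R a2) := by
  classical
  have := Fintype.ofFinite G
  have : Finite (IrrCharacter G) := finite_irr
  have := Fintype.ofFinite (IrrCharacter G)
  have hN : (0 : ℤ) < Nat.card G := by exact_mod_cast Nat.card_pos
  have hreal' := card_real_le_of T real hreal card_real
  choose q hq hqv using gP
  -- the irreducible ones
  have hR : ∀ a : {a : Fin m // a ≠ a1 ∧ a ≠ a2}, ∃ χ : IrrCharacter G, ∀ i, (χ : G → ℂ) (T.x i) = R a.1 (rc i) := by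
    rintro ⟨a, ha1, ha2⟩
    obtain ⟨f, hf, hfv⟩ := gR a ha1 ha2
    have h1 : classInner f f = ((1 : ℤ) : ℂ) :=
      Table.inner_int hf hf hfv hfv (by rw [RR a a, if_pos rfl, one_mul])
    rw [inner_sum_mu hf hf] at h1
    obtain ⟨χ, h2, h3⟩ := one_of_sum_sq (m := mu hf) (by exact_mod_cast h1)
    have h4 : ∀ g, f g = (mu hf χ : ℂ) * (χ : G → ℂ) g := by
      intro g
      rw [apply_mu hf g]
      exact Finset.sum_eq_single χ (fun χ' _ h => by rw [h3 χ' h, Int.cast_zero, zero_mul])
        fun h => absurd (Finset.mem_univ χ) h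
    have h5 : mu hf χ = 1 := by
      refine h2.resolve_right fun h => ?_
      have h6 := h4 1
      obtain ⟨d, hd, hd'⟩ := isIrr_apply_one χ.2
      have h7 := hfv i0
      rw [hi0, h6, h, hd'] at h7
      have h8 : (-1 : ℤ) * (d : ℤ) = R a (rc i0) := by exact_mod_cast h7
      have h9 := Rpos a
      omega
    refine ⟨χ, fun i => ?_⟩
    rw [← hfv, h4, h5, Int.cast_one, one_mul]
  choose χ hχ using hR
  have hgen : ∀ η : IrrCharacter G, IsGeneralizedCharacter G (η : G → ℂ) := fun η =>
    isGeneralizedCharacter_of_isCharacter (isIrr_isCharacter η.2)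
  have hχreal : ∀ a, cj (χ a) = χ a := by
    intro a
    refine Subtype.ext (funext fun g => ?_)
    exact Table.conj_value (hgen _) (hχ a) g
  have hχinj : Function.Injective χ := by
    intro a b hab
    by_contra hne
    have h1 : classInner (χ a : G → ℂ) (χ b : G → ℂ) = ((0 : ℤ) : ℂ) :=
      Table.inner_int (hgen _) (hgen _) (hχ a) (hχ b) (by
        rw [RR a.1 b.1, if_neg fun h => hne (Subtype.ext h), zero_mul])
    rw [hab, classInner_irr_self (χ b).2, Int.cast_zero] at h1
    exact one_ne_zero h1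
  obtain ⟨f1, hf1, hf1v⟩ := g1
  obtain ⟨f2, hf2, hf2v⟩ := g2
  let A : Bool → Fin m := fun s => if s then a1 else a2
  let f : Bool → G → ℂ := fun s => if s then f1 else f2
  have hf : ∀ s, IsGeneralizedCharacter G (f s) := by rintro (_ | _); exacts [hf2, hf1]
  have hfv : ∀ s i, f s (T.x i) = ((2 * R (A s) (rc i) : ℤ) : ℂ) := by rintro (_ | _); exacts [hf2v, hf1v]
  have hA : ∀ a : {a : Fin m // a ≠ a1 ∧ a ≠ a2}, ∀ s, A s ≠ a.1 := by
    rintro ⟨a, ha1, ha2⟩ (_ | _)
    · exact ha2.symm
    · exact ha1.symm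
  have hmuirr : ∀ {φ : G → ℂ} (h : IsGeneralizedCharacter G φ) {v : Fin r → ℤ} (_ : ∀ i, φ (T.x i) = v (rc i))
      (a : {a : Fin m // a ≠ a1 ∧ a ≠ a2}),
      ∑ i, ((Nat.card G / T.c i : ℕ) : ℤ) * (v (rc i) * R a.1 (rc i)) = 0 → mu h (χ a) = 0 := by
    intro φ h v hv a h1
    have h2 : classInner φ (χ a : G → ℂ) = ((0 : ℤ) : ℂ) :=
      Table.inner_int h (hgen _) hv (hχ a) (by rw [h1, zero_mul])
    rw [inner_mu h] at h2
    exact_mod_cast h2
  have hcomb := comb_double (I := IrrCharacter G) (n := n) cj cj_cj (Finset.univ.image χ)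
    (fun i hi => by
      obtain ⟨a, -, rfl⟩ := Finset.mem_image.1 hi
      exact hχreal a)
    (fun b => mu (hq b)) (fun s => mu (hf s))
    (fun b i => mu_cj (hq b) (Table.conj_value (hq b) (hqv b)) i)
    (fun s i => mu_cj (hf s) (Table.conj_value (v := fun j => 2 * R (A s) j) (hf s) (hfv s)) i)
    (fun b i hi => by
      obtain ⟨a, -, rfl⟩ := Finset.mem_image.1 hi
      refine hmuirr (hq b) (hqv b) a ?_
      rw [← RP a.1 b]
      exact Finset.sum_congr rfl fun i _ => by ring)
    (fun s i hi => by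
      obtain ⟨a, -, rfl⟩ := Finset.mem_image.1 hi
      refine hmuirr (hf s) (v := fun j => 2 * R (A s) j) (hfv s) a ?_
      have h1 := RR (A s) a.1
      rw [if_neg (hA a s)] at h1
      calc _ = 2 * ∑ i, ((Nat.card G / T.c i : ℕ) : ℤ) * (R (A s) (rc i) * R a.1 (rc i)) := by
            rw [Finset.mul_sum]
            exact Finset.sum_congr rfl fun i _ => by ring
        _ = 0 := by rw [h1, mul_zero])
    (fun b => by
      have h1 : classInner (q b) (q b) = ((2 : ℤ) : ℂ) :=
        Table.inner_int (hq b) (hq b) (hqv b) (hqv b) (by rw [PP b b, if_pos rfl])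
      rw [inner_sum_mu (hq b) (hq b)] at h1
      exact_mod_cast h1)
    ?_ (fun s b => by
      have h1 : classInner (f s) (q b) = ((0 : ℤ) : ℂ) := by
        refine Table.inner_int (hf s) (hq b) (v := fun j => 2 * R (A s) j) (hfv s) (hqv b) ?_
        calc _ = 2 * ∑ i, ((Nat.card G / T.c i : ℕ) : ℤ) * (R (A s) (rc i) * P b (rc i)) := by
              rw [Finset.mul_sum]
              exact Finset.sum_congr rfl fun i _ => by ring
          _ = 0 * (Nat.card G : ℤ) := by rw [RP, mul_zero, zero_mul]
      rw [inner_sum_mu (hf s) (hq b)] at h1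
      exact_mod_cast h1)
    (fun s => by
      have h1 : classInner (f s) (f s) = ((4 : ℤ) : ℂ) := by
        refine Table.inner_int (hf s) (hf s) (v := fun j => 2 * R (A s) j) (w := fun j => 2 * R (A s) j) (hfv s) (hfv s) ?_
        calc _ = 4 * ∑ i, ((Nat.card G / T.c i : ℕ) : ℤ) * (R (A s) (rc i) * R (A s) (rc i)) := by
              rw [Finset.mul_sum]
              exact Finset.sum_congr rfl fun i _ => by ring
          _ = 4 * (Nat.card G : ℤ) := by rw [RR, if_pos rfl]
      rw [inner_sum_mu (hf s) (hf s)] at h1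
      exact_mod_cast h1)
    (by
      have h1 : classInner (f true) (f false) = ((0 : ℤ) : ℂ) := by
        refine Table.inner_int (hf true) (hf false) (v := fun j => 2 * R a1 j) (w := fun j => 2 * R a2 j) (hfv true)
          (hfv false) ?_
        calc _ = 4 * ∑ i, ((Nat.card G / T.c i : ℕ) : ℤ) * (R a1 (rc i) * R a2 (rc i)) := by
              rw [Finset.mul_sum]
              exact Finset.sum_congr rfl fun i _ => by ring
          _ = 0 * (Nat.card G : ℤ) := by rw [RR, if_neg hne, mul_zero, zero_mul]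
      rw [inner_sum_mu (hf true) (hf false)] at h1
      exact_mod_cast h1)
    ?_ ?_
  · -- conclusion
    have hcase : ∀ s i, Even (mu (hf s) i) := by
      rcases hcomb with h | ⟨b, e, ε, x, δ, hε, hx, hδ, he⟩
      · exact h
      · exfalso
        obtain ⟨i, hi⟩ := hodd b
        have h1 : (2 * ε : ℂ) * q b (T.x i) + x * (f true (T.x i) + δ * f false (T.x i)) = 4 * (e : G → ℂ) (T.x i) := by
          rw [apply_mu (hq b), apply_mu (hf true), apply_mu (hf false), Finset.mul_sum, Finset.mul_sum,
            ← Finset.sum_add_distrib, Finset.mul_sum, ← Finset.sum_add_distrib]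
          rw [Finset.sum_congr rfl (g := fun η : IrrCharacter G => if η = e then 4 * (e : G → ℂ) (T.x i) else 0)
            fun η _ => ?_]
          · rw [Finset.sum_ite_eq', if_pos (Finset.mem_univ _)]
          · have h2 := congrArg (fun z : ℤ => (z : ℂ)) (he η)
            push_cast at h2
            by_cases h3 : η = e
            · rw [if_pos h3] at h2 ⊢
              subst h3
              linear_combination ((η : G → ℂ) (T.x i)) * h2
            · rw [if_neg h3] at h2 ⊢
              linear_combination ((η : G → ℂ) (T.x i)) * h2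
        rw [hqv, hfv, hfv, show A true = a1 from rfl, show A false = a2 from rfl] at h1
        obtain ⟨t, ht⟩ := Characters.GaloisBasic.exists_int_of_rat (isIrr_isCharacter e.2) (T.x i)
          ⟨((ε * P b (rc i) + x * (R a1 (rc i) + δ * R a2 (rc i)) : ℤ) : ℚ) / 2, by
            push_cast at h1 ⊢
            linear_combination (-1 / 4 : ℂ) * h1⟩
        rw [ht] at h1
        have h3 : 2 * ε * P b (rc i) + x * (2 * R a1 (rc i) + δ * (2 * R a2 (rc i))) = 4 * t := by exact_mod_cast h1
        have h4 : ε * P b (rc i) + x * (R a1 (rc i) + δ * R a2 (rc i)) = 2 * t := by linarith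
        obtain ⟨z, hz⟩ := hi
        rcases hε with rfl | rfl <;> rcases hx with rfl | rfl <;> rcases hδ with rfl | rfl <;> omega
    have hfin : ∀ s, GC T rc (R (A s)) := by
      intro s
      choose κ hκ using hcase s
      refine ⟨∑ η : IrrCharacter G, κ η • (η : G → ℂ), isGeneralizedCharacter_iff.2 ⟨κ, rfl⟩, fun i => ?_⟩
      have h1 := hfv s i
      rw [apply_mu (hf s)] at h1
      have h2 : (∑ η : IrrCharacter G, κ η • (η : G → ℂ)) (T.x i) = ∑ η : IrrCharacter G, (κ η : ℂ) * (η : G → ℂ) (T.x i) := by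
        rw [Finset.sum_apply]
        refine Finset.sum_congr rfl fun η _ => ?_
        rw [Pi.smul_apply, zsmul_eq_mul]
      have h3 : ∑ η : IrrCharacter G, ((mu (hf s) η : ℤ) : ℂ) * (η : G → ℂ) (T.x i) =
          2 * ∑ η : IrrCharacter G, (κ η : ℂ) * (η : G → ℂ) (T.x i) := by
        rw [Finset.mul_sum]
        refine Finset.sum_congr rfl fun η _ => ?_
        rw [hκ η]
        push_cast
        ring
      rw [h3] at h1
      rw [h2]
      push_cast at h1
      linear_combination (1 / 2 : ℂ) * h1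
    exact ⟨hfin true, hfin false⟩
  · -- disjointness
    intro b b' hbb i hi
    by_contra hi'
    have hn2 : ∀ b, ∑ η, mu (hq b) η * mu (hq b) η = 2 := by
      intro b
      have h1 : classInner (q b) (q b) = ((2 : ℤ) : ℂ) :=
        Table.inner_int (hq b) (hq b) (hqv b) (hqv b) (by rw [PP b b, if_pos rfl])
      rw [inner_sum_mu (hq b) (hq b)] at h1
      exact_mod_cast h1
    have hn0 : ∑ η, mu (hq b) η * mu (hq b') η = 0 := by
      have h1 : classInner (q b) (q b') = ((0 : ℤ) : ℂ) :=
        Table.inner_int (hq b) (hq b') (hqv b) (hqv b') (by rw [PP b b', if_neg hbb, zero_mul])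
      rw [inner_sum_mu (hq b) (hq b')] at h1
      exact_mod_cast h1
    obtain ⟨p1, p2, h12, hp1, hp2, h0⟩ := two_of_sum_sq (hn2 b)
    obtain ⟨q1, q2, h12', hq1, hq2, h0'⟩ := two_of_sum_sq (hn2 b')
    rw [Fintype.sum_eq_add p1 p2 h12 fun x hx => by rw [h0 x hx.1 hx.2, zero_mul]] at hn0
    have hmem : ∀ x, mu (hq b) x ≠ 0 → x = p1 ∨ x = p2 := by
      intro x hx
      by_contra hcon
      push Not at hcon
      exact hx (h0 x hcon.1 hcon.2)
    have hmem' : ∀ x, mu (hq b') x ≠ 0 → x = q1 ∨ x = q2 := by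
      intro x hx
      by_contra hcon
      push Not at hcon
      exact hx (h0' x hcon.1 hcon.2)
    have hboth : mu (hq b') p1 ≠ 0 ∧ mu (hq b') p2 ≠ 0 := by
      rcases hmem i hi with h | h
      · rw [h] at hi'
        refine ⟨hi', fun h2 => hi' ?_⟩
        rw [h2, mul_zero, add_zero] at hn0
        refine (mul_eq_zero.1 hn0).resolve_left ?_
        rcases hp1 with h3 | h3 <;> rw [h3] <;> norm_num
      · rw [h] at hi'
        refine ⟨fun h2 => hi' ?_, hi'⟩
        rw [h2, mul_zero, zero_add] at hn0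
        refine (mul_eq_zero.1 hn0).resolve_left ?_
        rcases hp2 with h3 | h3 <;> rw [h3] <;> norm_num
    have hset : (mu (hq b') p1 = 1 ∨ mu (hq b') p1 = -1) ∧ (mu (hq b') p2 = 1 ∨ mu (hq b') p2 = -1) ∧
        ∀ x, x ≠ p1 → x ≠ p2 → mu (hq b') x = 0 := by
      rcases hmem' p1 hboth.1 with e1 | e1 <;> rcases hmem' p2 hboth.2 with e2 | e2
      · exact absurd (e1.trans e2.symm) h12
      · rw [e1, e2]
        exact ⟨hq1, hq2, h0'⟩
      · rw [e1, e2]
        exact ⟨hq2, hq1, fun x hx hx' => h0' x hx' hx⟩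
      · exact absurd (e1.trans e2.symm) h12
    obtain ⟨hq1', hq2', h0''⟩ := hset
    obtain ⟨d1, hd1, hd1', hdvd1⟩ := degree_dvd p1
    obtain ⟨d2, hd2, hd2', hdvd2⟩ := degree_dvd p2
    have e1 : P b (rc i0) = mu (hq b) p1 * d1 + mu (hq b) p2 * d2 := by
      have h1 := hqv b i0
      rw [hi0, apply_mu (hq b), Fintype.sum_eq_add p1 p2 h12 fun x hx => by
        rw [h0 x hx.1 hx.2, Int.cast_zero, zero_mul], hd1', hd2'] at h1
      exact_mod_cast h1.symm
    have e2 : P b' (rc i0) = mu (hq b') p1 * d1 + mu (hq b') p2 * d2 := by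
      have h1 := hqv b' i0
      rw [hi0, apply_mu (hq b'), Fintype.sum_eq_add p1 p2 h12 fun x hx => by
        rw [h0'' x hx.1 hx.2, Int.cast_zero, zero_mul], hd1', hd2'] at h1
      exact_mod_cast h1.symm
    have e3 : P b (rc i0) + P b' (rc i0) = 2 * d1 ∨ P b (rc i0) + P b' (rc i0) = -(2 * d1) ∨
        P b (rc i0) + P b' (rc i0) = 2 * d2 ∨ P b (rc i0) + P b' (rc i0) = -(2 * d2) := by
      rw [e1, e2]
      rcases hp1 with h3 | h3 <;> rcases hp2 with h4 | h4 <;> rcases hq1' with h5 | h5 <;> rcases hq2' with h6 | h6 <;>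
        rw [h3, h4, h5, h6] at hn0 <;> rw [h3, h4, h5, h6] <;> omega
    refine hdeg b b' hbb ?_
    have hd1N : (2 * d1 : ℤ) ∣ 2 * (Nat.card G : ℤ) := mul_dvd_mul_left 2 (Int.natCast_dvd_natCast.2 hdvd1)
    have hd2N : (2 * d2 : ℤ) ∣ 2 * (Nat.card G : ℤ) := mul_dvd_mul_left 2 (Int.natCast_dvd_natCast.2 hdvd2)
    rcases e3 with h | h | h | h <;> rw [h]
    · exact hd1N
    · exact (neg_dvd).2 hd1N
    · exact hd2N
    · exact (neg_dvd).2 hd2N
  · rw [← Nat.card_eq_fintype_card, card_irr, T.card_classes, hk, Finset.card_image_of_injective _ hχinj]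
    have h1 : (Finset.univ : Finset {a : Fin m // a ≠ a1 ∧ a ≠ a2}).card = m - 2 := by
      rw [Finset.card_univ, Fintype.card_subtype]
      have h2 : (Finset.univ.filter fun a : Fin m => a ≠ a1 ∧ a ≠ a2) = (Finset.univ.erase a1).erase a2 := by
        ext a
        simp only [Finset.mem_filter, Finset.mem_univ, true_and, Finset.mem_erase, and_true]
        exact and_comm
      rw [h2, Finset.card_erase_of_mem (by simp [hne.symm]), Finset.card_erase_of_mem (Finset.mem_univ _), Finset.card_univ,
        Fintype.card_fin]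
      omega
    have h2 : 2 ≤ m := by
      have e1 := a1.2
      have e2 := a2.2
      have e3 : a1.1 ≠ a2.1 := fun h => hne (Fin.ext h)
      omega
    rw [h1]
    omega
  · rw [Finset.card_image_of_injective _ hχinj]
    have h1 : (Finset.univ : Finset {a : Fin m // a ≠ a1 ∧ a ≠ a2}).card = m - 2 := by
      rw [Finset.card_univ, Fintype.card_subtype]
      have h2 : (Finset.univ.filter fun a : Fin m => a ≠ a1 ∧ a ≠ a2) = (Finset.univ.erase a1).erase a2 := by
        ext a
        simp only [Finset.mem_filter, Finset.mem_univ, true_and, Finset.mem_erase, and_true]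
        exact and_comm
      rw [h2, Finset.card_erase_of_mem (by simp [hne.symm]), Finset.card_erase_of_mem (Finset.mem_univ _), Finset.card_univ,
        Fintype.card_fin]
      omega
    have h2 : 2 ≤ m := by
      have e1 := a1.2
      have e2 := a2.2
      have e3 : a1.1 ≠ a2.1 := fun h => hne (Fin.ext h)
      omega
    rw [h1]
    have h3 : (Finset.univ.filter fun i : IrrCharacter G => cj i = i).card = Nat.card {χ : IrrCharacter G // cj χ = χ} := by
      rw [Nat.card_eq_fintype_card, Fintype.card_subtype]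
    rw [h3]
    omega

end main

end Cfsg.Agent.H447.CTab
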