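import Cfsg.Agent.H447.CTab
import Mathlib.LinearAlgebra.Matrix.Determinant.Basic

/-!
# Exterior squares and cubes, characters of invariant idempotents (helper447, for helper359, S4819 / S4820)

* `ext_two`, `ext_three`, `sym_two`, `sym_three` : exterior and symmetric squares and cubes of characters,
  `gen_ext_two`, `gen_ext_three` : the lambda operations of generalized characters;
* `isCharacter_of_idem` : for an invariant idempotent matrix `P` on a finite `G`-set the function
  `g ↦ ∑ x, P x (g • x)` is a character;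
* `isCharacter_srg` : the characters of the eigenspaces of a strongly regular graph.
-/

set_option autoImplicit false

namespace Cfsg.Agent.H447.CTab

open Cfsg Cfsg.Agent.Characters.Core Cfsg.Agent.Characters.Brauer Cfsg.Agent.H139.Cusp
open scoped ComplexConjugate

universe u

section tensor

variable {G : Type u} [Group G] [Finite G]

omit [Finite G] in
/-- the tensor powers with the action of the symmetric group -/
theorem exists_tensor {χ : G → ℂ} (hχ : IsCharacter G χ) (d : ℕ) :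
    ∃ (n : ℕ) (M : G →* Matrix (Fin n) (Fin n) ℂ), (∀ g, (M g).trace = χ g) ∧
      IsCharacter (G × Equiv.Perm (Fin d))
        (fun x => ∑ y : Fin d → Fin n, ∏ i, M x.1 (y (x.2 i)) (y i)) := by
  classical
  obtain ⟨n, ρ, rfl⟩ := hχ
  let M : G →* Matrix (Fin n) (Fin n) ℂ :=
    ((LinearMap.toMatrixAlgEquiv' : ((Fin n → ℂ) →ₗ[ℂ] (Fin n → ℂ)) ≃ₐ[ℂ] Matrix (Fin n) (Fin n) ℂ) :
      ((Fin n → ℂ) →ₗ[ℂ] (Fin n → ℂ)) →* Matrix (Fin n) (Fin n) ℂ).comp ρ
  have hM : ∀ g, (M g).trace = ρ.character g := by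
    intro g
    show (LinearMap.toMatrix' (ρ g)).trace = LinearMap.trace ℂ (Fin n → ℂ) (ρ g)
    rw [← Matrix.trace_toLin'_eq, Matrix.toLin'_toMatrix']
  refine ⟨n, M, hM, ?_⟩
  let f : G × Equiv.Perm (Fin d) →* Matrix (Fin d → Fin n) (Fin d → Fin n) ℂ :=
    { toFun := fun x => tpow (Fin d) (M x.1) * pmat ℂ (Fin n) x.2
      map_one' := by
        rw [Prod.snd_one, pmat_one, mul_one, Prod.fst_one, map_one, tpow_one]
      map_mul' := fun x y => by
        rw [Prod.snd_mul, pmat_mul, Prod.fst_mul, map_mul, tpow_mul, mul_assoc, mul_assoc]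
        congr 1
        rw [← mul_assoc, ← pmat_comm, mul_assoc] }
  let ρ' : Representation ℂ (G × Equiv.Perm (Fin d)) ((Fin d → Fin n) → ℂ) :=
    ((Matrix.toLinAlgEquiv' : Matrix (Fin d → Fin n) (Fin d → Fin n) ℂ ≃ₐ[ℂ] _) :
      Matrix (Fin d → Fin n) (Fin d → Fin n) ℂ →* _).comp f
  have h1 : (fun x : G × Equiv.Perm (Fin d) => ∑ y : Fin d → Fin n, ∏ i, M x.1 (y (x.2 i)) (y i)) =
      ρ'.character := by
    funext x
    have h2 : ρ'.character x = (tpow (Fin d) (M x.1) * pmat ℂ (Fin n) x.2).trace := Matrix.trace_toLin'_eq _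
    rw [h2, trace_tpow_pmat]
  rw [h1]
  exact isCharacter_of_rep ρ'

/-- the sign -/
noncomputable def sgn (d : ℕ) : Equiv.Perm (Fin d) →* ℂ :=
  ((Int.castRingHom ℂ : ℤ →+* ℂ) : ℤ →* ℂ).comp ((Units.coeHom ℤ).comp Equiv.Perm.sign)

theorem sgn_apply (d : ℕ) (σ : Equiv.Perm (Fin d)) : sgn d σ = ((Equiv.Perm.sign σ : ℤ) : ℂ) := rfl

/-- **the exterior powers** -/
theorem isCharacter_ext {χ : G → ℂ} (hχ : IsCharacter G χ) (d : ℕ) :
    ∃ (n : ℕ) (M : G →* Matrix (Fin n) (Fin n) ℂ), (∀ g, (M g).trace = χ g) ∧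
      IsCharacter G (fun g => (d.factorial : ℂ)⁻¹ * ∑ y : Fin d → Fin n, ((M g).submatrix y y).det) ∧
      IsCharacter G (fun g => (d.factorial : ℂ)⁻¹ * ∑ σ : Equiv.Perm (Fin d),
        ∑ y : Fin d → Fin n, ∏ i, M g (y (σ i)) (y i)) := by
  classical
  obtain ⟨n, M, hM, hΨ⟩ := exists_tensor hχ d
  refine ⟨n, M, hM, ?_, ?_⟩
  · have h1 := slice_isCharacter hΨ (isCharacter_of_monoidHom (sgn d))
    refine (?_ : (fun g => _) = (fun g => _)) ▸ h1
    funext g
    rw [Nat.card_eq_fintype_card, Fintype.card_perm, Fintype.card_fin]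
    congr 1
    simp only [Matrix.det_apply, Finset.sum_mul]
    rw [Finset.sum_comm]
    refine Finset.sum_congr rfl fun y _ => Finset.sum_congr rfl fun σ _ => ?_
    rw [sgn_apply, map_intCast, mul_comm, Units.smul_def, zsmul_eq_mul]
    rfl
  · have h1 := slice_isCharacter hΨ (isCharacter_one (G := Equiv.Perm (Fin d)))
    refine (?_ : (fun g => _) = (fun g => _)) ▸ h1
    funext g
    rw [Nat.card_eq_fintype_card, Fintype.card_perm, Fintype.card_fin]
    congr 1
    refine Finset.sum_congr rfl fun σ _ => ?_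
    rw [Pi.one_apply, map_one, mul_one]

theorem sum_two {ι : Type*} [Fintype ι] (f : (Fin 2 → ι) → ℂ) : ∑ y, f y = ∑ a, ∑ b, f ![a, b] := by
  rw [← Fintype.sum_prod_type']
  refine Fintype.sum_equiv (finTwoArrowEquiv ι) _ _ fun y => ?_
  congr 1
  funext i
  fin_cases i <;> rfl

theorem sum_three {ι : Type*} [Fintype ι] (f : (Fin 3 → ι) → ℂ) : ∑ y, f y = ∑ a, ∑ b, ∑ c, f ![a, b, c] := by
  have h1 : ∑ y, f y = ∑ p : ι × ι × ι, f ![p.1, p.2.1, p.2.2] := by
    refine Fintype.sum_equiv (⟨fun y => (y 0, y 1, y 2), fun p => ![p.1, p.2.1, p.2.2], fun y => ?_, fun p => rfl⟩ :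
      (Fin 3 → ι) ≃ ι × ι × ι) _ _ fun y => ?_
    · funext i
      fin_cases i <;> rfl
    · congr 1
      funext i
      fin_cases i <;> rfl
  rw [h1, Fintype.sum_prod_type]
  refine Finset.sum_congr rfl fun a _ => ?_
  rw [Fintype.sum_prod_type]

theorem trace_two {n : ℕ} (A : Matrix (Fin n) (Fin n) ℂ) : (A ^ 2).trace = ∑ a, ∑ b, A a b * A b a := by
  rw [pow_two, Matrix.trace]
  exact Finset.sum_congr rfl fun a _ => by rw [Matrix.diag_apply, Matrix.mul_apply]

theorem trace_three {n : ℕ} (A : Matrix (Fin n) (Fin n) ℂ) :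
    (A ^ 3).trace = ∑ a, ∑ b, ∑ c, A a b * A b c * A c a := by
  rw [pow_succ, pow_two, Matrix.trace]
  refine Finset.sum_congr rfl fun a _ => ?_
  rw [Matrix.diag_apply, Matrix.mul_apply, Finset.sum_comm]
  refine Finset.sum_congr rfl fun c _ => ?_
  rw [Matrix.mul_apply, Finset.sum_mul]

/-- **the exterior square** -/
theorem ext_two {χ : G → ℂ} (hχ : IsCharacter G χ) : IsCharacter G (fun g => (χ g * χ g - χ (g ^ 2)) / 2) := by
  obtain ⟨n, M, hM, h, -⟩ := isCharacter_ext hχ 2
  refine (?_ : (fun g => _) = (fun g => _)) ▸ h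
  funext g
  rw [← hM g, ← hM (g ^ 2), map_pow, trace_two, sum_two]
  simp only [Matrix.det_fin_two, Matrix.submatrix_apply, Matrix.cons_val_zero, Matrix.cons_val_one,
    Finset.sum_sub_distrib, Matrix.trace, Matrix.diag_apply, Finset.sum_mul_sum]
  norm_num [Nat.factorial]
  ring

/-- **the exterior cube** -/
theorem ext_three {χ : G → ℂ} (hχ : IsCharacter G χ) :
    IsCharacter G (fun g => (χ g * χ g * χ g - 3 * (χ g * χ (g ^ 2)) + 2 * χ (g ^ 3)) / 6) := by
  obtain ⟨n, M, hM, h, -⟩ := isCharacter_ext hχ 3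
  refine (?_ : (fun g => _) = (fun g => _)) ▸ h
  funext g
  rw [← hM g, ← hM (g ^ 2), ← hM (g ^ 3), map_pow, map_pow, trace_two, trace_three, sum_three]
  generalize M g = A
  have e1 : A.trace * A.trace * A.trace = ∑ a, ∑ b, ∑ c, A a a * A b b * A c c := by
    rw [Matrix.trace, Finset.sum_mul_sum, Finset.sum_mul]
    refine Finset.sum_congr rfl fun a _ => ?_
    rw [Finset.sum_mul_sum]
    rfl
  have e2 : A.trace * (∑ a, ∑ b, A a b * A b a) = ∑ a, ∑ b, ∑ c, A a a * A b c * A c b := by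
    rw [Matrix.trace, Finset.sum_mul]
    refine Finset.sum_congr rfl fun a _ => ?_
    rw [Finset.mul_sum]
    refine Finset.sum_congr rfl fun b _ => ?_
    rw [Finset.mul_sum]
    refine Finset.sum_congr rfl fun c _ => ?_
    rw [Matrix.diag_apply, mul_assoc]
  have e3 : A.trace * (∑ a, ∑ b, A a b * A b a) = ∑ a, ∑ b, ∑ c, A a b * A b a * A c c := by
    rw [mul_comm, Finset.sum_mul]
    refine Finset.sum_congr rfl fun a _ => ?_
    rw [Finset.sum_mul]
    refine Finset.sum_congr rfl fun b _ => ?_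
    rw [Matrix.trace, Finset.mul_sum]
    rfl
  have e4 : A.trace * (∑ a, ∑ b, A a b * A b a) = ∑ a, ∑ b, ∑ c, A a c * A b b * A c a := by
    rw [e2, Finset.sum_comm]
    refine Finset.sum_congr rfl fun a _ => Finset.sum_congr rfl fun b _ => Finset.sum_congr rfl fun c _ => ?_
    ring
  have e5 : ∑ a, ∑ b, ∑ c, A a b * A b c * A c a = ∑ a, ∑ b, ∑ c, A a c * A b a * A c b := by
    refine Finset.sum_congr rfl fun a _ => ?_
    rw [Finset.sum_comm]
    refine Finset.sum_congr rfl fun b _ => Finset.sum_congr rfl fun c _ => ?_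
    ring
  simp only [Matrix.det_fin_three, Matrix.submatrix_apply, Matrix.cons_val_zero, Matrix.cons_val_one,
    Matrix.cons_val_two, Matrix.tail_cons, Matrix.head_cons, Finset.sum_sub_distrib, Finset.sum_add_distrib]
  rw [e1, ← e2, ← e3, ← e4, ← e5]
  norm_num [Nat.factorial]
  ring

/-- **the second lambda operation** -/
theorem gen_ext_two {φ : G → ℂ} (h : IsGeneralizedCharacter G φ) :
    IsGeneralizedCharacter G (fun g => (φ g * φ g - φ (g ^ 2)) / 2) := by
  obtain ⟨α, β, hα, hβ, rfl⟩ := h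
  have gα := isGeneralizedCharacter_of_isCharacter hα
  have gβ := isGeneralizedCharacter_of_isCharacter hβ
  have h1 := isGeneralizedCharacter_add (isGeneralizedCharacter_sub
    (isGeneralizedCharacter_of_isCharacter (ext_two hα)) (isGeneralizedCharacter_mul gα gβ))
    (isGeneralizedCharacter_sub (isGeneralizedCharacter_mul gβ gβ) (isGeneralizedCharacter_of_isCharacter (ext_two hβ)))
  refine (?_ : (fun g => _) = (fun g => _)) ▸ h1
  funext g
  simp only [Pi.add_apply, Pi.sub_apply, Pi.mul_apply]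
  ring

/-- **the third lambda operation** -/
theorem gen_ext_three {φ : G → ℂ} (h : IsGeneralizedCharacter G φ) :
    IsGeneralizedCharacter G (fun g => (φ g * φ g * φ g - 3 * (φ g * φ (g ^ 2)) + 2 * φ (g ^ 3)) / 6) := by
  obtain ⟨α, β, hα, hβ, rfl⟩ := h
  have gα := isGeneralizedCharacter_of_isCharacter hα
  have gβ := isGeneralizedCharacter_of_isCharacter hβ
  have gα2 := isGeneralizedCharacter_of_isCharacter (ext_two hα)
  have gβ2 := isGeneralizedCharacter_of_isCharacter (ext_two hβ)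
  have gα3 := isGeneralizedCharacter_of_isCharacter (ext_three hα)
  have gβ3 := isGeneralizedCharacter_of_isCharacter (ext_three hβ)
  have s2 := isGeneralizedCharacter_sub (isGeneralizedCharacter_mul gβ gβ) gβ2
  have s3 := isGeneralizedCharacter_add (isGeneralizedCharacter_sub
    (isGeneralizedCharacter_mul gβ (isGeneralizedCharacter_mul gβ gβ))
    (isGeneralizedCharacter_add (isGeneralizedCharacter_mul gβ gβ2) (isGeneralizedCharacter_mul gβ gβ2))) gβ3
  have h1 := isGeneralizedCharacter_sub (isGeneralizedCharacter_add (isGeneralizedCharacter_sub gα3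
    (isGeneralizedCharacter_mul gα2 gβ)) (isGeneralizedCharacter_mul gα s2)) s3
  refine (?_ : (fun g => _) = (fun g => _)) ▸ h1
  funext g
  simp only [Pi.add_apply, Pi.sub_apply, Pi.mul_apply]
  ring

end tensor

section GC

variable {G : Type u} [Group G] [Finite G] {k : ℕ} {T : ClassTab G k} {r : ℕ} {rc : Fin k → Fin r}

theorem apply_pow {φ : G → ℂ} (hφ : IsGeneralizedCharacter G φ) {v : Fin r → ℤ} (hv : ∀ i, φ (T.x i) = v (rc i))
    {a : ℕ} {pw : Fin r → Fin r} (h : ∀ i, ∃ j, IsConj (T.x j) (T.x i ^ a) ∧ rc j = pw (rc i)) (i : Fin k) :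
    φ (T.x i ^ a) = v (pw (rc i)) := by
  obtain ⟨j, hj, hj'⟩ := h i
  obtain ⟨g, hg⟩ := isConj_iff.1 hj
  rw [← hg, gen_classFunction hφ, hv, hj']

/-- **the second lambda operation** (exterior square) -/
theorem GC.lambda2 {v w : Fin r → ℤ} (hv : GC T rc v) (pw : Fin r → Fin r)
    (h : ∀ i, ∃ j, IsConj (T.x j) (T.x i ^ 2) ∧ rc j = pw (rc i)) (hw : ∀ j, 2 * w j = v j * v j - v (pw j)) :
    GC T rc w := by
  obtain ⟨φ, h1, h2⟩ := hv
  refine ⟨_, gen_ext_two h1, fun i => ?_⟩
  have h3 : ((2 * w (rc i) : ℤ) : ℂ) = ((v (rc i) * v (rc i) - v (pw (rc i)) : ℤ) : ℂ) := by rw [hw]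
  push_cast at h3
  show (φ (T.x i) * φ (T.x i) - φ (T.x i ^ 2)) / 2 = _
  rw [apply_pow h1 h2 h, h2, ← h3]
  ring

/-- **the third lambda operation** (exterior cube) -/
theorem GC.lambda3 {v w : Fin r → ℤ} (hv : GC T rc v) (pw pw3 : Fin r → Fin r)
    (h : ∀ i, ∃ j, IsConj (T.x j) (T.x i ^ 2) ∧ rc j = pw (rc i))
    (h3 : ∀ i, ∃ j, IsConj (T.x j) (T.x i ^ 3) ∧ rc j = pw3 (rc i))
    (hw : ∀ j, 6 * w j = v j * v j * v j - 3 * (v j * v (pw j)) + 2 * v (pw3 j)) :
    GC T rc w := by
  obtain ⟨φ, h1, h2⟩ := hv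
  refine ⟨_, gen_ext_three h1, fun i => ?_⟩
  have h4 : ((6 * w (rc i) : ℤ) : ℂ) =
      ((v (rc i) * v (rc i) * v (rc i) - 3 * (v (rc i) * v (pw (rc i))) + 2 * v (pw3 (rc i)) : ℤ) : ℂ) := by rw [hw]
  push_cast at h4
  show (φ (T.x i) * φ (T.x i) * φ (T.x i) - 3 * (φ (T.x i) * φ (T.x i ^ 2)) + 2 * φ (T.x i ^ 3)) / 6 = _
  rw [apply_pow h1 h2 h, apply_pow h1 h2 h3, h2, ← h4]
  ring

end GC

/-! ### Invariant idempotents -/

section idem

variable {G : Type u} [Group G]

/-- the character of the image of an invariant idempotent -/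
theorem isCharacter_of_idem_rep {V : Type*} [AddCommGroup V] [Module ℂ V] [FiniteDimensional ℂ V]
    (ρ : Representation ℂ G V) (p : V →ₗ[ℂ] V) (hp : p ∘ₗ p = p) (hc : ∀ g, p ∘ₗ ρ g = ρ g ∘ₗ p) :
    IsCharacter G (fun g => LinearMap.trace ℂ V (p ∘ₗ ρ g)) := by
  have h1 : p.range.subtype ∘ₗ p.rangeRestrict = p := rfl
  have h2 : p.rangeRestrict ∘ₗ p = p.rangeRestrict := by
    apply LinearMap.ext
    intro v
    exact Subtype.ext (LinearMap.congr_fun hp v)
  have h3 : p.rangeRestrict ∘ₗ p.range.subtype = LinearMap.id := by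
    apply LinearMap.ext
    rintro ⟨_, v, rfl⟩
    exact Subtype.ext (LinearMap.congr_fun hp v)
  let ρ' : Representation ℂ G p.range :=
    { toFun := fun g => p.rangeRestrict ∘ₗ ρ g ∘ₗ p.range.subtype
      map_one' := by
        rw [map_one, Module.End.one_eq_id, LinearMap.id_comp]
        exact h3
      map_mul' := fun g h => by
        apply LinearMap.ext
        intro v
        apply Subtype.ext
        show p (ρ (g * h) v) = p (ρ g (p (ρ h v)))
        have h4 : ∀ w, p (ρ g w) = ρ g (p w) := fun w => LinearMap.congr_fun (hc g) w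
        have h5 : p (p (ρ h v)) = p (ρ h v) := LinearMap.congr_fun hp _
        rw [map_mul, Module.End.mul_apply, h4, h4, h5] }
  have h4 : (fun g => LinearMap.trace ℂ V (p ∘ₗ ρ g)) = ρ'.character := by
    funext g
    show LinearMap.trace ℂ V (p ∘ₗ ρ g) = LinearMap.trace ℂ p.range (p.rangeRestrict ∘ₗ (ρ g ∘ₗ p.range.subtype))
    rw [hc]
    have h5 := LinearMap.trace_comp_comm' (ρ g ∘ₗ p.range.subtype) p.rangeRestrict
    rw [h5, LinearMap.comp_assoc, h1]
  rw [h4]
  exact isCharacter_of_rep ρ'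

/-- **the character of an invariant idempotent matrix** on a finite `G`-set -/
theorem isCharacter_of_idem {X : Type*} [Fintype X] [DecidableEq X] [MulAction G X] (P : Matrix X X ℂ)
    (hP : P * P = P) (hinv : ∀ (g : G) (x y : X), P (g • x) (g • y) = P x y) :
    IsCharacter G (fun g => ∑ x, P x (g • x)) := by
  let M : G → Matrix X X ℂ := fun g => Matrix.of fun x y => if x = g • y then 1 else 0
  have hM1 : M 1 = 1 := by
    ext x y
    show (if x = (1 : G) • y then (1 : ℂ) else 0) = _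
    rw [one_smul, Matrix.one_apply]
  have hM2 : ∀ g h, M (g * h) = M g * M h := by
    intro g h
    ext x z
    rw [Matrix.mul_apply]
    show (if x = (g * h) • z then (1 : ℂ) else 0) = ∑ y, (if x = g • y then 1 else 0) * (if y = h • z then 1 else 0)
    simp only [mul_ite, mul_one, mul_zero, Finset.sum_ite_eq', Finset.mem_univ, if_true]
    rw [mul_smul]
  have hM3 : ∀ g, P * M g = M g * P := by
    intro g
    ext x z
    rw [Matrix.mul_apply, Matrix.mul_apply]
    show ∑ y, P x y * (if y = g • z then 1 else 0) = ∑ y, (if x = g • y then 1 else 0) * P y z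
    simp only [mul_ite, mul_one, mul_zero, Finset.sum_ite_eq', Finset.mem_univ, if_true, ite_mul, one_mul, zero_mul]
    rw [Finset.sum_eq_single (g⁻¹ • x)]
    · rw [if_pos (by rw [smul_inv_smul]), ← hinv g (g⁻¹ • x) z, smul_inv_smul]
    · intro y _ hy
      exact if_neg fun h => hy (by rw [h, inv_smul_smul])
    · intro h
      exact absurd (Finset.mem_univ _) h
  let ρ : Representation ℂ G (X → ℂ) :=
    { toFun := fun g => Matrix.toLin' (M g)
      map_one' := by rw [hM1, Matrix.toLin'_one]; rfl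
      map_mul' := fun g h => by rw [hM2, Matrix.toLin'_mul]; rfl }
  have h1 := isCharacter_of_idem_rep ρ (Matrix.toLin' P) (by rw [← Matrix.toLin'_mul, hP]) fun g => by
    show Matrix.toLin' P ∘ₗ Matrix.toLin' (M g) = Matrix.toLin' (M g) ∘ₗ Matrix.toLin' P
    rw [← Matrix.toLin'_mul, ← Matrix.toLin'_mul, hM3]
  refine (?_ : (fun g => _) = (fun g => _)) ▸ h1
  funext g
  show LinearMap.trace ℂ (X → ℂ) (Matrix.toLin' P ∘ₗ Matrix.toLin' (M g)) = _
  rw [← Matrix.toLin'_mul, Matrix.trace_toLin'_eq, Matrix.trace]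
  refine Finset.sum_congr rfl fun x _ => ?_
  rw [Matrix.diag_apply, Matrix.mul_apply]
  show ∑ y, P x y * (if y = g • x then 1 else 0) = _
  simp only [mul_ite, mul_one, mul_zero, Finset.sum_ite_eq', Finset.mem_univ, if_true]

/-- **The character of an eigenspace of a strongly regular graph**: valency `k0`, parameters `lam`, `mu`, eigenvalues
`k0`, `θ`, `τ`; this is the character of the eigenspace of `τ`. -/
theorem isCharacter_srg {X : Type*} [Fintype X] [DecidableEq X] [Nonempty X] [MulAction G X] (adj : X → X → Prop)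
    [DecidableRel adj] (hinv : ∀ (g : G) (x y : X), adj (g • x) (g • y) ↔ adj x y)
    (hsymm : ∀ x y, adj x y → adj y x) (hirr : ∀ x, ¬ adj x x) {k0 lam mu : ℕ}
    (hk : ∀ x, (Finset.univ.filter fun y => adj x y).card = k0)
    (hlam : ∀ x y, adj x y → (Finset.univ.filter fun z => adj x z ∧ adj z y).card = lam)
    (hmu : ∀ x y, x ≠ y → ¬ adj x y → (Finset.univ.filter fun z => adj x z ∧ adj z y).card = mu)
    {θ τ : ℤ} (hsum : θ + τ = lam - mu) (hprod : θ * τ = mu - k0) (hne : θ ≠ τ) :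
    IsCharacter G (fun g => ((k0 : ℂ) + θ * ((Nat.card (MulAction.fixedBy X g) : ℂ) - 1) -
      ((Finset.univ.filter fun x => adj x (g • x)).card : ℂ)) / (θ - τ)) := by
  let A : Matrix X X ℂ := Matrix.of fun x y => if adj x y then 1 else 0
  let J : Matrix X X ℂ := Matrix.of fun _ _ => 1
  have hA : ∀ x y, A x y = if adj x y then 1 else 0 := fun x y => rfl
  have hJ : ∀ x y, J x y = 1 := fun x y => rfl
  set n : ℂ := (Fintype.card X : ℂ) with hn
  have hn0 : n ≠ 0 := by
    rw [hn, Nat.cast_ne_zero]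
    exact Fintype.card_ne_zero
  have hAA : A * A = (k0 : ℂ) • (1 : Matrix X X ℂ) + (lam : ℂ) • A + (mu : ℂ) • (J - 1 - A) := by
    ext x y
    rw [Matrix.mul_apply]
    have h1 : ∑ z, A x z * A z y = ((Finset.univ.filter fun z => adj x z ∧ adj z y).card : ℂ) := by
      rw [Finset.card_filter, Nat.cast_sum]
      refine Finset.sum_congr rfl fun z _ => ?_
      rw [hA, hA]
      by_cases h1 : adj x z <;> by_cases h2 : adj z y <;> simp [h1, h2]
    rw [h1, Matrix.add_apply, Matrix.add_apply, Matrix.smul_apply, Matrix.smul_apply, Matrix.smul_apply,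
      Matrix.sub_apply, Matrix.sub_apply, hJ, hA, Matrix.one_apply]
    by_cases hxy : x = y
    · subst hxy
      rw [if_pos rfl, if_neg (hirr x)]
      have h2 : (Finset.univ.filter fun z => adj x z ∧ adj z x) = Finset.univ.filter fun z => adj x z :=
        Finset.filter_congr fun z _ => ⟨fun h => h.1, fun h => ⟨h, hsymm _ _ h⟩⟩
      rw [h2, hk]
      simp
    · rw [if_neg hxy]
      by_cases h : adj x y
      · rw [if_pos h, hlam x y h]
        simp
      · rw [if_neg h, hmu x y hxy h]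
        simp
  have hrow : ∀ x, ∑ y, A x y = k0 := by
    intro x
    rw [← hk x, Finset.card_filter, Nat.cast_sum]
    refine Finset.sum_congr rfl fun z _ => ?_
    rw [hA]
    by_cases h1 : adj x z <;> simp [h1]
  have hAs : ∀ x y, A x y = A y x := by
    intro x y
    rw [hA, hA]
    exact if_congr ⟨hsymm x y, hsymm y x⟩ rfl rfl
  have hAJ : A * J = (k0 : ℂ) • J := by
    ext x y
    rw [Matrix.mul_apply, Matrix.smul_apply, hJ, ← hrow x, smul_eq_mul, mul_one]
    exact Finset.sum_congr rfl fun z _ => by rw [hJ, mul_one]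
  have hJA : J * A = (k0 : ℂ) • J := by
    ext x y
    rw [Matrix.mul_apply, Matrix.smul_apply, hJ, ← hrow y, smul_eq_mul, mul_one]
    exact Finset.sum_congr rfl fun z _ => by rw [hJ, one_mul, hAs]
  have hJJ : J * J = n • J := by
    ext x y
    rw [Matrix.mul_apply, Matrix.smul_apply, hJ, smul_eq_mul, mul_one]
    simp [hJ, hn]
  have hsum' : (θ : ℂ) + τ = lam - mu := by exact_mod_cast congrArg (fun z : ℤ => (z : ℂ)) hsum
  have hprod' : (θ : ℂ) * τ = mu - k0 := by exact_mod_cast congrArg (fun z : ℤ => (z : ℂ)) hprod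
  have hne' : (θ : ℂ) - τ ≠ 0 := by
    rw [sub_ne_zero]
    exact_mod_cast hne
  have hcount : (k0 : ℂ) * k0 = k0 + lam * k0 + mu * (n - 1 - k0) := by
    obtain ⟨x⟩ := (inferInstance : Nonempty X)
    have h1 : ∑ y, (A * A) x y = (k0 : ℂ) * k0 := by
      have h2 : ∑ y, (A * A) x y = ((A * A) * J) x x := by
        rw [Matrix.mul_apply]
        exact Finset.sum_congr rfl fun y _ => by rw [hJ, mul_one]
      rw [h2, Matrix.mul_assoc, hAJ, Matrix.mul_smul, hAJ, Matrix.smul_apply, Matrix.smul_apply, hJ]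
      simp
    rw [← h1, hAA]
    simp only [Matrix.add_apply, Matrix.smul_apply, Matrix.sub_apply, smul_eq_mul, Finset.sum_add_distrib,
      ← Finset.mul_sum, Finset.sum_sub_distrib, hrow, hJ, Matrix.one_apply, Finset.sum_ite_eq, Finset.mem_univ, if_true,
      Finset.sum_const, Finset.card_univ, nsmul_eq_mul, mul_one]
    rfl
  have hkey : (mu : ℂ) * n = ((k0 : ℂ) - θ) * (k0 - τ) := by
    linear_combination (-1 : ℂ) * hcount + (k0 : ℂ) * hsum' - hprod'
  set d : ℂ := ((k0 : ℂ) - θ) / n with hd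
  have hdn : d * n = (k0 : ℂ) - θ := div_mul_cancel₀ _ hn0
  have hmu' : (mu : ℂ) = d * (k0 - τ) := by
    have h1 : (mu : ℂ) * n = (d * (k0 - τ)) * n := by
      rw [hkey]
      linear_combination (-(k0 - τ : ℂ)) * hdn
    exact mul_right_cancel₀ hn0 h1
  have hQ : ((θ : ℂ) • (1 : Matrix X X ℂ) - A + d • J) * ((θ : ℂ) • (1 : Matrix X X ℂ) - A + d • J) =
      ((θ : ℂ) - τ) • ((θ : ℂ) • (1 : Matrix X X ℂ) - A + d • J) := by
    simp only [mul_add, add_mul, sub_mul, mul_sub, smul_mul_assoc, mul_smul_comm, one_mul, mul_one, hAA, hAJ, hJA,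
      hJJ]
    match_scalars
    · linear_combination hprod'
    · linear_combination (-1 : ℂ) * hsum'
    · linear_combination (d : ℂ) * hdn + hmu'
  have hP : (((θ : ℂ) - τ)⁻¹ • ((θ : ℂ) • (1 : Matrix X X ℂ) - A + d • J)) *
      (((θ : ℂ) - τ)⁻¹ • ((θ : ℂ) • (1 : Matrix X X ℂ) - A + d • J)) =
      ((θ : ℂ) - τ)⁻¹ • ((θ : ℂ) • (1 : Matrix X X ℂ) - A + d • J) := by
    rw [smul_mul_assoc, mul_smul_comm, hQ, smul_smul ((θ : ℂ) - τ)⁻¹ ((θ : ℂ) - τ), inv_mul_cancel₀ hne', one_smul]
  have h1 := isCharacter_of_idem (G := G) _ hP fun g x y => by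
    simp only [Matrix.smul_apply, Matrix.add_apply, Matrix.sub_apply, hJ, hA, Matrix.one_apply, hinv,
      (MulAction.injective g).eq_iff]
  refine (?_ : (fun g => _) = (fun g => _)) ▸ h1
  funext g
  have h2 : (Nat.card (MulAction.fixedBy X g) : ℂ) = ∑ x : X, if x = g • x then 1 else 0 := by
    have h3 : Nat.card (MulAction.fixedBy X g) = (Finset.univ.filter fun x : X => x = g • x).card := by
      rw [← Fintype.card_subtype, ← Nat.card_eq_fintype_card]
      exact Nat.card_congr (Equiv.subtypeEquivRight fun x => ⟨fun h => h.symm, fun h => h.symm⟩)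
    rw [h3, Finset.card_filter, Nat.cast_sum]
    exact Finset.sum_congr rfl fun x _ => by split_ifs <;> simp
  have h3 : ((Finset.univ.filter fun x => adj x (g • x)).card : ℂ) = ∑ x, A x (g • x) := by
    rw [Finset.card_filter, Nat.cast_sum]
    exact Finset.sum_congr rfl fun x _ => by
      rw [hA]
      split_ifs <;> simp
  have h4 : ∑ x : X, (((θ : ℂ) - τ)⁻¹ • ((θ : ℂ) • (1 : Matrix X X ℂ) - A + d • J)) x (g • x) =
      ((θ : ℂ) - τ)⁻¹ * (θ * (Nat.card (MulAction.fixedBy X g) : ℂ) - ∑ x, A x (g • x) + n * d) := by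
    rw [h2, Finset.mul_sum, ← Finset.sum_sub_distrib]
    simp only [Matrix.smul_apply, Matrix.add_apply, Matrix.sub_apply, hJ, Matrix.one_apply, smul_eq_mul,
      ← Finset.mul_sum, Finset.sum_add_distrib, mul_one, Finset.sum_const, Finset.card_univ, nsmul_eq_mul]
    rfl
  rw [h4, h3, mul_comm n d, hdn, div_eq_inv_mul]
  ring

end idem

section GC

variable {G : Type u} [Group G] [Finite G] {k : ℕ} {T : ClassTab G k} {r : ℕ} {rc : Fin k → Fin r}

/-- **the character of an eigenspace of a strongly regular graph** in a class table -/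
theorem GC.srg {X : Type*} [Fintype X] [DecidableEq X] [Nonempty X] [MulAction G X] (adj : X → X → Prop)
    [DecidableRel adj] (hinv : ∀ (g : G) (x y : X), adj (g • x) (g • y) ↔ adj x y)
    (hsymm : ∀ x y, adj x y → adj y x) (hirr : ∀ x, ¬ adj x x) {k0 lam mu : ℕ}
    (hk : ∀ x, (Finset.univ.filter fun y => adj x y).card = k0)
    (hlam : ∀ x y, adj x y → (Finset.univ.filter fun z => adj x z ∧ adj z y).card = lam)
    (hmu : ∀ x y, x ≠ y → ¬ adj x y → (Finset.univ.filter fun z => adj x z ∧ adj z y).card = mu)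
    {θ τ : ℤ} (hsum : θ + τ = lam - mu) (hprod : θ * τ = mu - k0) (hne : θ ≠ τ) {v : Fin r → ℤ}
    (h : ∀ i, (θ - τ) * v (rc i) = (k0 : ℤ) + θ * ((Nat.card (MulAction.fixedBy X (T.x i)) : ℤ) - 1) -
      ((Finset.univ.filter fun x => adj x (T.x i • x)).card : ℤ)) : GC T rc v := by
  refine ⟨_, isGeneralizedCharacter_of_isCharacter
    (isCharacter_srg adj hinv hsymm hirr hk hlam hmu hsum hprod hne), fun i => ?_⟩
  have hne' : (θ : ℂ) - τ ≠ 0 := by
    rw [sub_ne_zero]
    exact_mod_cast hne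
  have h1 := congrArg (fun z : ℤ => (z : ℂ)) (h i)
  push_cast at h1
  show ((k0 : ℂ) + θ * ((Nat.card (MulAction.fixedBy X (T.x i)) : ℂ) - 1) -
      ((Finset.univ.filter fun x => adj x (T.x i • x)).card : ℂ)) / (θ - τ) = _
  rw [← h1, mul_div_cancel_left₀ _ hne']

/-- the character of an invariant idempotent in a class table -/
theorem GC.idem {X : Type*} [Fintype X] [DecidableEq X] [MulAction G X] (P : Matrix X X ℂ) (hP : P * P = P)
    (hinv : ∀ (g : G) (x y : X), P (g • x) (g • y) = P x y) {v : Fin r → ℤ}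
    (h : ∀ i, ∑ x, P x (T.x i • x) = v (rc i)) : GC T rc v :=
  ⟨_, isGeneralizedCharacter_of_isCharacter (isCharacter_of_idem P hP hinv), h⟩

end GC

end Cfsg.Agent.H447.CTab
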