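import Cfsg.Agent.H447.KRowMathieu
import Cfsg.Agent.H49.CoStab
import Cfsg.Agent.LeechPack.X100
import Cfsg.Agent.H921.SporCo
import Cfsg.Agent.S2071
import Cfsg.Agent.S2072

/-!
# Rows `hs`, `co3` of S3564 (helper447)
-/

set_option autoImplicit false
set_option linter.unusedSectionVars false

namespace Cfsg.Agent.H447.KRowCo

open MulAction Cfsg Cfsg.Agent.H397.KHom Cfsg.Agent.H384.TwoTrans Cfsg.Agent.H391.KOrb
open Cfsg.Agent.H447.KRowTools Cfsg.Agent.H447.MElems Cfsg.Agent.H447.KRowSmall
open Cfsg.Agent.H447.KRowMathieu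
open scoped Pointwise

theorem card_HS : Nat.card Spor.HS = 44352000 := by
  rw [← LeechPack.X100.map_G2, Subgroup.card_map_of_injective Co0.subtype_injective]
  exact LeechPack.X100.card_G2

theorem pair_Co3 : SixPair Spor.Co3 := by
  obtain ⟨f, hf⟩ := Cfsg.Agent.H921.Spor.Co.exists_Co3
  exact pair_M23.map f hf

universe u v

variable {G : Type u} {Ω : Type v} [Group G] [MulAction G Ω] {T : Subgroup G} [DecidableEq Ω] [Fintype Ω]

theorem choose_dvd_of_homog [Finite G] {j : ℕ} (hj : j ≤ Fintype.card Ω) (h : Homog G Ω j) :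
    (Fintype.card Ω).choose j ∣ Nat.card G := by
  rw [homog_iff_pretransitive] at h
  obtain ⟨I, -, hI⟩ := Finset.exists_subset_card_eq (s := (Finset.univ : Finset Ω))
        (n := j) (by rw [Finset.card_univ]; omega)
  have h1 := index_stabilizer_of_transitive G (⟨I, hI⟩ : Set.powersetCard Ω j)
  rw [Set.powersetCard.card, Nat.card_eq_fintype_card] at h1
  rw [← h1]
  exact Subgroup.index_dvd_card _

theorem row_hs (A : AS G Ω T) (hT : Spor.IsoHS T) (hn : Nat.card Ω = 176) {k : ℕ}
    (hk : 4 ≤ k) (h2k : 2 * k ≤ Fintype.card Ω + 1) (h : Hom G Ω k) : Homog G Ω (k - 1) := by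
  have := A.finG
  obtain ⟨e⟩ := hT
  have hc : Nat.card T = 44352000 := by rw [Nat.card_congr e.toEquiv, card_HS]
  rw [Nat.card_eq_fintype_card] at hn
  have hG : Nat.card G ≤ 88704000 := by
    have h1 := card_dvd_of_out A e
    rw [Cfsg.Agent.S2072.result, card_HS] at h1
    exact Nat.le_of_dvd (by norm_num) h1
  rcases (show k = 4 ∨ k = 5 ∨ 6 ≤ k by omega) with rfl | rfl | hk6
  · exact homog_of_dvd_card (p := 2) (a := 2) A Nat.prime_two h (by rw [hn]; norm_num)
  · exact prime A (by norm_num) h (by rw [hc]; norm_num)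
  · by_contra hnot
    have h2 : Nat.choose 176 5 = 1328902960 := by decide +kernel
    rcases bound h hk6 h2k hnot with h1 | h1
    · rw [hn, h2] at h1
      omega
    · have := h1 5 (by omega)
      rw [hn, h2] at this
      omega

theorem row_co3 (A : AS G Ω T) (hT : Spor.IsoCo3 T) (hn : Nat.card Ω = 276) {k : ℕ}
    (hk : 4 ≤ k) (h2k : 2 * k ≤ Fintype.card Ω + 1) (h : Hom G Ω k) : Homog G Ω (k - 1) := by
  have := A.finG
  obtain ⟨e⟩ := hT
  have hc : Nat.card T = 495766656000 := by
    rw [Nat.card_congr e.toEquiv, Cfsg.Agent.H49.CoStab.card_co3]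
  rw [Nat.card_eq_fintype_card] at hn
  have hGd : Nat.card G ∣ 495766656000 := by
    have h1 := card_dvd_of_out A e
    rwa [Cfsg.Agent.S2071.result, Cfsg.Agent.H49.CoStab.card_co3, one_mul] at h1
  rcases (show k = 4 ∨ k = 5 ∨ k = 6 ∨ k = 7 ∨ 8 ≤ k by omega) with rfl | rfl | rfl | rfl | hk8
  · exact homog_of_dvd_card (p := 2) (a := 2) A Nat.prime_two h (by rw [hn]; norm_num)
  · exact prime A (by norm_num) h (by rw [hc]; norm_num)
  · exact six A h (SixPair.transfer e pair_Co3)
  · exact prime A (by norm_num) h (by rw [hc]; norm_num)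
  · by_contra hnot
    obtain ⟨s, hs3, hsk, hs1, hs2, hmono, -⟩ := h.exists_level (by omega) h2k (by omega) hnot
    have hs : s = 3 := by
      by_contra hne
      have h3 : Homog G Ω 3 := hs1.mono (by omega) (by omega)
      have h4 := (choose_dvd_of_homog (by omega) h3).trans hGd
      rw [hn, show Nat.choose 276 3 = 3466100 by decide +kernel] at h4
      omega
    have h5 := choose_le_numOrb_mul (G := G) (Ω := Ω) 7
    have h6 : numOrb G Ω 7 ≤ 3 := by rw [← hs]; exact hmono 7 (by omega)
    have h7 : Nat.card G ≤ 495766656000 := Nat.le_of_dvd (by norm_num) hGd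
    have h8 := h5.trans (Nat.mul_le_mul h6 h7)
    rw [hn] at h8
    revert h8
    decide +kernel

end Cfsg.Agent.H447.KRowCo
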