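import Cfsg.Agent.H447.KRowMathieu
import Cfsg.Agent.S0366
import Cfsg.Agent.S0378
import Cfsg.Agent.S0365

/-!
# Rows `m23`, `m24` of S3564 (helper447): the actions are the natural ones
-/

set_option autoImplicit false
set_option linter.unusedSectionVars false

namespace Cfsg.Agent.H447.KRowM23

open MulAction Cfsg Cfsg.Agent.H397.KHom Cfsg.Agent.H384.TwoTrans Cfsg.Agent.H391.KOrb
open Cfsg.Agent.H447.KRowTools Cfsg.Agent.H447.MElems Cfsg.Agent.H447.KRowSmall
open Cfsg.Agent.H447.KRowMathieu Cfsg.Agent.Golay.Orbit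
open scoped Pointwise

theorem card_pt : Nat.card GolayPt = 24 := by
  rw [Nat.card_eq_fintype_card]; decide

/-- the pointwise stabiliser of five points has order 48 -/
theorem card_fix_five {s : Finset GolayPt} (hs : s.card = 5) :
    Nat.card (fixingSubgroup M24 (s : Set GolayPt)) = 48 := by
  have hs5' : (s : Set GolayPt).ncard = 5 := by rw [Set.ncard_coe_finset, hs]
  have h1 := S0366.result.index_of_fixingSubgroup_mul hs5'
  rw [card_pt] at h1
  have h2 : (fixingSubgroup M24 (s : Set GolayPt)).index = 24 * 23 * 22 * 21 * 20 := by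
    apply Nat.eq_of_mul_eq_mul_right (Nat.factorial_pos (24 - 5))
    rw [h1]
    decide +kernel
  have h3 := (fixingSubgroup M24 (s : Set GolayPt)).card_mul_index
  rw [h2, S0364.result] at h3
  omega

/-- An element of prime order not dividing 48 fixes at most four points. -/
theorem fix_lt_five {g : Equiv.Perm GolayPt} (hg : g ∈ M24) {p : ℕ} (hp : p.Prime) (hpg : orderOf g = p)
    (h48 : ¬ p ∣ 48) : (Finset.univ.filter fun x => g x = x).card < 5 := by
  by_contra hcon
  push Not at hcon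
  obtain ⟨s, hs, hs5⟩ := Finset.exists_subset_card_eq hcon
  have hmem : (⟨g, hg⟩ : M24) ∈ fixingSubgroup M24 (s : Set GolayPt) := by
    rw [mem_fixingSubgroup_iff]
    intro y hy
    exact (Finset.mem_filter.1 (hs hy)).2
  have h1 : orderOf (⟨⟨g, hg⟩, hmem⟩ : fixingSubgroup M24 (s : Set GolayPt)) = p := by
    rw [← hpg, Subgroup.orderOf_mk, Subgroup.orderOf_mk]
  have h2 := orderOf_dvd_natCard (⟨⟨g, hg⟩, hmem⟩ : fixingSubgroup M24 (s : Set GolayPt))
  rw [h1, card_fix_five hs5] at h2
  exact h48 h2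

/-- Fixed points of an element of prime order on an invariant set, modulo the prime. -/
theorem card_modEq {g : Equiv.Perm GolayPt} {p : ℕ} (hp : p.Prime) (hpg : orderOf g = p)
    (S : Finset GolayPt) (hS : ∀ x ∈ S, g x ∈ S) :
    S.card ≡ (S.filter fun x => g x = x).card [MOD p] := by
  classical
  have hfp : Fact p.Prime := ⟨hp⟩
  -- restrict to the subtype
  have hS' : ∀ x, x ∈ S ↔ g x ∈ S := by
    intro x
    refine ⟨hS x, fun h => ?_⟩
    have hb : S.map g.toEmbedding = S := by
      apply Finset.eq_of_subset_of_card_le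
      · intro y hy
        obtain ⟨z, hz, rfl⟩ := Finset.mem_map.1 hy
        exact hS z hz
      · rw [Finset.card_map]
    rw [← hb] at h
    obtain ⟨z, hz, hzx⟩ := Finset.mem_map.1 h
    rwa [← g.injective hzx]
  let τ : Equiv.Perm S := g.subtypePerm fun x => (hS' x).symm
  have hpow : ∀ (n : ℕ) (x : S), (((τ ^ n) x : S) : GolayPt) = (g ^ n) x := by
    intro n
    induction n with
    | zero => intro x; rfl
    | succ n ih => intro x; rw [pow_succ', pow_succ', Equiv.Perm.mul_apply, Equiv.Perm.mul_apply, ← ih]; rfl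
  have hτ : τ ^ p = 1 := by
    apply Equiv.ext
    intro x
    apply Subtype.ext
    rw [hpow, ← hpg, pow_orderOf_eq_one]
    rfl
  have hP : IsPGroup p (Subgroup.zpowers τ) := by
    have h1 : orderOf τ ∣ p := orderOf_dvd_of_pow_eq_one hτ
    have h2 : Nat.card (Subgroup.zpowers τ) ∣ p ^ 1 := by rw [Nat.card_zpowers, pow_one]; exact h1
    obtain ⟨k, -, hk⟩ := (Nat.dvd_prime_pow hp).1 h2
    exact IsPGroup.of_card hk
  have h3 := hP.card_modEq_card_fixedPoints (α := S)
  have h4 : Nat.card (fixedPoints (Subgroup.zpowers τ) S) = (S.filter fun x => g x = x).card := by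
    rw [← Fintype.card_coe, ← Nat.card_eq_fintype_card]
    have hfix : ∀ y : S, g y = y → y ∈ fixedPoints (Subgroup.zpowers τ) S := by
      intro y hy
      have h5 : Subgroup.zpowers τ ≤ stabilizer (Equiv.Perm S) y := by
        rw [Subgroup.zpowers_le]
        exact Subtype.ext hy
      rintro ⟨m, hm⟩
      exact h5 hm
    exact Nat.card_congr
      { toFun := fun z => ⟨z.1.1, Finset.mem_filter.2 ⟨z.1.2,
          congrArg Subtype.val (z.2 ⟨τ, Subgroup.mem_zpowers τ⟩)⟩⟩
        invFun := fun x => ⟨⟨x.1, (Finset.mem_filter.1 x.2).1⟩, hfix _ (Finset.mem_filter.1 x.2).2⟩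
        left_inv := fun _ => rfl
        right_inv := fun _ => rfl }
  rw [h4, Nat.card_eq_fintype_card, Fintype.card_coe] at h3
  exact h3

/-- A subgroup of `M₂₃` of index 23 fixes a second point. -/
theorem fixes_point (X : Subgroup (Equiv.Perm GolayPt)) (hX : X ≤ Spor.M23)
    (hc : Nat.card X = 443520) : ∃ p : GolayPt, p ≠ none ∧ ∀ g ∈ X, g p = p := by
  classical
  have hX24 : X ≤ M24 := hX.trans inf_le_left
  have hnone : ∀ g ∈ X, g none = none := fun g hg => (Subgroup.mem_inf.1 (hX hg)).2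
  have hfp11 : Fact (Nat.Prime 11) := ⟨by norm_num⟩
  have hfp7 : Fact (Nat.Prime 7) := ⟨by norm_num⟩
  obtain ⟨z, hz⟩ := exists_prime_orderOf_dvd_card' (G := X) 11 (by rw [hc]; norm_num)
  obtain ⟨y, hy⟩ := exists_prime_orderOf_dvd_card' (G := X) 7 (by rw [hc]; norm_num)
  rw [← Subgroup.orderOf_coe] at hz hy
  have hu : (Finset.univ : Finset GolayPt).card = 24 := by rw [Finset.card_univ]; decide
  have hz5 := fix_lt_five (hX24 z.2) (by norm_num) hz (by norm_num)
  have hy5 := fix_lt_five (hX24 y.2) (by norm_num) hy (by norm_num)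
  have hz2 := card_modEq (p := 11) (by norm_num) hz Finset.univ (fun x _ => Finset.mem_univ _)
  rw [hu] at hz2
  have hz3 : (Finset.univ.filter fun x => (z : Equiv.Perm GolayPt) x = x).card = 2 := by
    have : 24 % 11 = (Finset.univ.filter fun x => (z : Equiv.Perm GolayPt) x = x).card % 11 := hz2
    omega
  have hzn : none ∈ Finset.univ.filter fun x => (z : Equiv.Perm GolayPt) x = x :=
    Finset.mem_filter.2 ⟨Finset.mem_univ _, hnone _ z.2⟩
  obtain ⟨p, hp⟩ := Finset.card_eq_one.1 (show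
    ((Finset.univ.filter fun x => (z : Equiv.Perm GolayPt) x = x).erase none).card = 1 by
      rw [Finset.card_erase_of_mem hzn, hz3])
  have hpm : p ∈ (Finset.univ.filter fun x => (z : Equiv.Perm GolayPt) x = x).erase none := by
    rw [hp]; exact Finset.mem_singleton_self p
  have hpn : p ≠ none := (Finset.mem_erase.1 hpm).1
  have hzp : (z : Equiv.Perm GolayPt) p = p := (Finset.mem_filter.1 (Finset.mem_erase.1 hpm).2).2
  -- the orbit of `p`
  set O : Finset GolayPt := (Set.toFinite (orbit X p)).toFinset with hO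
  have hmem : ∀ x, x ∈ O ↔ x ∈ orbit X p := fun x => by rw [hO, Set.Finite.mem_toFinset]
  have hpO : p ∈ O := (hmem p).2 (mem_orbit_self p)
  have hinv : ∀ g ∈ X, ∀ x ∈ O, g x ∈ O := by
    intro g hg x hx
    rw [hmem] at hx ⊢
    exact MulAction.mem_orbit_of_mem_orbit (⟨g, hg⟩ : X) hx
  have hnO : none ∉ O := by
    intro h
    rw [hmem] at h
    obtain ⟨g, hg⟩ := h
    have h1 : (g : Equiv.Perm GolayPt) p = none := hg
    exact hpn ((g : Equiv.Perm GolayPt).injective (h1.trans (hnone _ g.2).symm))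
  have hOcard : O.card ∣ 443520 := by
    rw [hO, ← Set.ncard_eq_toFinset_card, ← index_stabilizer, ← hc]
    exact Subgroup.index_dvd_card _
  have h1 := card_modEq (p := 11) (by norm_num) hz O (hinv _ z.2)
  have h2 : O.filter (fun x => (z : Equiv.Perm GolayPt) x = x) = {p} := by
    ext x
    rw [Finset.mem_filter, Finset.mem_singleton]
    constructor
    · rintro ⟨hxO, hx⟩
      have : x ∈ (Finset.univ.filter fun x => (z : Equiv.Perm GolayPt) x = x).erase none :=
        Finset.mem_erase.2 ⟨fun h => hnO (h ▸ hxO), Finset.mem_filter.2 ⟨Finset.mem_univ _, hx⟩⟩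
      rw [hp] at this
      exact Finset.mem_singleton.1 this
    · rintro rfl
      exact ⟨hpO, hzp⟩
  rw [h2, Finset.card_singleton] at h1
  have h3 : O.card ≤ 24 := by rw [← hu]; exact Finset.card_le_univ O
  have h4 : O.card = 1 ∨ O.card = 12 ∨ O.card = 23 := by
    have : O.card % 11 = 1 % 11 := h1
    omega
  rcases h4 with h4 | h4 | h4
  · refine ⟨p, hpn, fun g hg => ?_⟩
    obtain ⟨q, hq⟩ := Finset.card_eq_one.1 h4
    have h5 := hinv g hg p hpO
    rw [hq, Finset.mem_singleton] at h5 hpO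
    rw [h5, hpO]
  · exfalso
    have h5 := card_modEq (p := 7) (by norm_num) hy Oᶜ (by
      intro x hx
      rw [Finset.mem_compl] at hx ⊢
      intro h
      apply hx
      have h6 := hinv _ (X.inv_mem y.2) _ h
      simpa using h6)
    rw [Finset.card_compl, ← Finset.card_univ, hu, h4] at h5
    have h6 : (Oᶜ.filter fun x => (y : Equiv.Perm GolayPt) x = x).card < 5 :=
      (Finset.card_le_card (Finset.filter_subset_filter _ (Finset.subset_univ _))).trans_lt hy5
    have h7 : (24 - 12) % 7 = (Oᶜ.filter fun x => (y : Equiv.Perm GolayPt) x = x).card % 7 := h5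
    omega
  · exfalso
    rw [h4] at hOcard
    norm_num at hOcard

/-- The stabiliser of a second point in `M₂₃`. -/
theorem mem_iff (X : Subgroup (Equiv.Perm GolayPt)) (hX : X ≤ Spor.M23) (hc : Nat.card X = 443520)
    {p : GolayPt} (hp : p ≠ none) (hfix : ∀ g ∈ X, g p = p) (g : Equiv.Perm GolayPt)
    (hg : g ∈ Spor.M23) : g ∈ X ↔ g p = p := by
  refine ⟨hfix g, fun h => ?_⟩
  have h1 : X ≤ Spor.M23 ⊓ stabilizer (Equiv.Perm GolayPt) p := fun x hx => ⟨hX hx, hfix x hx⟩
  have h2 : Nat.card (Spor.M23 ⊓ stabilizer (Equiv.Perm GolayPt) p : Subgroup (Equiv.Perm GolayPt)) =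
      443520 := by
    rw [← Cfsg.Agent.S0378.result none p hp.symm]
    exact Nat.card_congr
      { toFun := fun g => ⟨⟨g, (Subgroup.mem_inf.1 g.2.1).1⟩,
          Subgroup.mem_inf.2 ⟨(Subgroup.mem_inf.1 g.2.1).2, g.2.2⟩⟩
        invFun := fun g => ⟨((g : M24) : Equiv.Perm GolayPt),
          ⟨Subgroup.mem_inf.2 ⟨(g : M24).2, (Subgroup.mem_inf.1 g.2).1⟩, (Subgroup.mem_inf.1 g.2).2⟩⟩
        left_inv := fun _ => rfl
        right_inv := fun _ => rfl }
  have h3 : X = Spor.M23 ⊓ stabilizer (Equiv.Perm GolayPt) p :=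
    Subgroup.eq_of_le_of_card_ge h1 (by rw [h2, hc])
  rw [h3]
  exact ⟨hg, h⟩

/-- Two transitive actions with the same point stabiliser. -/
theorem exists_equivariant {S Ω Y : Type*} [Group S] [MulAction S Ω] [IsPretransitive S Ω]
    {M : Type*} [Group M] [MulAction M Y] (φ : S →* M) (ω : Ω) (p : Y)
    (h : ∀ s : S, s • ω = ω ↔ φ s • p = p) :
    ∃ e : Ω → Y, Function.Injective e ∧ (∀ s x, e (s • x) = φ s • e x) ∧ e ω = p := by
  classical
  have hex : ∀ x : Ω, ∃ s : S, s • ω = x := fun x => exists_smul_eq S ω x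
  choose c hc using hex
  have key : ∀ s s' : S, s • ω = s' • ω ↔ φ s • p = φ s' • p := by
    intro s s'
    have h1 : s • ω = s' • ω ↔ (s'⁻¹ * s) • ω = ω := by
      rw [mul_smul, inv_smul_eq_iff]
    have h2 : φ s • p = φ s' • p ↔ φ (s'⁻¹ * s) • p = p := by
      rw [map_mul, map_inv, mul_smul, inv_smul_eq_iff]
    rw [h1, h2, h]
  refine ⟨fun x => φ (c x) • p, ?_, ?_, ?_⟩
  · intro x y hxy
    have := (key _ _).2 hxy
    rwa [hc, hc] at this
  · intro s x
    show φ (c (s • x)) • p = φ s • φ (c x) • p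
    rw [← mul_smul, ← map_mul, ← key, hc, mul_smul, hc]
  · show φ (c ω) • p = p
    rw [← h, hc]

universe u v

/-- the natural action of `M₂₃` is contained in the action -/
structure Nat23 (T : Type*) (Ω : Type*) [Group T] [MulAction T Ω] : Prop where
  ex : ∃ e : Ω → GolayPt, Function.Injective e ∧ (∀ q ≠ none, ∃ ω, e ω = q) ∧
    ∀ g ∈ Spor.M23, ∃ t : T, ∀ ω, e (t • ω) = g (e ω)

theorem nat23_of_m23 {T Ω : Type*} [Group T] [Finite T] [MulAction T Ω] [IsPretransitive T Ω]
    (hT : Spor.IsoM23 T) (hn : Nat.card Ω = 23) : Nat23 T Ω := by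
  classical
  have hfinΩ : Finite Ω := Nat.finite_of_card_ne_zero (by rw [hn]; norm_num)
  obtain ⟨φ⟩ := hT
  obtain ⟨ω⟩ : Nonempty Ω := (Nat.card_pos_iff.1 (by rw [hn]; norm_num)).1
  let ψ : T →* Equiv.Perm GolayPt := (Subgroup.subtype _).comp φ.toMonoidHom
  have hψ : Function.Injective ψ := (Subgroup.subtype_injective _).comp φ.injective
  have hcT : Nat.card T = 10200960 := by
    rw [Nat.card_congr φ.toEquiv, SporadicA.MathieuRecog.card_M23]
  have hcS : Nat.card (stabilizer T ω) = 443520 := by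
    have h1 := (stabilizer T ω).card_mul_index
    rw [index_stabilizer_of_transitive, hn, hcT] at h1
    omega
  set X := (stabilizer T ω).map ψ with hXdef
  have hXc : Nat.card X = 443520 := by
    rw [← hcS]
    exact (Nat.card_congr (Subgroup.equivMapOfInjective _ ψ hψ).toEquiv).symm
  have hψ23 : ∀ t, ψ t ∈ Spor.M23 := fun t => (φ t).2
  have hX23 : X ≤ Spor.M23 := by
    rintro _ ⟨t, -, rfl⟩
    exact hψ23 t
  obtain ⟨p, hp, hfix⟩ := fixes_point X hX23 hXc
  have hiff : ∀ t : T, t • ω = ω ↔ ψ t • p = p := by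
    intro t
    have h1 := mem_iff X hX23 hXc hp hfix (ψ t) (hψ23 t)
    rw [Equiv.Perm.smul_def, ← h1, hXdef]
    constructor
    · intro h
      exact ⟨t, h, rfl⟩
    · rintro ⟨t', ht', h⟩
      rw [← hψ h]
      exact ht'
  obtain ⟨e, he, hes, heω⟩ := exists_equivariant ψ ω p hiff
  have hnn : ∀ x, e x ≠ none := by
    intro x h
    obtain ⟨t, rfl⟩ := exists_smul_eq T ω x
    rw [hes, heω, Equiv.Perm.smul_def] at h
    have h1 : ψ t none = none := (Subgroup.mem_inf.1 (hψ23 t)).2
    exact hp ((ψ t).injective (h.trans h1.symm))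
  refine ⟨e, he, ?_, ?_⟩
  · have hfin := Fintype.ofFinite Ω
    have h1 : Finset.univ.image e = Finset.univ.erase none := by
      apply Finset.eq_of_subset_of_card_le
      · intro q hq
        obtain ⟨x, -, rfl⟩ := Finset.mem_image.1 hq
        exact Finset.mem_erase.2 ⟨hnn x, Finset.mem_univ _⟩
      · rw [Finset.card_image_of_injective _ he, Finset.card_univ, ← Nat.card_eq_fintype_card, hn,
          Finset.card_erase_of_mem (Finset.mem_univ _)]
        decide
    intro q hq
    have h2 : q ∈ Finset.univ.image e := by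
      rw [h1]
      exact Finset.mem_erase.2 ⟨hq, Finset.mem_univ _⟩
    obtain ⟨x, -, hx⟩ := Finset.mem_image.1 h2
    exact ⟨x, hx⟩
  · intro g hg
    refine ⟨φ.symm ⟨g, hg⟩, fun x => ?_⟩
    rw [hes]
    show ((φ (φ.symm ⟨g, hg⟩) : Spor.M23) : Equiv.Perm GolayPt) (e x) = g (e x)
    rw [MulEquiv.apply_symm_apply]

theorem nat23_of_m24 {T Ω : Type*} [Group T] [Finite T] [MulAction T Ω] [FaithfulSMul T Ω]
    [IsPretransitive T Ω] (hT : Spor.IsoM24 T) (hn : Nat.card Ω = 24) : Nat23 T Ω := by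
  classical
  have hfinΩ : Finite Ω := Nat.finite_of_card_ne_zero (by rw [hn]; norm_num)
  have hfin := Fintype.ofFinite Ω
  obtain ⟨φ⟩ := hT
  have hs : IsSimpleGroup T := φ.isSimpleGroup_congr.2 Cfsg.Agent.S0365.result
  have hc : Nat.card T = 244823040 := by rw [Nat.card_congr φ.toEquiv, Cfsg.Agent.S0364.result]
  have hcd : Fintype.card Ω = 24 := by rw [← Nat.card_eq_fintype_card, hn]
  obtain ⟨e, he⟩ := MathieuLabel.m24_label hs hc hcd inferInstance
  choose s hsM hse using he
  have hinj : Function.Injective fun t : T => (⟨s t, hsM t⟩ : M24) := by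
    intro t t' h
    have h1 : s t = s t' := congrArg Subtype.val h
    apply FaithfulSMul.eq_of_smul_eq_smul (α := Ω)
    intro x
    apply e.injective
    rw [hse, hse, h1]
  have hbij : Function.Bijective fun t : T => (⟨s t, hsM t⟩ : M24) :=
    (Nat.bijective_iff_injective_and_card _).2 ⟨hinj, by rw [hc, Cfsg.Agent.S0364.result]⟩
  refine ⟨e, e.injective, fun q _ => e.surjective q, fun g hg => ?_⟩
  obtain ⟨t, ht⟩ := hbij.2 ⟨g, (Subgroup.mem_inf.1 hg).1⟩
  refine ⟨t, fun x => ?_⟩
  have h7 : s t = g := congrArg Subtype.val ht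
  rw [hse, h7]

/-- evaluation of a word in two tables -/
def evalw (a b : List ℕ) : List Bool → ℕ → ℕ
  | [], i => i
  | true :: w, i => app a (evalw a b w i)
  | false :: w, i => app b (evalw a b w i)

/-- check of an orbit -/
def orbOK (a b : List ℕ) (ws : List (List Bool)) (L : List ℕ) : Bool :=
  L.contains 0 && decide L.Nodup && decide (ws.map (fun w => evalw a b w 0) = L) &&
    L.all fun i => Nat.blt i 24 && L.contains (app a i) && L.contains (app b i)

theorem exists_orbit_of_tabs {T Ω : Type*} [Group T] [Finite T] [MulAction T Ω] (N : Nat23 T Ω)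
    {a b : List ℕ} {ws : List (List Bool)} {L : List ℕ} (ha : chk a = true) (hb : chk b = true)
    (ha3 : app a 23 = 23) (hb3 : app b 23 = 23) (hL : orbOK a b ws L = true) :
    ∃ (H : Subgroup T) (ω : Ω), (orbit H ω).ncard = L.length := by
  classical
  obtain ⟨e, he, hsur, hM⟩ := N.ex
  obtain ⟨x, hx, hxa⟩ := exists_elem a ha
  obtain ⟨y, hy, hyb⟩ := exists_elem b hb
  obtain ⟨s, hs⟩ := hM x (mem_M23 hx hxa ha3)
  obtain ⟨t, ht⟩ := hM y (mem_M23 hy hyb hb3)
  obtain ⟨ω, hω⟩ := hsur (some 0) (by simp)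
  rw [orbOK, Bool.and_eq_true, Bool.and_eq_true, Bool.and_eq_true, decide_eq_true_eq,
    decide_eq_true_eq, List.all_eq_true, List.contains_iff_mem] at hL
  obtain ⟨⟨⟨h0, hnd⟩, hws⟩, hall⟩ := hL
  have hall' : ∀ i ∈ L, i < 24 ∧ app a i ∈ L ∧ app b i ∈ L := by
    intro i hi
    have := hall i hi
    simp only [Bool.and_eq_true, List.contains_iff_mem] at this
    exact ⟨Nat.le_of_ble_eq_true this.1.1, this.1.2, this.2⟩
  set H := Subgroup.closure ({s, t} : Set T) with hH
  have hclo : ∀ h ∈ H, ∀ z : Ω, idx (e z) ∈ L → idx (e (h • z)) ∈ L := by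
    intro h hh
    have h1 : h ∈ Submonoid.closure ({s, t} : Set T) := by
      rw [← Subgroup.closure_toSubmonoid_of_finite]
      exact hh
    clear hh
    induction h1 using Submonoid.closure_induction with
    | mem u hu =>
      intro z hz
      rcases hu with rfl | rfl
      · rw [hs, hxa]; exact (hall' _ hz).2.1
      · rw [ht, hyb]; exact (hall' _ hz).2.2
    | one => intro z hz; rwa [one_smul]
    | mul u v _ _ hu hv => intro z hz; rw [mul_smul]; exact hu _ (hv _ hz)
  have hword : ∀ w : List Bool, ∃ h ∈ H, idx (e (h • ω)) = evalw a b w 0 := by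
    intro w
    induction w with
    | nil => exact ⟨1, H.one_mem, by rw [one_smul, hω, idx_zero]; rfl⟩
    | cons c w ih =>
      obtain ⟨h, hh, hhe⟩ := ih
      cases c with
      | true =>
        refine ⟨s * h, H.mul_mem (Subgroup.subset_closure (by simp)) hh, ?_⟩
        rw [mul_smul, hs, hxa, hhe]; rfl
      | false =>
        refine ⟨t * h, H.mul_mem (Subgroup.subset_closure (by simp)) hh, ?_⟩
        rw [mul_smul, ht, hyb, hhe]; rfl
  refine ⟨H, ω, ?_⟩
  have himg : (fun z => idx (e z)) '' (orbit H ω) = {i | i ∈ L} := by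
    ext i
    constructor
    · rintro ⟨_, ⟨h, rfl⟩, rfl⟩
      exact hclo h.1 h.2 ω (by rw [hω, idx_zero]; exact h0)
    · intro hi
      have hi' : i ∈ ws.map (fun w => evalw a b w 0) := by rw [hws]; exact hi
      obtain ⟨w, -, hw⟩ := List.mem_map.1 hi'
      obtain ⟨h, hh, hhe⟩ := hword w
      exact ⟨h • ω, ⟨⟨h, hh⟩, rfl⟩, by rw [← hw, ← hhe]⟩
  have hinj : Function.Injective fun z : Ω => idx (e z) := fun z z' h => he (idx_injective h)
  rw [← Set.ncard_image_of_injective _ hinj, himg]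
  have : {i | i ∈ L} = (L.toFinset : Set ℕ) := by ext i; simp
  rw [this, Set.ncard_coe_finset, List.toFinset_card_of_nodup hnd]

/-- tables for the orbits of length 9, 10 and 12 -/
def a9 : List ℕ := [19, 18, 9, 4, 5, 3, 6, 1, 8, 12, 0, 15, 2, 16, 14, 21, 22, 17, 7, 10, 20, 11, 13, 23]
def b9 : List ℕ := [12, 7, 3, 19, 10, 0, 14, 18, 6, 4, 9, 11, 5, 16, 8, 15, 22, 17, 1, 2, 20, 21, 13, 23]
def w9 : List (List Bool) := [[], [false, true], [false, false, true], [false, false, true, true],
  [false, false], [false, true, true], [true, true], [false], [true]]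
def a10 : List ℕ := [20, 1, 19, 9, 10, 5, 18, 14, 8, 3, 4, 15, 12, 13, 7, 11, 21, 17, 6, 2, 0, 16, 22, 23]
def b10 : List ℕ := [16, 13, 0, 3, 1, 14, 6, 17, 9, 18, 11, 15, 12, 4, 19, 10, 2, 21, 8, 5, 20, 7, 22, 23]
def w10 : List (List Bool) := [[], [false, false], [false, true, false, false],
  [false, true, false], [true, false, true, false], [false], [false, false, true, false],
  [true, false, false], [true], [true, false]]
def a12 : List ℕ := [0, 5, 14, 3, 10, 1, 18, 19, 12, 9, 4, 21, 8, 13, 2, 16, 15, 17, 6, 7, 20, 11, 22, 23]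
def b12 : List ℕ := [12, 1, 8, 5, 4, 22, 0, 18, 19, 9, 10, 20, 6, 16, 13, 7, 14, 17, 15, 2, 21, 11, 3, 23]
def w12 : List (List Bool) := [[], [false, false, true, false], [false, false],
  [true, false, true, false], [true, false], [false], [false, true, false, false, true, false],
  [true, false, false, true, false], [false, true, false, false], [true, false, true, false, false],
  [true, false, false], [false, true, false]]

theorem orbits {T Ω : Type*} [Group T] [Finite T] [MulAction T Ω] (N : Nat23 T Ω) {k : ℕ}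
    (hk : k = 9 ∨ k = 10 ∨ k = 12) : ∃ (H : Subgroup T) (ω : Ω), (orbit H ω).ncard = k := by
  rcases hk with rfl | rfl | rfl
  · exact exists_orbit_of_tabs N (a := a9) (b := b9) (ws := w9)
      (L := [0, 2, 3, 4, 5, 9, 10, 12, 19]) (by decide +kernel) (by decide +kernel)
      (by decide +kernel) (by decide +kernel) (by decide +kernel)
  · exact exists_orbit_of_tabs N (a := a10) (b := b10) (ws := w10)
      (L := [0, 2, 5, 7, 14, 16, 17, 19, 20, 21]) (by decide +kernel) (by decide +kernel)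
      (by decide +kernel) (by decide +kernel) (by decide +kernel)
  · exact exists_orbit_of_tabs N (a := a12) (b := b12) (ws := w12)
      (L := [0, 2, 6, 7, 8, 12, 13, 14, 15, 16, 18, 19]) (by decide +kernel) (by decide +kernel)
      (by decide +kernel) (by decide +kernel) (by decide +kernel)

variable {G : Type u} {Ω : Type v} [Group G] [MulAction G Ω] {T : Subgroup G} [DecidableEq Ω] [Fintype Ω]

theorem homog_of_sub {k : ℕ} (hk : 1 ≤ k) (h : Hom G Ω k)
    (ho : ∃ (H : Subgroup T) (ω : Ω), (orbit H ω).ncard = k) : Homog G Ω (k - 1) := by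
  obtain ⟨H, ω, hH⟩ := ho
  refine h.homog_of_orbit hk (H.map T.subtype) ω ?_
  rw [← hH]
  congr 1
  ext x
  constructor
  · rintro ⟨⟨_, ⟨t, ht, rfl⟩⟩, rfl⟩
    exact ⟨⟨t, ht⟩, rfl⟩
  · rintro ⟨⟨t, ht⟩, rfl⟩
    exact ⟨⟨t, ⟨t, ht, rfl⟩⟩, rfl⟩

theorem four_M23 : ∃ g : Spor.M23, orderOf g = 4 := by
  obtain ⟨g, hg⟩ := four_M22
  exact ⟨Subgroup.inclusion inf_le_left g, by
    rw [← hg]; exact orderOf_injective _ (Subgroup.inclusion_injective _) g⟩

theorem eight_M23 : ∃ g : Spor.M23, orderOf g = 8 := by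
  obtain ⟨g, hg⟩ := eight_M22
  exact ⟨Subgroup.inclusion inf_le_left g, by
    rw [← hg]; exact orderOf_injective _ (Subgroup.inclusion_injective _) g⟩

theorem four_M24 : ∃ g : M24, orderOf g = 4 := by
  obtain ⟨g, hg⟩ := four_M23
  exact ⟨Subgroup.inclusion inf_le_left g, by
    rw [← hg]; exact orderOf_injective _ (Subgroup.inclusion_injective _) g⟩

theorem eight_M24 : ∃ g : M24, orderOf g = 8 := by
  obtain ⟨g, hg⟩ := eight_M23
  exact ⟨Subgroup.inclusion inf_le_left g, by
    rw [← hg]; exact orderOf_injective _ (Subgroup.inclusion_injective _) g⟩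

theorem row_big (A : AS G Ω T) (hn : Fintype.card Ω ≤ 24) (h4 : ∃ g : T, orderOf g = 4)
    (h8 : ∃ g : T, orderOf g = 8) (h5 : 5 ∣ Nat.card T) (h7 : 7 ∣ Nat.card T)
    (h11 : 11 ∣ Nat.card T) (h6 : SixPair T) (N : Nat23 T Ω) {k : ℕ} (hk : 4 ≤ k)
    (h2k : 2 * k ≤ Fintype.card Ω + 1) (h : Hom G Ω k) : Homog G Ω (k - 1) := by
  have := A.finG
  by_cases h9 : k = 9 ∨ k = 10 ∨ k = 12
  · exact homog_of_sub (by omega) h (orbits N h9)
  · rcases (show k = 4 ∨ k = 5 ∨ k = 6 ∨ k = 7 ∨ k = 8 ∨ k = 11 by omega) with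
      rfl | rfl | rfl | rfl | rfl | rfl
    · exact four A h h4
    · exact prime A (by norm_num) h h5
    · exact six A h h6
    · exact prime A (by norm_num) h h7
    · exact eight A h h8
    · exact prime A (by norm_num) h h11

theorem row_m23 (A : AS G Ω T) (hT : Spor.IsoM23 T) (hn : Nat.card Ω = 23) {k : ℕ}
    (hk : 4 ≤ k) (h2k : 2 * k ≤ Fintype.card Ω + 1) (h : Hom G Ω k) : Homog G Ω (k - 1) := by
  have := A.finG
  have := Cfsg.Agent.H436.TT.trans_T A
  have N := nat23_of_m23 (T := T) (Ω := Ω) hT hn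
  obtain ⟨e⟩ := hT
  have hc : Nat.card T = 10200960 := by
    rw [Nat.card_congr e.toEquiv, SporadicA.MathieuRecog.card_M23]
  rw [Nat.card_eq_fintype_card] at hn
  exact row_big A (by omega) (orderOf_transfer e four_M23) (orderOf_transfer e eight_M23)
    (by rw [hc]; norm_num) (by rw [hc]; norm_num) (by rw [hc]; norm_num)
    (SixPair.transfer e pair_M23) N hk h2k h

theorem row_m24 (A : AS G Ω T) (hT : Spor.IsoM24 T) (hn : Nat.card Ω = 24) {k : ℕ}
    (hk : 4 ≤ k) (h2k : 2 * k ≤ Fintype.card Ω + 1) (h : Hom G Ω k) : Homog G Ω (k - 1) := by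
  have := A.finG
  have := Cfsg.Agent.H436.TT.trans_T A
  have := A.faithful
  have : FaithfulSMul T Ω := ⟨fun h => Subtype.ext (FaithfulSMul.eq_of_smul_eq_smul (α := Ω) h)⟩
  have N := nat23_of_m24 (T := T) (Ω := Ω) hT hn
  obtain ⟨e⟩ := hT
  have hc : Nat.card T = 244823040 := by
    rw [Nat.card_congr e.toEquiv, Cfsg.Agent.S0364.result]
  rw [Nat.card_eq_fintype_card] at hn
  exact row_big A (by omega) (orderOf_transfer e four_M24) (orderOf_transfer e eight_M24)
    (by rw [hc]; norm_num) (by rw [hc]; norm_num) (by rw [hc]; norm_num)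
    (SixPair.transfer e pair_M24) N hk h2k h

end Cfsg.Agent.H447.KRowM23
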