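import Cfsg.Agent.S0160
import Cfsg.Agent.S0157
import Cfsg.Agent.Characters.Core
import Cfsg.Agent.Characters.Brauer
import Cfsg.Agent.H139.Cusp.Adams
import Cfsg.Prelude.Def_Blocks

/-!
# Character tables from a complete list of classes (helper447, for helper359's engine, S4819 / S4820)

`ClassTab G k` : representatives `x i` of all the classes and the orders `c i` of their centralizers;
`GC T rc v` : the function with the integer value `v (rc i)` at `x i` is a generalized character;
`Irr` : norm one and norm two generalized characters give all the irreducible characters.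
-/

set_option autoImplicit false

namespace Cfsg.Agent.H447.CTab

open Cfsg Cfsg.Agent.Characters.Core Cfsg.Agent.Characters.Brauer
open scoped ComplexConjugate

universe u

/-- a complete list of representatives of the classes with the orders of their centralizers -/
structure ClassTab (G : Type u) [Group G] [Finite G] (k : ℕ) where
  x : Fin k → G
  c : Fin k → ℕ
  cover : ∀ g : G, ∃ i, IsConj (x i) g
  inj : ∀ i j, IsConj (x i) (x j) → i = j
  card : ∀ i, Nat.card (Subgroup.centralizer ({x i} : Set G)) = c i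

/-- a class and a centralizer -/
theorem card_class_mul {G : Type u} [Group G] [Fintype G] [DecidableEq G] (x : G)
    [DecidablePred fun g : G => IsConj x g] :
    (Finset.univ.filter fun g : G => IsConj x g).card * Nat.card (Subgroup.centralizer ({x} : Set G)) =
      Nat.card G := by
  have e : {g : G // IsConj x g} ≃ G ⧸ Subgroup.centralizer ({x} : Set G) := by
    refine (Equiv.ofBijective (fun q : G ⧸ Subgroup.centralizer ({x} : Set G) => Quotient.liftOn' q
      (fun h : G => (⟨h * x * h⁻¹, isConj_iff.2 ⟨h, rfl⟩⟩ : {g : G // IsConj x g})) ?_) ⟨?_, ?_⟩).symm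
    · intro a b hab
      rw [QuotientGroup.leftRel_apply] at hab
      have h1 := Subgroup.mem_centralizer_singleton_iff.1 hab
      apply Subtype.ext
      show a * x * a⁻¹ = b * x * b⁻¹
      calc a * x * a⁻¹ = a * (x * (a⁻¹ * b)) * b⁻¹ := by group
        _ = a * (a⁻¹ * b * x) * b⁻¹ := by rw [h1]
        _ = b * x * b⁻¹ := by group
    · intro q q'
      obtain ⟨a, rfl⟩ := QuotientGroup.mk_surjective q
      obtain ⟨b, rfl⟩ := QuotientGroup.mk_surjective q'
      intro h
      have h1 : a * x * a⁻¹ = b * x * b⁻¹ := congrArg Subtype.val h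
      apply QuotientGroup.eq.2
      rw [Subgroup.mem_centralizer_singleton_iff]
      calc a⁻¹ * b * x = a⁻¹ * (b * x * b⁻¹) * b := by group
        _ = a⁻¹ * (a * x * a⁻¹) * b := by rw [h1]
        _ = x * (a⁻¹ * b) := by group
    · rintro ⟨g, hg⟩
      obtain ⟨h, hh⟩ := isConj_iff.1 hg
      exact ⟨QuotientGroup.mk h, Subtype.ext hh⟩
  rw [← Fintype.card_subtype, ← Nat.card_eq_fintype_card, Nat.card_congr e]
  exact (Subgroup.card_eq_card_quotient_mul_card_subgroup _).symm

theorem ofBound_aux {G : Type u} [Group G] [Finite G] {k : ℕ} (x : Fin k → G) (c : Fin k → ℕ) {N : ℕ}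
    (hN : Nat.card G = N) (inj : ∀ i j, IsConj (x i) (x j) → i = j)
    (hc : ∀ i, Nat.card (Subgroup.centralizer ({x i} : Set G)) ≤ c i) (hdvd : ∀ i, c i ∣ N)
    (hsum : N ≤ ∑ i, N / c i) :
    (∀ g : G, ∃ i, IsConj (x i) g) ∧ ∀ i, Nat.card (Subgroup.centralizer ({x i} : Set G)) = c i := by
  classical
  have := Fintype.ofFinite G
  have hNpos : 0 < N := hN ▸ Nat.card_pos
  have h1 : ∀ i, (Finset.univ.filter fun g : G => IsConj (x i) g).card *
      Nat.card (Subgroup.centralizer ({x i} : Set G)) = N := fun i => (card_class_mul (x i)).trans hN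
  have h2 : ∀ i, N / c i ≤ (Finset.univ.filter fun g : G => IsConj (x i) g).card := fun i => by
    apply Nat.div_le_of_le_mul
    rw [← h1 i, mul_comm]
    exact Nat.mul_le_mul_right _ (hc i)
  have h3 : (Finset.univ.biUnion fun i => Finset.univ.filter fun g : G => IsConj (x i) g).card =
      ∑ i, (Finset.univ.filter fun g : G => IsConj (x i) g).card := by
    apply Finset.card_biUnion
    intro i _ j _ hij
    rw [Function.onFun, Finset.disjoint_left]
    intro g hg hg'
    exact hij (inj i j ((Finset.mem_filter.1 hg).2.trans (Finset.mem_filter.1 hg').2.symm))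
  have h4 : (Finset.univ.biUnion fun i => Finset.univ.filter fun g : G => IsConj (x i) g).card ≤ N := by
    rw [← hN, Nat.card_eq_fintype_card]
    exact Finset.card_le_univ _
  have h5 : ∑ i, N / c i ≤ ∑ i, (Finset.univ.filter fun g : G => IsConj (x i) g).card :=
    Finset.sum_le_sum fun i _ => h2 i
  have h6 : ∀ i ∈ Finset.univ, N / c i = (Finset.univ.filter fun g : G => IsConj (x i) g).card :=
    (Finset.sum_eq_sum_iff_of_le fun i _ => h2 i).1 (by omega)
  have h7 : (Finset.univ.biUnion fun i => Finset.univ.filter fun g : G => IsConj (x i) g) = Finset.univ := by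
    rw [← Finset.card_eq_iff_eq_univ, ← Nat.card_eq_fintype_card, hN]
    omega
  refine ⟨fun g => ?_, fun i => ?_⟩
  · have h8 := Finset.mem_univ g
    rw [← h7] at h8
    obtain ⟨i, -, hi⟩ := Finset.mem_biUnion.1 h8
    exact ⟨i, (Finset.mem_filter.1 hi).2⟩
  · have h8 := h1 i
    rw [← h6 i (Finset.mem_univ i)] at h8
    have h9 : N / c i * c i = N := Nat.div_mul_cancel (hdvd i)
    have h10 : 0 < N / c i := Nat.pos_of_ne_zero fun h => by
      rw [h, zero_mul] at h9
      omega
    exact Nat.eq_of_mul_eq_mul_left h10 (h8.trans h9.symm)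

/-- **A class list from upper bounds of the centralizers**: pairwise not conjugate elements with
`|C(x i)| ≤ c i`, `c i ∣ N = |G|` and `N ≤ ∑ N / c i`. -/
def ClassTab.ofBound {G : Type u} [Group G] [Finite G] {k : ℕ} (x : Fin k → G) (c : Fin k → ℕ) {N : ℕ}
    (hN : Nat.card G = N) (inj : ∀ i j, IsConj (x i) (x j) → i = j)
    (hc : ∀ i, Nat.card (Subgroup.centralizer ({x i} : Set G)) ≤ c i) (hdvd : ∀ i, c i ∣ N)
    (hsum : N ≤ ∑ i, N / c i) : ClassTab G k where
  x := x
  c := c
  cover := (ofBound_aux x c hN inj hc hdvd hsum).1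
  inj := inj
  card := (ofBound_aux x c hN inj hc hdvd hsum).2

section

variable {G : Type u} [Group G] [Finite G] {k : ℕ} (T : ClassTab G k)

/-- the class of an element -/
noncomputable def ClassTab.cl (g : G) : Fin k := (T.cover g).choose

theorem ClassTab.isConj_cl (g : G) : IsConj (T.x (T.cl g)) g := (T.cover g).choose_spec

theorem ClassTab.cl_eq_iff {g : G} {i : Fin k} : T.cl g = i ↔ IsConj (T.x i) g := by
  constructor
  · rintro rfl
    exact T.isConj_cl g
  · intro h
    exact T.inj _ _ ((T.isConj_cl g).trans h.symm)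

theorem ClassTab.cl_x (i : Fin k) : T.cl (T.x i) = i := T.cl_eq_iff.2 (IsConj.refl _)

theorem ClassTab.apply {φ : G → ℂ} (hφ : IsClassFunction G φ) (g : G) : φ g = φ (T.x (T.cl g)) := by
  obtain ⟨h, hh⟩ := isConj_iff.1 (T.isConj_cl g)
  conv_lhs => rw [← hh, hφ]

/-- the length of a class -/
theorem ClassTab.card_fiber (i : Fin k) : Nat.card {g : G // T.cl g = i} * T.c i = Nat.card G := by
  rw [← T.card i]
  have e : {g : G // T.cl g = i} ≃ G ⧸ Subgroup.centralizer ({T.x i} : Set G) := by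
    refine (Equiv.ofBijective (fun q : G ⧸ Subgroup.centralizer ({T.x i} : Set G) => Quotient.liftOn' q
      (fun h : G => (⟨h * T.x i * h⁻¹, T.cl_eq_iff.2 (isConj_iff.2 ⟨h, rfl⟩)⟩ : {g : G // T.cl g = i})) ?_) ⟨?_, ?_⟩).symm
    · intro a b hab
      rw [QuotientGroup.leftRel_apply] at hab
      have h1 := Subgroup.mem_centralizer_singleton_iff.1 hab
      apply Subtype.ext
      show a * T.x i * a⁻¹ = b * T.x i * b⁻¹
      calc a * T.x i * a⁻¹ = a * (T.x i * (a⁻¹ * b)) * b⁻¹ := by group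
        _ = a * (a⁻¹ * b * T.x i) * b⁻¹ := by rw [h1]
        _ = b * T.x i * b⁻¹ := by group
    · intro q q'
      obtain ⟨a, rfl⟩ := QuotientGroup.mk_surjective q
      obtain ⟨b, rfl⟩ := QuotientGroup.mk_surjective q'
      intro h
      have h1 : a * T.x i * a⁻¹ = b * T.x i * b⁻¹ := congrArg Subtype.val h
      apply QuotientGroup.eq.2
      rw [Subgroup.mem_centralizer_singleton_iff]
      calc a⁻¹ * b * T.x i = a⁻¹ * (b * T.x i * b⁻¹) * b := by group
        _ = a⁻¹ * (a * T.x i * a⁻¹) * b := by rw [h1]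
        _ = T.x i * (a⁻¹ * b) := by group
    · rintro ⟨g, hg⟩
      obtain ⟨h, hh⟩ := isConj_iff.1 (T.cl_eq_iff.1 hg)
      exact ⟨QuotientGroup.mk h, Subtype.ext hh⟩
  rw [Nat.card_congr e]
  exact (Subgroup.card_eq_card_quotient_mul_card_subgroup _).symm

theorem ClassTab.c_pos (i : Fin k) : 0 < T.c i := by
  rw [← T.card i]
  exact Nat.card_pos

theorem ClassTab.card_fiber' (i : Fin k) : Nat.card {g : G // T.cl g = i} = Nat.card G / T.c i := by
  rw [← T.card_fiber i, Nat.mul_div_cancel _ (T.c_pos i)]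

include T in
/-- the number of classes -/
theorem ClassTab.card_classes : Nat.card (ConjClasses G) = k := by
  have e : Fin k ≃ ConjClasses G := by
    refine Equiv.ofBijective (fun i => ConjClasses.mk (T.x i)) ⟨?_, ?_⟩
    · intro i j h
      exact T.inj i j (ConjClasses.mk_eq_mk_iff_isConj.1 h)
    · intro C
      obtain ⟨g, rfl⟩ := ConjClasses.exists_rep C
      obtain ⟨i, hi⟩ := T.cover g
      exact ⟨i, ConjClasses.mk_eq_mk_iff_isConj.2 hi⟩
  rw [← Nat.card_congr e, Nat.card_eq_fintype_card, Fintype.card_fin]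

/-- sums over the group -/
theorem ClassTab.sum_eq [Fintype G] {f : G → ℂ} (hf : ∀ g, f g = f (T.x (T.cl g))) :
    ∑ g : G, f g = ∑ i, ((Nat.card G / T.c i : ℕ) : ℂ) * f (T.x i) := by
  classical
  rw [← Finset.sum_fiberwise_of_maps_to (s := Finset.univ) (t := Finset.univ) (g := T.cl) (fun _ _ => Finset.mem_univ _)]
  refine Finset.sum_congr rfl fun i _ => ?_
  rw [Finset.sum_congr rfl (g := fun _ => f (T.x i)) fun g hg => by
    rw [hf g, (Finset.mem_filter.1 hg).2], Finset.sum_const, nsmul_eq_mul]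
  congr 2
  rw [← T.card_fiber' i, Nat.card_eq_fintype_card, Fintype.card_subtype]

theorem ClassTab.inner_eq [Fintype G] {φ ψ : G → ℂ} (hφ : IsClassFunction G φ) (hψ : IsClassFunction G ψ) :
    (Nat.card G : ℂ) * classInner φ ψ = ∑ i, ((Nat.card G / T.c i : ℕ) : ℂ) * (φ (T.x i) * conj (ψ (T.x i))) := by
  rw [classInner_def, ← mul_assoc, mul_inv_cancel₀ card_ne_zero_complex, one_mul]
  refine T.sum_eq (f := fun g => φ g * conj (ψ g)) fun g => ?_
  rw [T.apply hφ g, T.apply hψ g]

/-! ### Integer valued generalized characters -/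

/-- the function with the integer value `v (rc i)` at `x i` is a generalized character -/
def GC {r : ℕ} (rc : Fin k → Fin r) (v : Fin r → ℤ) : Prop :=
  ∃ φ : G → ℂ, IsGeneralizedCharacter G φ ∧ ∀ i, φ (T.x i) = v (rc i)

variable {T} {r : ℕ} {rc : Fin k → Fin r}

theorem GC.congr {v w : Fin r → ℤ} (h : GC T rc v) (hvw : ∀ j, v j = w j) : GC T rc w := by
  obtain ⟨φ, h1, h2⟩ := h
  exact ⟨φ, h1, fun i => by rw [h2, hvw]⟩

theorem GC.one : GC T rc fun _ => 1 :=
  ⟨1, isGeneralizedCharacter_of_isCharacter isCharacter_one, fun i => by simp⟩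

theorem GC.zero : GC T rc fun _ => 0 := ⟨0, isGeneralizedCharacter_zero, fun i => by simp⟩

theorem GC.add {v w : Fin r → ℤ} (hv : GC T rc v) (hw : GC T rc w) : GC T rc fun j => v j + w j := by
  obtain ⟨φ, h1, h2⟩ := hv
  obtain ⟨ψ, h3, h4⟩ := hw
  exact ⟨φ + ψ, isGeneralizedCharacter_add h1 h3, fun i => by rw [Pi.add_apply, h2, h4]; push_cast; rfl⟩

theorem GC.neg {v : Fin r → ℤ} (hv : GC T rc v) : GC T rc fun j => - v j := by
  obtain ⟨φ, h1, h2⟩ := hv
  exact ⟨-φ, isGeneralizedCharacter_neg h1, fun i => by rw [Pi.neg_apply, h2]; push_cast; rfl⟩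

theorem GC.sub {v w : Fin r → ℤ} (hv : GC T rc v) (hw : GC T rc w) : GC T rc fun j => v j - w j := by
  obtain ⟨φ, h1, h2⟩ := hv
  obtain ⟨ψ, h3, h4⟩ := hw
  exact ⟨φ - ψ, isGeneralizedCharacter_sub h1 h3, fun i => by rw [Pi.sub_apply, h2, h4]; push_cast; rfl⟩

theorem GC.mul {v w : Fin r → ℤ} (hv : GC T rc v) (hw : GC T rc w) : GC T rc fun j => v j * w j := by
  obtain ⟨φ, h1, h2⟩ := hv
  obtain ⟨ψ, h3, h4⟩ := hw
  exact ⟨φ * ψ, isGeneralizedCharacter_mul h1 h3, fun i => by rw [Pi.mul_apply, h2, h4]; push_cast; rfl⟩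

theorem GC.nsmul {v : Fin r → ℤ} (hv : GC T rc v) (n : ℕ) : GC T rc fun j => n * v j := by
  induction n with
  | zero => exact GC.zero.congr fun j => by simp
  | succ n ih => exact (ih.add hv).congr fun j => by push_cast; ring

theorem GC.zsmul {v : Fin r → ℤ} (hv : GC T rc v) (n : ℤ) : GC T rc fun j => n * v j := by
  obtain ⟨m, rfl | rfl⟩ := n.eq_nat_or_neg
  · exact hv.nsmul m
  · exact (hv.nsmul m).neg.congr fun j => by ring

/-- a constant -/
theorem GC.const (n : ℤ) : GC T rc fun _ => n := ((GC.one (T := T) (rc := rc)).zsmul n).congr fun j => by ring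

/-- an integral combination -/
theorem GC.sum {ι : Type*} (s : Finset ι) {v : ι → Fin r → ℤ} (h : ∀ i ∈ s, GC T rc (v i)) (n : ι → ℤ) :
    GC T rc fun j => ∑ i ∈ s, n i * v i j := by
  classical
  induction s using Finset.induction_on with
  | empty => exact GC.zero.congr fun j => by simp
  | insert a s ha ih =>
    refine (((h a (Finset.mem_insert_self _ _)).zsmul (n a)).add
      (ih fun i hi => h i (Finset.mem_insert_of_mem hi))).congr fun j => ?_
    rw [Finset.sum_insert ha]

/-- a permutation character -/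
theorem GC.perm (X : Type*) [MulAction G X] [Finite X] {v : Fin r → ℤ}
    (h : ∀ i, (Nat.card (MulAction.fixedBy X (T.x i)) : ℤ) = v (rc i)) : GC T rc v :=
  ⟨_, isGeneralizedCharacter_of_isCharacter (S0157.isCharacter_fixedBy X), fun i => by
    rw [← h i]
    push_cast
    rfl⟩

/-- **Adams operations** -/
theorem GC.adams {v : Fin r → ℤ} (hv : GC T rc v) (a : ℕ) (pw : Fin r → Fin r)
    (h : ∀ i, ∃ j, IsConj (T.x j) (T.x i ^ a) ∧ rc j = pw (rc i)) : GC T rc fun j => v (pw j) := by
  obtain ⟨φ, h1, h2⟩ := hv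
  refine ⟨_, H139.Cusp.isGeneralizedCharacter_pow h1 a, fun i => ?_⟩
  obtain ⟨j, hj, hj'⟩ := h i
  have hφ : IsClassFunction G φ := by
    obtain ⟨α, β, hα, hβ, rfl⟩ := h1
    intro g y
    rw [Pi.sub_apply, Pi.sub_apply, isCharacter_isClassFunction hα, isCharacter_isClassFunction hβ]
  obtain ⟨g, hg⟩ := isConj_iff.1 hj
  rw [← hg, hφ, h2, hj']

end

/-! ### Multiplicities -/

section mult

variable {G : Type u} [Group G] [Fintype G]

omit [Fintype G] in
theorem gen_classFunction {φ : G → ℂ} (h : IsGeneralizedCharacter G φ) : IsClassFunction G φ := by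
  obtain ⟨α, β, hα, hβ, rfl⟩ := h
  intro g y
  rw [Pi.sub_apply, Pi.sub_apply, isCharacter_isClassFunction hα, isCharacter_isClassFunction hβ]

theorem exists_mu {φ : G → ℂ} (h : IsGeneralizedCharacter G φ) (χ : IrrCharacter G) :
    ∃ n : ℤ, classInner φ (χ : G → ℂ) = n := by
  obtain ⟨α, β, hα, hβ, rfl⟩ := h
  obtain ⟨a, ha⟩ := classInner_isNat hα (isIrr_isCharacter χ.2)
  obtain ⟨b, hb⟩ := classInner_isNat hβ (isIrr_isCharacter χ.2)
  exact ⟨a - b, by rw [classInner_sub_left, ha, hb]; push_cast; rfl⟩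

/-- the multiplicities -/
noncomputable def mu {φ : G → ℂ} (h : IsGeneralizedCharacter G φ) (χ : IrrCharacter G) : ℤ := (exists_mu h χ).choose

theorem inner_mu {φ : G → ℂ} (h : IsGeneralizedCharacter G φ) (χ : IrrCharacter G) :
    classInner φ (χ : G → ℂ) = mu h χ := (exists_mu h χ).choose_spec

variable [Fintype (IrrCharacter G)]

theorem apply_mu {φ : G → ℂ} (h : IsGeneralizedCharacter G φ) (g : G) :
    φ g = ∑ χ : IrrCharacter G, (mu h χ : ℂ) * (χ : G → ℂ) g := by
  have h1 := congrFun (classFunction_eq_sum (gen_classFunction h)) g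
  rw [h1, Finset.sum_apply]
  refine Finset.sum_congr rfl fun χ _ => ?_
  rw [Pi.smul_apply, smul_eq_mul, inner_mu]

theorem inner_sum_mu {φ ψ : G → ℂ} (h : IsGeneralizedCharacter G φ) (h' : IsGeneralizedCharacter G ψ) :
    classInner φ ψ = ((∑ χ : IrrCharacter G, mu h χ * mu h' χ : ℤ) : ℂ) := by
  rw [classInner_eq_sum (gen_classFunction h) (gen_classFunction h')]
  push_cast
  refine Finset.sum_congr rfl fun χ _ => ?_
  rw [inner_mu h, inner_mu h', map_intCast]

end mult

/-- the complex conjugate of an irreducible character -/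
noncomputable def cj {G : Type u} [Group G] [Finite G] (χ : IrrCharacter G) : IrrCharacter G :=
  ⟨fun g => conj ((χ : G → ℂ) g), isIrr_conj χ.2⟩

theorem cj_cj {G : Type u} [Group G] [Finite G] (χ : IrrCharacter G) : cj (cj χ) = χ := by
  apply Subtype.ext
  funext g
  show conj (conj ((χ : G → ℂ) g)) = _
  rw [Complex.conj_conj]

theorem cj_eq_iff {G : Type u} [Group G] [Finite G] (χ : IrrCharacter G) :
    cj χ = χ ↔ ∀ g : G, ((χ : G → ℂ) g).im = 0 := by
  constructor
  · intro h g
    have := congrFun (congrArg Subtype.val h) g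
    exact Complex.conj_eq_iff_im.1 this
  · intro h
    refine Subtype.ext (funext fun g => ?_)
    exact Complex.conj_eq_iff_im.2 (h g)

/-- real valued: the multiplicities are invariant -/
theorem mu_cj {G : Type u} [Group G] [Fintype G] {φ : G → ℂ} (h : IsGeneralizedCharacter G φ)
    (hreal : ∀ g, conj (φ g) = φ g) (χ : IrrCharacter G) : mu h (cj χ) = mu h χ := by
  have h1 : classInner φ ((cj χ : IrrCharacter G) : G → ℂ) = conj (classInner φ (χ : G → ℂ)) := by
    rw [classInner_def, classInner_def, map_mul, map_inv₀, Complex.conj_natCast, map_sum]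
    congr 1
    refine Finset.sum_congr rfl fun g _ => ?_
    rw [map_mul, hreal g]
    rfl
  rw [inner_mu h, inner_mu h, map_intCast] at h1
  exact_mod_cast h1

/-! ### integer vectors of norm one and two -/

theorem one_of_sum_sq {I : Type*} [Fintype I] {m : I → ℤ} (h : ∑ i, m i * m i = 1) :
    ∃ i, (m i = 1 ∨ m i = -1) ∧ ∀ j, j ≠ i → m j = 0 := by
  classical
  obtain ⟨i, -, hi⟩ : ∃ i ∈ Finset.univ, m i * m i ≠ 0 := by
    by_contra hcon
    push Not at hcon
    rw [Finset.sum_eq_zero hcon] at h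
    exact zero_ne_one h
  rw [← Finset.add_sum_erase _ _ (Finset.mem_univ i)] at h
  have h1 : 0 ≤ ∑ j ∈ Finset.univ.erase i, m j * m j := Finset.sum_nonneg fun j _ => mul_self_nonneg _
  have h2 : 0 < m i * m i := lt_of_le_of_ne (mul_self_nonneg _) (Ne.symm hi)
  have h3 : m i * m i = 1 := by omega
  have h4 : ∑ j ∈ Finset.univ.erase i, m j * m j = 0 := by omega
  refine ⟨i, mul_self_eq_one_iff.1 h3, fun j hj => ?_⟩
  have h5 := (Finset.sum_eq_zero_iff_of_nonneg fun j _ => mul_self_nonneg (m j)).1 h4 j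
    (Finset.mem_erase.2 ⟨hj, Finset.mem_univ j⟩)
  exact mul_self_eq_zero.1 h5

theorem two_of_sum_sq {I : Type*} [Fintype I] {m : I → ℤ} (h : ∑ i, m i * m i = 2) :
    ∃ i j, i ≠ j ∧ (m i = 1 ∨ m i = -1) ∧ (m j = 1 ∨ m j = -1) ∧ ∀ l, l ≠ i → l ≠ j → m l = 0 := by
  classical
  obtain ⟨i, -, hi⟩ : ∃ i ∈ Finset.univ, m i * m i ≠ 0 := by
    by_contra hcon
    push Not at hcon
    rw [Finset.sum_eq_zero hcon] at h
    exact two_ne_zero h.symm
  rw [← Finset.add_sum_erase _ _ (Finset.mem_univ i)] at h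
  have h1 : 0 ≤ ∑ j ∈ Finset.univ.erase i, m j * m j := Finset.sum_nonneg fun j _ => mul_self_nonneg _
  have h2 : 0 < m i * m i := lt_of_le_of_ne (mul_self_nonneg _) (Ne.symm hi)
  have h3 : m i * m i ≤ 2 := by omega
  have h4 : m i = 1 ∨ m i = -1 := by
    have h5 : m i ≤ 1 := by nlinarith
    have h6 : -1 ≤ m i := by nlinarith
    have h7 : m i ≠ 0 := fun h => hi (by rw [h, mul_zero])
    omega
  have h5 : m i * m i = 1 := by rcases h4 with h | h <;> rw [h] <;> norm_num
  rw [h5] at h
  have h6 : ∑ j ∈ Finset.univ.erase i, m j * m j = 1 := by omega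
  obtain ⟨j, hj, hj'⟩ : ∃ j ∈ Finset.univ.erase i, m j * m j ≠ 0 := by
    by_contra hcon
    push Not at hcon
    rw [Finset.sum_eq_zero hcon] at h6
    exact zero_ne_one h6
  rw [← Finset.add_sum_erase _ _ hj] at h6
  have h7 : 0 ≤ ∑ l ∈ (Finset.univ.erase i).erase j, m l * m l := Finset.sum_nonneg fun j _ => mul_self_nonneg _
  have h8 : 0 < m j * m j := lt_of_le_of_ne (mul_self_nonneg _) (Ne.symm hj')
  have h9 : m j * m j = 1 := by omega
  have h10 : ∑ l ∈ (Finset.univ.erase i).erase j, m l * m l = 0 := by omega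
  refine ⟨i, j, (Finset.mem_erase.1 hj).1.symm, h4, mul_self_eq_one_iff.1 h9, fun l hl hl' => ?_⟩
  have h11 := (Finset.sum_eq_zero_iff_of_nonneg fun j _ => mul_self_nonneg (m j)).1 h10 l
    (Finset.mem_erase.2 ⟨hl', Finset.mem_erase.2 ⟨hl, Finset.mem_univ l⟩⟩)
  exact mul_self_eq_zero.1 h11

/-! ### The main theorem -/

section main

variable {G : Type u} [Group G] [Finite G] {k r m n : ℕ}

/-- **The data of a character table**: `m` rational irreducible characters and `n` sums of two complex conjugate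
irreducible characters, `m + 2 n` classes, at most `m` of them real. -/
structure Table (T : ClassTab G k) (rc : Fin k → Fin r) (m n : ℕ) where
  R : Fin m → Fin r → ℤ
  P : Fin n → Fin r → ℤ
  i0 : Fin k
  real : Fin k → Bool
  hi0 : T.x i0 = 1
  gR : ∀ a, GC T rc (R a)
  gP : ∀ b, GC T rc (P b)
  RR : ∀ a b, ∑ i, ((Nat.card G / T.c i : ℕ) : ℤ) * (R a (rc i) * R b (rc i)) = if a = b then (Nat.card G : ℤ) else 0
  PP : ∀ a b, ∑ i, ((Nat.card G / T.c i : ℕ) : ℤ) * (P a (rc i) * P b (rc i)) =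
    if a = b then 2 * (Nat.card G : ℤ) else 0
  RP : ∀ a b, ∑ i, ((Nat.card G / T.c i : ℕ) : ℤ) * (R a (rc i) * P b (rc i)) = 0
  Rpos : ∀ a, 0 < R a (rc i0)
  Ppos : ∀ b, 0 < P b (rc i0)
  hk : k = m + 2 * n
  hreal : ∀ i, real i = false → ¬ IsConj (T.x i) (T.x i)⁻¹
  card_real : (Finset.univ.filter fun i => real i = true).card ≤ m

namespace Table

variable {T : ClassTab G k} {rc : Fin k → Fin r} (Θ : Table T rc m n)

theorem value {φ : G → ℂ} (hφ : IsGeneralizedCharacter G φ) {v : Fin r → ℤ} (hv : ∀ i, φ (T.x i) = v (rc i)) (g : G) :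
    φ g = v (rc (T.cl g)) := by
  rw [T.apply (gen_classFunction hφ) g, hv]

include Θ in
/-- the real classes -/
theorem card_real_le : Nat.card {χ : IrrCharacter G // cj χ = χ} ≤ m := by
  have h1 : Nat.card {χ : IrrCharacter G // cj χ = χ} =
      Nat.card {χ : IrrCharacter G // ∀ g : G, ((χ : G → ℂ) g).im = 0} :=
    Nat.card_congr (Equiv.subtypeEquivRight fun χ => cj_eq_iff χ)
  rw [h1, S0160.result]
  refine le_trans ?_ Θ.card_real
  rw [← Fintype.card_subtype, ← Nat.card_eq_fintype_card]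
  have hf : ∀ C : {C : ConjClasses G // ∀ g : G, ConjClasses.mk g = C → IsConj g g⁻¹},
      Θ.real (T.cl (ConjClasses.exists_rep C.1).choose) = true := by
    intro C
    have h2 := C.2 _ (ConjClasses.exists_rep C.1).choose_spec
    generalize (ConjClasses.exists_rep C.1).choose = g at h2 ⊢
    by_contra hcon
    rw [Bool.not_eq_true] at hcon
    refine Θ.hreal _ hcon ?_
    obtain ⟨y, hy⟩ := isConj_iff.1 (T.isConj_cl g)
    have h3 : IsConj (T.x (T.cl g))⁻¹ g⁻¹ := isConj_iff.2 ⟨y, by
      conv_rhs => rw [← hy]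
      group⟩
    exact (T.isConj_cl g).trans (h2.trans h3.symm)
  refine Nat.card_le_card_of_injective (fun C => ⟨T.cl (ConjClasses.exists_rep C.1).choose, hf C⟩) fun C C' h => ?_
  have h4 : T.cl (ConjClasses.exists_rep C.1).choose = T.cl (ConjClasses.exists_rep C'.1).choose :=
    congrArg Subtype.val h
  apply Subtype.ext
  rw [← (ConjClasses.exists_rep C.1).choose_spec, ← (ConjClasses.exists_rep C'.1).choose_spec]
  apply ConjClasses.mk_eq_mk_iff_isConj.2
  have h5 := T.isConj_cl (ConjClasses.exists_rep C.1).choose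
  rw [h4] at h5
  exact h5.symm.trans (T.isConj_cl _)

theorem inner_int [Fintype G] {φ ψ : G → ℂ} (hφ : IsGeneralizedCharacter G φ) (hψ : IsGeneralizedCharacter G ψ)
    {v w : Fin r → ℤ} (hv : ∀ i, φ (T.x i) = v (rc i)) (hw : ∀ i, ψ (T.x i) = w (rc i)) {s : ℤ}
    (h : ∑ i, ((Nat.card G / T.c i : ℕ) : ℤ) * (v (rc i) * w (rc i)) = s * (Nat.card G : ℤ)) :
    classInner φ ψ = s := by
  have h1 := T.inner_eq (gen_classFunction hφ) (gen_classFunction hψ)
  have h2 : ∑ i, ((Nat.card G / T.c i : ℕ) : ℂ) * (φ (T.x i) * conj (ψ (T.x i))) = (s : ℂ) * (Nat.card G : ℂ) := by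
    have h3 := congrArg (fun z : ℤ => (z : ℂ)) h
    simp only [Int.cast_sum, Int.cast_mul, Int.cast_natCast] at h3
    rw [← h3]
    refine Finset.sum_congr rfl fun i _ => ?_
    rw [hv, hw, map_intCast]
  rw [h2, mul_comm] at h1
  exact mul_right_cancel₀ card_ne_zero_complex h1

theorem conj_value {φ : G → ℂ} (hφ : IsGeneralizedCharacter G φ) {v : Fin r → ℤ} (hv : ∀ i, φ (T.x i) = v (rc i))
    (g : G) : conj (φ g) = φ g := by
  rw [value hφ hv g, map_intCast]

/-- **The irreducible characters** -/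
theorem exists_irr : ∃ (χ : Fin m → IrrCharacter G) (ψ : Fin n → IrrCharacter G),
    (∀ a i, (χ a : G → ℂ) (T.x i) = Θ.R a (rc i)) ∧
    (∀ b i, (ψ b : G → ℂ) (T.x i) + (cj (ψ b) : G → ℂ) (T.x i) = Θ.P b (rc i)) ∧
    (∀ b, cj (ψ b) ≠ ψ b) ∧
    Function.Bijective (Sum.elim χ fun p : Fin n × Bool => if p.2 then ψ p.1 else cj (ψ p.1)) := by
  classical
  have := Fintype.ofFinite G
  have : Finite (IrrCharacter G) := finite_irr
  have := Fintype.ofFinite (IrrCharacter G)
  have hN : (0 : ℤ) < Nat.card G := by exact_mod_cast Nat.card_pos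
  choose f hf hfv using Θ.gR
  choose q hq hqv using Θ.gP
  -- the rational ones
  have hR : ∀ a, ∃ χ : IrrCharacter G, (χ : G → ℂ) = f a := by
    intro a
    have h1 : classInner (f a) (f a) = ((1 : ℤ) : ℂ) :=
      inner_int (hf a) (hf a) (hfv a) (hfv a) (by rw [Θ.RR a a, if_pos rfl, one_mul])
    rw [inner_sum_mu (hf a) (hf a)] at h1
    obtain ⟨χ, h2, h3⟩ := one_of_sum_sq (m := mu (hf a)) (by exact_mod_cast h1)
    have h4 : ∀ g, f a g = (mu (hf a) χ : ℂ) * (χ : G → ℂ) g := by
      intro g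
      rw [apply_mu (hf a) g]
      exact Finset.sum_eq_single χ (fun χ' _ h => by rw [h3 χ' h, Int.cast_zero, zero_mul])
        fun h => absurd (Finset.mem_univ χ) h
    refine ⟨χ, funext fun g => ?_⟩
    have h5 : mu (hf a) χ = 1 := by
      refine h2.resolve_right fun h => ?_
      have h6 := h4 1
      obtain ⟨d, hd, hd'⟩ := isIrr_apply_one χ.2
      have h7 := hfv a Θ.i0
      rw [Θ.hi0, h6, h, hd'] at h7
      have h8 : (-1 : ℤ) * (d : ℤ) = Θ.R a (rc Θ.i0) := by exact_mod_cast h7
      have h9 := Θ.Rpos a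
      omega
    rw [h4 g, h5, Int.cast_one, one_mul]
  choose χ hχ using hR
  have hχreal : ∀ a, cj (χ a) = χ a := by
    intro a
    refine Subtype.ext (funext fun g => ?_)
    show conj ((χ a : G → ℂ) g) = (χ a : G → ℂ) g
    rw [hχ a]
    exact conj_value (hf a) (hfv a) g
  have hχinj : Function.Injective χ := by
    intro a b hab
    by_contra hne
    have h1 : classInner (f a) (f b) = ((0 : ℤ) : ℂ) :=
      inner_int (hf a) (hf b) (hfv a) (hfv b) (by rw [Θ.RR a b, if_neg hne, zero_mul])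
    rw [← hχ a, ← hχ b, hab, classInner_irr_self (χ b).2, Int.cast_zero] at h1
    exact one_ne_zero h1
  have hχsurj : ∀ η : IrrCharacter G, cj η = η → ∃ a, χ a = η := by
    have h1 : Function.Bijective (fun a => (⟨χ a, hχreal a⟩ : {χ : IrrCharacter G // cj χ = χ})) := by
      refine (Nat.bijective_iff_injective_and_card _).2 ⟨fun a b h => hχinj (congrArg Subtype.val h), ?_⟩
      refine le_antisymm (Nat.card_le_card_of_injective (fun a => (⟨χ a, hχreal a⟩ : {χ : IrrCharacter G // cj χ = χ}))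
        fun a b h => hχinj (congrArg Subtype.val h)) ?_
      rw [Nat.card_eq_fintype_card (α := Fin m), Fintype.card_fin]
      exact Θ.card_real_le
    intro η hη
    obtain ⟨a, ha⟩ := h1.2 ⟨η, hη⟩
    exact ⟨a, congrArg Subtype.val ha⟩
  -- the pairs
  have hP : ∀ b, ∃ ψ : IrrCharacter G, cj ψ ≠ ψ ∧ mu (hq b) ψ = 1 ∧ mu (hq b) (cj ψ) = 1 ∧
      ∀ g, q b g = (ψ : G → ℂ) g + (cj ψ : G → ℂ) g := by
    intro b
    have h1 : classInner (q b) (q b) = ((2 : ℤ) : ℂ) :=
      inner_int (hq b) (hq b) (hqv b) (hqv b) (by rw [Θ.PP b b, if_pos rfl])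
    rw [inner_sum_mu (hq b) (hq b)] at h1
    obtain ⟨ψ, ψ', hne, h2, h2', h3⟩ := two_of_sum_sq (m := mu (hq b)) (by exact_mod_cast h1)
    have h4 : ∀ η, cj η = η → mu (hq b) η = 0 := by
      intro η hη
      obtain ⟨a, rfl⟩ := hχsurj η hη
      have h5 : classInner (f a) (q b) = ((0 : ℤ) : ℂ) :=
        inner_int (hf a) (hq b) (hfv a) (hqv b) (by rw [Θ.RP a b, zero_mul])
      have h6 := inner_mu (hq b) (χ a)
      rw [← classInner_conj_symm, hχ a, h5, Int.cast_zero, map_zero] at h6
      exact_mod_cast h6.symm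
    have h5 : cj ψ ≠ ψ := by
      intro h
      rw [h4 ψ h] at h2
      rcases h2 with h2 | h2 <;> norm_num at h2
    have h6 : cj ψ = ψ' := by
      by_contra hcon
      have h7 := h3 (cj ψ) h5 hcon
      rw [mu_cj (hq b) (conj_value (hq b) (hqv b))] at h7
      rw [h7] at h2
      rcases h2 with h2 | h2 <;> norm_num at h2
    have h7 := mu_cj (hq b) (conj_value (hq b) (hqv b)) ψ
    have h8 : ∀ g, q b g = (mu (hq b) ψ : ℂ) * ((ψ : G → ℂ) g + (cj ψ : G → ℂ) g) := by
      intro g
      rw [apply_mu (hq b) g, ← Finset.add_sum_erase _ _ (Finset.mem_univ ψ),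
        ← Finset.add_sum_erase _ _ (Finset.mem_erase.2 ⟨h5, Finset.mem_univ (cj ψ)⟩), Finset.sum_eq_zero, h7]
      · ring
      · intro η hη
        rw [h3 η (Finset.mem_erase.1 (Finset.mem_erase.1 hη).2).1 (by
          rw [← h6]
          exact (Finset.mem_erase.1 hη).1), Int.cast_zero, zero_mul]
    have h9 : mu (hq b) ψ = 1 := by
      refine h2.resolve_right fun h => ?_
      have h10 := h8 1
      obtain ⟨d, hd, hd'⟩ := isIrr_apply_one ψ.2
      have h11 : (cj ψ : G → ℂ) 1 = d := by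
        show conj ((ψ : G → ℂ) 1) = d
        rw [hd', Complex.conj_natCast]
      have h12 := hqv b Θ.i0
      rw [Θ.hi0, h10, h, hd', h11] at h12
      have h13 : (-1 : ℤ) * ((d : ℤ) + (d : ℤ)) = Θ.P b (rc Θ.i0) := by exact_mod_cast h12
      have h14 := Θ.Ppos b
      omega
    refine ⟨ψ, h5, h9, h7.trans h9, fun g => ?_⟩
    rw [h8 g, h9, Int.cast_one, one_mul]
  choose ψ hψ hψ1 hψ2 hψv using hP
  refine ⟨χ, ψ, fun a i => ?_, fun b i => ?_, hψ, ?_⟩
  · rw [hχ a, hfv]
  · rw [← hψv b, hqv]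
  -- all
  have hmem : ∀ (b : Fin n) (s : Bool), mu (hq b) (if s then ψ b else cj (ψ b)) = 1 := by
    rintro b (_ | _)
    · exact hψ2 b
    · exact hψ1 b
  have hnr : ∀ (b : Fin n) (s : Bool), cj (if s then ψ b else cj (ψ b)) ≠ (if s then ψ b else cj (ψ b)) := by
    rintro b (_ | _)
    · show cj (cj (ψ b)) ≠ cj (ψ b)
      rw [cj_cj]
      exact (hψ b).symm
    · exact hψ b
  have hpos : ∀ b η, 0 ≤ mu (hq b) η := by
    intro b η
    by_cases h : 0 ≤ mu (hq b) η
    · exact h
    · exfalso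
      have h1 : classInner (q b) (q b) = ((2 : ℤ) : ℂ) :=
        inner_int (hq b) (hq b) (hqv b) (hqv b) (by rw [Θ.PP b b, if_pos rfl])
      rw [inner_sum_mu (hq b) (hq b)] at h1
      have h2 : ∑ η, mu (hq b) η * mu (hq b) η = 2 := by exact_mod_cast h1
      have h3 : η ≠ ψ b := fun h' => h (by rw [h', hψ1]; norm_num)
      have h4 : η ≠ cj (ψ b) := fun h' => h (by rw [h', hψ2]; norm_num)
      rw [← Finset.add_sum_erase _ _ (Finset.mem_univ (ψ b)),
        ← Finset.add_sum_erase _ _ (Finset.mem_erase.2 ⟨hψ b, Finset.mem_univ (cj (ψ b))⟩),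
        ← Finset.add_sum_erase _ _ (Finset.mem_erase.2 ⟨h4, Finset.mem_erase.2 ⟨h3, Finset.mem_univ η⟩⟩),
        hψ1, hψ2] at h2
      have h5 : 0 ≤ ∑ x ∈ ((Finset.univ.erase (ψ b)).erase (cj (ψ b))).erase η, mu (hq b) x * mu (hq b) x :=
        Finset.sum_nonneg fun j _ => mul_self_nonneg _
      have h6 : 0 < mu (hq b) η * mu (hq b) η := by
        push Not at h
        nlinarith
      omega
  have hinj : Function.Injective (Sum.elim χ fun p : Fin n × Bool => if p.2 then ψ p.1 else cj (ψ p.1)) := by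
    rintro (a | ⟨b, s⟩) (a' | ⟨b', s'⟩) h
    · rw [hχinj h]
    · exfalso
      have h' : χ a = if s' then ψ b' else cj (ψ b') := h
      exact hnr b' s' (by rw [← h']; exact hχreal a)
    · exfalso
      have h' : (if s then ψ b else cj (ψ b)) = χ a' := h
      exact hnr b s (by rw [h']; exact hχreal a')
    · have h' : (if s then ψ b else cj (ψ b)) = if s' then ψ b' else cj (ψ b') := h
      have hb : b = b' := by
        by_contra hne
        have h1 : classInner (q b) (q b') = ((0 : ℤ) : ℂ) :=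
          inner_int (hq b) (hq b') (hqv b) (hqv b') (by rw [Θ.PP b b', if_neg hne, zero_mul])
        rw [inner_sum_mu (hq b) (hq b')] at h1
        have h2 : ∑ η, mu (hq b) η * mu (hq b') η = 0 := by exact_mod_cast h1
        have h3 := (Finset.sum_eq_zero_iff_of_nonneg fun η _ => mul_nonneg (hpos b η) (hpos b' η)).1 h2
          (if s then ψ b else cj (ψ b)) (Finset.mem_univ _)
        rw [hmem b s, h', hmem b' s'] at h3
        exact one_ne_zero h3
      subst hb
      have hs : s = s' := by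
        rcases s with _ | _ <;> rcases s' with _ | _
        · rfl
        · exact absurd h' (hψ b)
        · exact absurd h'.symm (hψ b)
        · rfl
      rw [hs]
  refine (Fintype.bijective_iff_injective_and_card _).2 ⟨hinj, ?_⟩
  rw [Fintype.card_sum, Fintype.card_prod, Fintype.card_bool, Fintype.card_fin, Fintype.card_fin,
    ← Nat.card_eq_fintype_card, card_irr, T.card_classes, Θ.hk, mul_comm n 2]

omit [Finite G] in
theorem degree_eq {χ : IrrCharacter G} {z : ℤ} (h : (χ : G → ℂ) 1 = z) : charDegree (χ : G → ℂ) = z.toNat := by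
  rw [charDegree, h, Complex.intCast_re, ← Int.floor_toNat, Int.floor_intCast]

/-- **The number of irreducible characters with a property of the degree** -/
theorem count (D : ℕ → Prop) (u : Fin m → Bool) (w : Fin n → Bool)
    (hu : ∀ a, D (Θ.R a (rc Θ.i0)).toNat ↔ u a = true) (hw : ∀ b, D ((Θ.P b (rc Θ.i0)).toNat / 2) ↔ w b = true) :
    Nat.card {χ : IrrCharacter G // D (charDegree (χ : G → ℂ))} =
      (Finset.univ.filter fun a => u a = true).card + 2 * (Finset.univ.filter fun b => w b = true).card := by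
  classical
  obtain ⟨χ, ψ, hχ, hψ, -, hbij⟩ := Θ.exists_irr
  have h1 : ∀ a, charDegree (χ a : G → ℂ) = (Θ.R a (rc Θ.i0)).toNat := fun a =>
    degree_eq (by rw [← hχ a, Θ.hi0])
  have h2 : ∀ p : Fin n × Bool, charDegree ((if p.2 then ψ p.1 else cj (ψ p.1) : IrrCharacter G) : G → ℂ) =
      (Θ.P p.1 (rc Θ.i0)).toNat / 2 := by
    rintro ⟨b, s⟩
    obtain ⟨d, -, hd⟩ := isIrr_apply_one (ψ b).2
    have hd' : (cj (ψ b) : G → ℂ) 1 = d := by
      show conj ((ψ b : G → ℂ) 1) = d
      rw [hd, Complex.conj_natCast]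
    have h3 := hψ b Θ.i0
    rw [Θ.hi0, hd, hd'] at h3
    have h4 : (d : ℤ) + (d : ℤ) = Θ.P b (rc Θ.i0) := by exact_mod_cast h3
    have h5 : ((if s then ψ b else cj (ψ b) : IrrCharacter G) : G → ℂ) 1 = ((d : ℤ) : ℂ) := by
      rcases s with _ | _
      · exact hd'
      · exact hd
    rw [degree_eq h5, ← h4]
    omega
  have h3 : Nat.card {χ : IrrCharacter G // D (charDegree (χ : G → ℂ))} =
      Nat.card {x : Fin m ⊕ Fin n × Bool // Sum.elim u (fun p => w p.1) x = true} := by
    refine (Nat.card_congr (Equiv.subtypeEquiv (Equiv.ofBijective _ hbij) ?_)).symm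
    rintro (a | p)
    · show u a = true ↔ D (charDegree (χ a : G → ℂ))
      rw [h1 a, hu a]
    · show w p.1 = true ↔ D (charDegree ((if p.2 then ψ p.1 else cj (ψ p.1) : IrrCharacter G) : G → ℂ))
      rw [h2 p, hw p.1]
  rw [h3, Nat.card_congr (Equiv.subtypeSum), Nat.card_sum]
  congr 1
  · show Nat.card {a // u a = true} = _
    rw [Nat.card_eq_fintype_card, Fintype.card_subtype]
  · show Nat.card {p : Fin n × Bool // w p.1 = true} = _
    rw [Nat.card_congr (Equiv.prodSubtypeFstEquivSubtypeProd (p := fun b => w b = true)), Nat.card_prod,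
      Nat.card_eq_fintype_card (α := Bool), Fintype.card_bool, Nat.card_eq_fintype_card, Fintype.card_subtype, mul_comm]

end Table

end main

end Cfsg.Agent.H447.CTab
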