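import Mathlib
import Cfsg.Prelude.Def_Local
import Cfsg.Prelude.Def_CaseTheorems
import Cfsg.Agent.Classification.NonComponent
import Cfsg.Agent.H320.EarlyChar

/-!
# The completion of `a ↦ O(C(a))` when all 2-local subgroups are 2-constrained

A Sylow 2-subgroup with a self-centralizing abelian normal subgroup of 2-rank at least 3.
-/

set_option autoImplicit false

namespace Cfsg.Agent.H447.CoreW

open Subgroup Cfsg
open Cfsg.Agent.Classification.NonComponent
open Cfsg.Agent.S0520

/-- An abelian subgroup `A` of 2-rank at least 3 contains an elementary abelian subgroup of order at least 8,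
characteristic in `A`. -/
theorem exists_omega {P : Type*} [Group P] [Finite P] (hP : IsPGroup 2 P) (A : Subgroup P) (hAn : A.Normal)
    (hAab : IsMulCommutative ↥A) (hA3 : ¬ Cfsg.PRankLE 2 2 ↥A) :
    ∃ E : Subgroup P, E.Normal ∧ IsMulCommutative E ∧ (∀ e ∈ E, e ^ 2 = 1) ∧ 8 ≤ Nat.card E := by
  have hcomm : ∀ a ∈ A, ∀ b ∈ A, a * b = b * a := fun a ha b hb => setLike_mul_comm ha hb
  let E : Subgroup P :=
    { carrier := {x | x ∈ A ∧ x * x = 1}
      one_mem' := ⟨A.one_mem, one_mul 1⟩
      mul_mem' := by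
        rintro a b ⟨ha, ha2⟩ ⟨hb, hb2⟩
        refine ⟨A.mul_mem ha hb, ?_⟩
        calc a * b * (a * b) = a * (b * a) * b := by group
          _ = a * (a * b) * b := by rw [hcomm b hb a ha]
          _ = (a * a) * (b * b) := by group
          _ = 1 := by rw [ha2, hb2, one_mul]
      inv_mem' := by
        rintro a ⟨ha, ha2⟩
        refine ⟨A.inv_mem ha, ?_⟩
        rw [← mul_inv_rev, ha2, inv_one] }
  refine ⟨E, ⟨?_⟩, ?_, ?_, ?_⟩
  · rintro x ⟨hx, hx2⟩ g
    refine ⟨hAn.conj_mem x hx g, ?_⟩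
    calc g * x * g⁻¹ * (g * x * g⁻¹) = g * (x * x) * g⁻¹ := by group
      _ = 1 := by rw [hx2]; group
  · exact IsMulCommutative.of_setLike_mul_comm fun a ha b hb => hcomm a ha.1 b hb.1
  · intro e he
    rw [pow_two]; exact he.2
  · have hgt : 4 < Nat.card E := by
      unfold Cfsg.PRankLE at hA3
      push Not at hA3
      obtain ⟨D, -, hD2, hD⟩ := hA3
      refine lt_of_lt_of_le (by simpa using hD) ?_
      refine Nat.card_le_card_of_injective
        (fun e : D => (⟨((e : A) : P), (e : A).2, ?_⟩ : E)) ?_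
      · have h1 : ((e : A) : P) ^ 2 = 1 := congrArg Subtype.val (hD2 (e : A) e.2)
        rw [← pow_two]; exact h1
      · intro a b hab
        have : ((a : A) : P) = ((b : A) : P) := Subtype.mk.inj hab
        exact Subtype.ext (Subtype.ext this)
    have : Fact (Nat.Prime 2) := ⟨Nat.prime_two⟩
    obtain ⟨n, hn⟩ := IsPGroup.iff_card.mp (hP.to_subgroup E)
    rw [hn] at hgt ⊢
    have h3 : 3 ≤ n := by
      by_contra hcon
      push Not at hcon
      have : 2 ^ n ≤ 2 ^ 2 := Nat.pow_le_pow_right (by norm_num) (by omega)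
      omega
    calc 8 = 2 ^ 3 := by norm_num
      _ ≤ 2 ^ n := Nat.pow_le_pow_right (by norm_num) h3

variable {G : Type*} [Group G] [Finite G]

/-- All Sylow 2-subgroups are 4-connected. -/
theorem fourConnected (S : Sylow 2 G) (A : Subgroup ↥(S : Subgroup G)) (hAn : A.Normal)
    (hAab : IsMulCommutative ↥A) (hA3 : ¬ Cfsg.PRankLE 2 2 ↥A) (S' : Sylow 2 G) :
    IsFourConnected (S' : Subgroup G) ∧ ∃ E : Subgroup G, E ≤ (S' : Subgroup G) ∧
      IsElementaryAbelian 2 E ∧ 2 ^ 3 ≤ Nat.card E := by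
  have : Fact (Nat.Prime 2) := ⟨Nat.prime_two⟩
  obtain ⟨E, hEn, hEc, hE2, hE8⟩ := exists_omega S.isPGroup' A hAn hAab hA3
  let e : (S : Subgroup G) ≃* (S' : Subgroup G) := Sylow.equiv S S'
  have hcomm : ∀ a ∈ E, ∀ b ∈ E, a * b = b * a := fun a ha b hb => setLike_mul_comm ha hb
  have hn : (E.map e.toMonoidHom).Normal := hEn.map _ e.surjective
  have hc : ∀ a ∈ E.map e.toMonoidHom, ∀ b ∈ E.map e.toMonoidHom, a * b = b * a := by
    rintro _ ⟨a, ha, rfl⟩ _ ⟨b, hb, rfl⟩
    rw [← map_mul, ← map_mul, hcomm a ha b hb]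
  have h2 : ∀ a ∈ E.map e.toMonoidHom, a ^ 2 = 1 := by
    rintro _ ⟨a, ha, rfl⟩
    rw [← map_pow, hE2 a ha, map_one]
  have h8 : 8 ≤ Nat.card (E.map e.toMonoidHom) := by
    rw [Subgroup.card_map_of_injective e.injective]
    exact hE8
  refine ⟨Cfsg.Agent.S0502.result S'.isPGroup' (E.map e.toMonoidHom)
    (IsMulCommutative.of_setLike_mul_comm hc) h2 h8,
    (E.map e.toMonoidHom).map (S' : Subgroup G).subtype, map_subtype_le _, ⟨?_, ?_⟩, ?_⟩
  · refine IsMulCommutative.of_setLike_mul_comm ?_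
    rintro _ ⟨a, ha, rfl⟩ _ ⟨b, hb, rfl⟩
    rw [← map_mul, ← map_mul, hc a ha b hb]
  · rintro _ ⟨a, ha, rfl⟩
    rw [← map_pow, h2 a ha, map_one]
  · rw [Subgroup.card_map_of_injective (Subgroup.subtype_injective _)]
    exact h8

/-- `O(G) = 1` for a non-abelian finite simple group. -/
theorem oddCore_eq_bot [IsSimpleGroup G] (hFT : ∀ X : Subgroup G, Odd (Nat.card X) → Group.IsSolvable X)
    (hG : ¬ IsMulCommutative G) : Cfsg.oddCore G = ⊥ := by
  have hn : (Cfsg.oddCore G).Normal := inferInstance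
  rcases hn.eq_bot_or_eq_top with h | h
  · exact h
  · exfalso
    have h1 : Odd (Nat.card (Cfsg.oddCore G)) := by
      have := Lib.Cores.pPrimeCore_coprime (G := G) 2
      exact Nat.coprime_two_right.1 this
    have h2 := hFT _ h1
    rw [h] at h2
    have h3 : Group.IsSolvable G := by
      exact Group.isSolvable_of_surjective (f := (Subgroup.topEquiv (G := G)).toMonoidHom)
        (Subgroup.topEquiv (G := G)).surjective
    exact hG ⟨⟨(IsSimpleGroup.comm_iff_isSolvable).2 h3⟩⟩

section constrained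

variable (hFT : ∀ X : Subgroup G, Odd (Nat.card X) → Group.IsSolvable X)
  (h2c : ∀ T : Subgroup G, IsPGroup 2 T → T ≠ ⊥ → Cfsg.IsPConstrained 2 ↥(Subgroup.normalizer (T : Set G)))

include h2c in
theorem balanced : Cfsg.IsBalanced G := by
  have : Fact (Nat.Prime 2) := ⟨Nat.prime_two⟩
  have key : ∀ x y : G, orderOf x = 2 → orderOf y = 2 → x * y = y * x →
      centralizerPPrimeCore 2 x ⊓ Subgroup.centralizer {y} ≤
      centralizerPPrimeCore 2 y ⊓ Subgroup.centralizer {x} := by
    intro x y hx hy hxy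
    have hxx : x * x = 1 := by rw [← pow_two, ← hx, pow_orderOf_eq_one]
    have hyy : y * y = 1 := by rw [← pow_two, ← hy, pow_orderOf_eq_one]
    have hy1 : y ≠ 1 := by rintro rfl; rw [orderOf_one] at hy; omega
    refine le_inf ?_ ?_
    · exact H320.EarlyChar.balance 2 (H320.EarlyChar.isPGroup_zpowers hxx) hxy
        (H320.EarlyChar.constrained_centralizer h2c hyy hy1)
    · exact inf_le_left.trans (Lib.CoreCent.core_le 2 x)
  intro x y hx hy hxy
  exact le_antisymm (key x y hx hy hxy) (key y x hy hx hxy.symm)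

include hFT h2c

/-- The completion of the functor `a ↦ O(C(a))`. -/
theorem exists_completion (S : Sylow 2 G) (A : Subgroup ↥(S : Subgroup G)) (hAn : A.Normal)
    (hAab : IsMulCommutative ↥A) (hA3 : ¬ Cfsg.PRankLE 2 2 ↥A) (S' : Sylow 2 G) :
    ∃ W : Subgroup G, Odd (Nat.card ↥W) ∧
      ∀ B : Subgroup G, B ≤ (S' : Subgroup G) → ¬ Cfsg.PRankLE 2 1 ↥B →
        W = (⨆ b : {b : G // b ∈ B ∧ b ≠ 1}, Cfsg.centralizerPPrimeCore 2 (b : G)) ∧
        Subgroup.normalizer (B : Set G) ≤ Subgroup.normalizer (W : Set G) := by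
  have : Fact (Nat.Prime 2) := ⟨Nat.prime_two⟩
  obtain ⟨hS, E, hES, hE, hE3⟩ := fourConnected S A hAn hAab hA3 S'
  have hodd : ∀ a : G, Odd (Nat.card (centralizerPPrimeCore 2 a)) := by
    intro a
    rw [← Nat.not_even_iff_odd, even_iff_two_dvd]
    exact Lib.CoreCent.core_card 2 a
  have hsolv : ∀ t : G, orderOf t = 2 → Group.IsSolvable ↥(centralizerPPrimeCore 2 t) :=
    fun t _ => hFT _ (hodd t)
  have hcon : ∀ t : G, orderOf t = 2 → Cfsg.IsPConstrained 2 ↥(centralizer ({t} : Set G)) := by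
    intro t ht
    have htt : t * t = 1 := by rw [← pow_two, ← ht, pow_orderOf_eq_one]
    have ht1 : t ≠ 1 := by rintro rfl; rw [orderOf_one] at ht; omega
    exact H320.EarlyChar.constrained_centralizer h2c htt ht1
  have hL : ∀ t : G, orderOf t = 2 → pLayer 2 ↥(Subgroup.centralizer ({t} : Set G)) = ⊥ :=
    fun t ht => (Cfsg.Agent.S1327.result 2).mp (hcon t ht)
  -- a four-subgroup of `E`
  obtain ⟨U, hUE, hU⟩ : ∃ U : Subgroup G, U ≤ E ∧ IsKleinFour U := by
    apply exists_kleinFour
    intro h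
    have h1 := h ⊤ ?_ ?_
    · rw [Subgroup.card_top] at h1
      norm_num at hE3 h1
      omega
    · have := hE.1
      refine IsMulCommutative.of_setLike_mul_comm ?_
      intro a _ b _
      apply Subtype.ext
      exact setLike_mul_comm a.2 b.2
    · intro a _
      exact Subtype.ext (hE.2 a a.2)
  have hUS : U ≤ (S' : Subgroup G) := hUE.trans hES
  have hWodd : ¬ 2 ∣ Nat.card (W U) := by
    rw [W_eq_of_le hsolv hL hE hE3 hUE (by rw [hU.card_four]; norm_num)]
    exact not_dvd_W hsolv hL hE hE3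
  refine ⟨W U, ?_, ?_⟩
  · rw [← Nat.not_even_iff_odd, even_iff_two_dvd]
    exact hWodd
  intro B hBS hB
  have hBW : W U = W B := by
    apply le_antisymm
    · obtain ⟨V, hVB, hV⟩ := exists_kleinFour hB
      rw [W_eq_of_rel hsolv hL (rel_of_le hS hU hV hUS (hVB.trans hBS)), W_def]
      refine iSup_le ?_
      rintro ⟨a, ha, ha1⟩
      exact le_W (hVB ha) ha1
    · rw [W_def B]
      refine iSup_le ?_
      rintro ⟨b, hb, hb1⟩
      -- the involution of `⟨b⟩`
      have hbp : IsPGroup 2 (zpowers b) := S'.isPGroup'.to_le (by rw [zpowers_le]; exact hBS hb)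
      have hbne : (zpowers b) ≠ ⊥ := fun h => hb1 (zpowers_eq_bot.1 h)
      have hbnt : Nontrivial (zpowers b) := (nontrivial_iff_ne_bot _).2 hbne
      obtain ⟨n, hn⟩ := IsPGroup.iff_card.1 hbp
      have hdvd : 2 ∣ Nat.card (zpowers b) := by
        rw [hn]
        refine dvd_pow_self 2 ?_
        rintro rfl
        rw [pow_zero] at hn
        have := Finite.one_lt_card (α := zpowers b)
        omega
      obtain ⟨c, hc⟩ := exists_prime_orderOf_dvd_card' 2 hdvd
      set u : G := (c : G) with hu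
      have huo : orderOf u = 2 := by rw [hu, Subgroup.orderOf_coe]; exact hc
      obtain ⟨k, hk⟩ := mem_zpowers_iff.1 c.2
      have huS : u ∈ (S' : Subgroup G) := by
        rw [hu, ← hk]
        exact zpow_mem (hBS hb) k
      have hbu : b * u = u * b := by
        rw [hu, ← hk]
        exact ((Commute.refl b).zpow_right k).eq
      obtain ⟨V, hVS, hV, huV⟩ := exists_four_mem S'.isPGroup' hES hE hE3 huo huS
      have hu1 : u ≠ 1 := by intro h; rw [h, orderOf_one] at huo; omega
      have h1 : centralizerPPrimeCore 2 u ≤ W U := by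
        rw [W_eq_of_rel hsolv hL (rel_of_le hS hU hV hUS hVS)]
        exact le_W huV hu1
      refine le_trans ?_ h1
      have h2 := H320.EarlyChar.balance 2 hbp hbu (hcon u huo)
      refine le_trans (le_inf le_rfl ?_) h2
      refine (Lib.CoreCent.core_le 2 b).trans ?_
      intro x hx
      rw [mem_centralizer_singleton_iff] at hx ⊢
      change x * u = u * x
      rw [hu, ← hk]
      exact (Commute.zpow_right hx k).eq
  refine ⟨hBW, ?_⟩
  intro g hg
  rw [hBW]
  apply mem_normalizer_of_smul_eq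
  rw [← W_smul, smul_eq_of_mem_normalizer hg]

end constrained

end Cfsg.Agent.H447.CoreW
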