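import Mathlib
import Cfsg.Prelude.Def_CaseTheorems
import Cfsg.Agent.H320.OneClass
import Cfsg.Agent.ClassificationK.SymplBig
import Cfsg.Agent.EvenType.CharTwoCent
import Cfsg.Agent.PLocal.PConstrained

/-!
# Maximal 2-local subgroups with cyclic `Z(O₂(M))`

In a finite simple non-abelian group of characteristic 2 type some maximal 2-local subgroup `M` has
non-cyclic `Z(O₂(M))`.
-/

set_option autoImplicit false

namespace Cfsg.Agent.H447.CyclicCore

open Subgroup

variable {G : Type*} [Group G] [Finite G]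

theorem orderOf_conj_eq' {H : Type*} [Group H] (g x : H) : orderOf (g * x * g⁻¹) = orderOf x :=
  MulEquiv.orderOf_eq (MulAut.conj g) x

/-- In a finite cyclic group two involutions coincide. -/
theorem eq_of_isCyclic {A : Type*} [Group A] [Finite A] [IsCyclic A] {x y : A} (hx : orderOf x = 2)
    (hy : orderOf y = 2) : x = y := by
  classical
  by_contra hxy
  have : Fintype A := Fintype.ofFinite _
  have h := IsCyclic.card_pow_eq_one_le (α := A) (n := 2) (by norm_num)
  have hsub : ({1, x, y} : Finset A) ⊆ (Finset.univ.filter fun a : A => a ^ 2 = 1) := by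
    intro a ha
    rw [Finset.mem_filter]
    refine ⟨Finset.mem_univ _, ?_⟩
    simp only [Finset.mem_insert, Finset.mem_singleton] at ha
    rcases ha with rfl | rfl | rfl
    · exact one_pow 2
    · rw [← hx]; exact pow_orderOf_eq_one a
    · rw [← hy]; exact pow_orderOf_eq_one a
  have hcard : ({1, x, y} : Finset A).card = 3 := by
    rw [Finset.card_eq_three]
    refine ⟨1, x, y, ?_, ?_, hxy, rfl⟩
    · rintro rfl; rw [orderOf_one] at hx; omega
    · rintro rfl; rw [orderOf_one] at hy; omega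
  have := Finset.card_le_card hsub
  omega

/-- A maximal 2-local subgroup `M` with cyclic `Z(O₂(M))` is the centralizer of an involution `z`, the only
involution centralizing `O₂(M)`. -/
theorem exists_of_cyclic (hch : ∀ T : Subgroup G, IsPGroup 2 T → T ≠ ⊥ →
      Cfsg.IsOfCharacteristicTwo ↥(Subgroup.normalizer (T : Set G)))
    {M : Subgroup G} (hM : Cfsg.IsMaximalTwoLocal M)
    (hcyc : IsCyclic ↥(Subgroup.center ↥(Cfsg.pCore 2 ↥M))) :
    ∃ (z : G) (Q : Subgroup G), orderOf z = 2 ∧ M = centralizer ({z} : Set G) ∧ IsPGroup 2 Q ∧ Q ≤ M ∧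
      M ≤ normalizer (Q : Set G) ∧ ∀ w : G, orderOf w = 2 → (∀ q ∈ Q, q * w = w * q) → w = z := by
  have hF : Fact (Nat.Prime 2) := ⟨Nat.prime_two⟩
  obtain ⟨T, hT, hT1, hMT⟩ := hM.1
  have hchM : Cfsg.IsOfCharacteristicTwo ↥M := by
    rw [hMT]; exact hch T hT hT1
  set P : Subgroup M := Cfsg.pCore 2 ↥M with hP
  have hPn : P.Normal := Cfsg.pCore_normal 2 ↥M
  have hPp : IsPGroup 2 P := PLocal.PConstrained.isPGroup_pCore 2 ↥M
  have hTM : T ≤ M := by rw [hMT]; exact le_normalizer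
  have hTP : T.subgroupOf M ≤ P := by
    apply PLocal.PConstrained.le_pCore
    · rw [hMT]; exact normal_in_normalizer
    · exact hT.comap_subtype
  have hPne : P ≠ ⊥ := by
    intro h
    apply hT1
    rw [eq_bot_iff]
    intro x hx
    have h1 : (⟨x, hTM hx⟩ : M) ∈ P := hTP (mem_subgroupOf.2 hx)
    rw [h, mem_bot] at h1
    rw [mem_bot]
    exact congrArg Subtype.val h1
  -- an involution of the centre of `P`
  have hPnt : Nontrivial P := (nontrivial_iff_ne_bot P).2 hPne
  have hcn : Nontrivial (center P) := hPp.center_nontrivial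
  obtain ⟨n, hn⟩ := IsPGroup.iff_card.1 (hPp.to_subgroup (center P))
  have hdvd : 2 ∣ Nat.card (center P) := by
    rw [hn]
    refine dvd_pow_self 2 ?_
    rintro rfl
    rw [pow_zero] at hn
    have := Finite.one_lt_card (α := center P)
    omega
  obtain ⟨c, hc⟩ := exists_prime_orderOf_dvd_card' 2 hdvd
  set z : G := (((c : P) : M) : G) with hz
  have hzo : orderOf z = 2 := by
    rw [hz, Subgroup.orderOf_coe, Subgroup.orderOf_coe, Subgroup.orderOf_coe]
    exact hc
  -- an involution centralizing `P` is `z`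
  have hone : ∀ w : M, orderOf w = 2 → (∀ q ∈ P, q * w = w * q) → (w : G) = z := by
    intro w hw hwq
    have h1 : w ∈ P := hchM (mem_centralizer_iff.2 fun q hq => hwq q hq)
    have h2 : (⟨w, h1⟩ : P) ∈ center P := by
      rw [mem_center_iff]
      intro q
      exact Subtype.ext (hwq q q.2)
    have h3 : (⟨⟨w, h1⟩, h2⟩ : center P) = c := by
      apply eq_of_isCyclic _ hc
      rw [← Subgroup.orderOf_coe, ← Subgroup.orderOf_coe]
      exact hw
    have h4 := congrArg (fun x : center P => (((x : P) : M) : G)) h3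
    exact h4
  have hMz : M ≤ centralizer ({z} : Set G) := by
    intro g hg
    rw [mem_centralizer_singleton_iff]
    have h1 : ((⟨g, hg⟩ : M) * ((c : P) : M) * (⟨g, hg⟩ : M)⁻¹ : M) = ((c : P) : M) := by
      apply Subtype.ext
      apply hone
      · rw [← hc, ← Subgroup.orderOf_coe c, ← Subgroup.orderOf_coe (c : P)]
        exact orderOf_conj_eq' _ _
      · intro q hq
        have h2 : (⟨g, hg⟩ : M)⁻¹ * q * (⟨g, hg⟩ : M) ∈ P := by
          simpa using hPn.conj_mem q hq (⟨g, hg⟩ : M)⁻¹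
        have h3 := congrArg Subtype.val (mem_center_iff.1 c.2 ⟨_, h2⟩)
        simp only [Subgroup.coe_mul] at h3
        have h4 : (⟨g, hg⟩ : M) * (((⟨g, hg⟩ : M)⁻¹ * q * (⟨g, hg⟩ : M)) * ((c : P) : M)) * (⟨g, hg⟩ : M)⁻¹ =
          (⟨g, hg⟩ : M) * (((c : P) : M) * ((⟨g, hg⟩ : M)⁻¹ * q * (⟨g, hg⟩ : M))) * (⟨g, hg⟩ : M)⁻¹ := by
          rw [h3]
        calc q * ((⟨g, hg⟩ : M) * ((c : P) : M) * (⟨g, hg⟩ : M)⁻¹)
            = (⟨g, hg⟩ : M) * (((⟨g, hg⟩ : M)⁻¹ * q * (⟨g, hg⟩ : M)) * ((c : P) : M)) * (⟨g, hg⟩ : M)⁻¹ := by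
              group
          _ = _ := h4
          _ = _ := by group
    have h2 := congrArg Subtype.val h1
    simp only [Subgroup.coe_mul, Subgroup.coe_inv] at h2
    rw [mul_inv_eq_iff_eq_mul] at h2
    exact h2
  have hzz : z * z = 1 := by rw [← pow_two, ← hzo, pow_orderOf_eq_one]
  have hz1 : z ≠ 1 := by rintro h; rw [h, orderOf_one] at hzo; omega
  have hloc : Cfsg.IsTwoLocal (centralizer ({z} : Set G)) := by
    refine ⟨zpowers z, IsPGroup.of_card (n := 1) (by rw [Nat.card_zpowers, hzo, pow_one]),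
      fun h => hz1 (zpowers_eq_bot.1 h), (EvenType.CharTwoCent.normalizer_zpowers_eq hzz).symm⟩
  have hMeq : M = centralizer ({z} : Set G) := (hM.2 _ hloc hMz).symm
  refine ⟨z, P.map M.subtype, hzo, hMeq, hPp.map _, map_subtype_le P, ?_, ?_⟩
  · intro g hg
    rw [mem_normalizer_iff]
    intro x
    constructor
    · rintro ⟨y, hy, rfl⟩
      exact ⟨(⟨g, hg⟩ : M) * y * (⟨g, hg⟩ : M)⁻¹, hPn.conj_mem y hy _, rfl⟩
    · rintro ⟨y, hy, hyx⟩
      refine ⟨(⟨g, hg⟩ : M)⁻¹ * y * (⟨g, hg⟩ : M), by simpa using hPn.conj_mem y hy (⟨g, hg⟩ : M)⁻¹, ?_⟩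
      change (g⁻¹ * (y : G) * g : G) = x
      have h1 : (y : G) = g * x * g⁻¹ := hyx
      rw [h1]; group
  · intro w hw hwq
    have hwM : w ∈ M := by
      rw [hMeq, mem_centralizer_singleton_iff]
      exact (hwq z ⟨_, (c : P).2, rfl⟩).symm
    refine hone ⟨w, hwM⟩ ?_ ?_
    · rw [← Subgroup.orderOf_coe]; exact hw
    · intro q hq
      apply Subtype.ext
      exact hwq q ⟨q, hq, rfl⟩

/-- The involutions `z` with maximal 2-local centralizer `C(z)` in which `z` is the only involution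
centralizing a normal 2-subgroup `Q`. -/
def Good (z : G) : Prop :=
  orderOf z = 2 ∧ ∃ Q : Subgroup G, IsPGroup 2 Q ∧ Q ≤ centralizer ({z} : Set G) ∧
    centralizer ({z} : Set G) ≤ normalizer (Q : Set G) ∧
    ∀ w : G, orderOf w = 2 → (∀ q ∈ Q, q * w = w * q) → w = z

omit [Finite G] in
/-- A normal 2-subgroup of `M` lies in each subgroup of `M` which is a Sylow 2-subgroup of `G`. -/
theorem le_of_normal {M Q : Subgroup G} (hQ : IsPGroup 2 Q)
    (hn : M ≤ normalizer (Q : Set G)) (S : Sylow 2 G) (hS : (S : Subgroup G) ≤ M) :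
    Q ≤ (S : Subgroup G) := by
  have hF : Fact (Nat.Prime 2) := ⟨Nat.prime_two⟩
  have h1 : IsPGroup 2 ↥((S : Subgroup G) ⊔ Q) := by
    apply S.isPGroup'.to_sup_of_normal_right' hQ (hS.trans hn)
  have h2 := S.is_maximal' h1 le_sup_left
  rw [← h2]
  exact le_sup_right

/-- The centralizer of a good involution contains a Sylow 2-subgroup of `G`. -/
theorem Good.exists_sylow {z : G} (hz : Good z) :
    ∃ S : Sylow 2 G, (S : Subgroup G) ≤ centralizer ({z} : Set G) := by
  have hF : Fact (Nat.Prime 2) := ⟨Nat.prime_two⟩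
  obtain ⟨hzo, Q, hQ, hQC, hn, hone⟩ := hz
  obtain ⟨S, hS⟩ := hQ.exists_le_sylow
  -- `Q` is in a Sylow 2-subgroup; an involution in its centre centralizes `Q`
  have hSne : (S : Subgroup G) ≠ ⊥ := by
    intro h
    have h2 : 2 ∣ Nat.card G := by rw [← hzo]; exact orderOf_dvd_natCard z
    have := S.dvd_card_of_dvd_card h2
    rw [h, Subgroup.card_bot] at this
    omega
  have hSnt : Nontrivial (S : Subgroup G) := (nontrivial_iff_ne_bot _).2 hSne
  have hcn : Nontrivial (center (S : Subgroup G)) := S.isPGroup'.center_nontrivial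
  obtain ⟨n, hn'⟩ := IsPGroup.iff_card.1 (S.isPGroup'.to_subgroup (center (S : Subgroup G)))
  have hdvd : 2 ∣ Nat.card (center (S : Subgroup G)) := by
    rw [hn']
    refine dvd_pow_self 2 ?_
    rintro rfl
    rw [pow_zero] at hn'
    have := Finite.one_lt_card (α := center (S : Subgroup G))
    omega
  obtain ⟨c, hc⟩ := exists_prime_orderOf_dvd_card' 2 hdvd
  have h1 : (((c : (S : Subgroup G)) : G)) = z := by
    apply hone
    · rw [Subgroup.orderOf_coe, Subgroup.orderOf_coe]; exact hc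
    · intro q hq
      exact congrArg Subtype.val (mem_center_iff.1 c.2 ⟨q, hS hq⟩)
  refine ⟨S, fun s hs => ?_⟩
  rw [mem_centralizer_singleton_iff, ← h1]
  exact congrArg Subtype.val (mem_center_iff.1 c.2 ⟨s, hs⟩)

/-- A 2-subgroup of `C(z) ∩ C(z')`, `z ≠ z'` good, is not a Sylow 2-subgroup of `G`. -/
theorem Good.card_dvd {z z' : G} (hz : Good z) (hz' : orderOf z' = 2) (hne : z' ≠ z) {D : Subgroup G}
    {n : ℕ} (hD : Nat.card D = 2 ^ n) (h1 : D ≤ centralizer ({z} : Set G))
    (h2 : D ≤ centralizer ({z'} : Set G)) : 2 ^ (n + 1) ∣ Nat.card (centralizer ({z} : Set G)) := by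
  have hF : Fact (Nat.Prime 2) := ⟨Nat.prime_two⟩
  obtain ⟨S, hS⟩ := hz.exists_sylow
  obtain ⟨m, hm⟩ := IsPGroup.iff_card.1 S.isPGroup'
  have hDp : IsPGroup 2 D := IsPGroup.of_card hD
  have hle : n ≤ m := by
    have h3 : Nat.card D ∣ Nat.card G := card_subgroup_dvd_card D
    rw [hD] at h3
    have h4 := S.pow_dvd_card_of_pow_dvd_card h3
    change 2 ^ n ∣ Nat.card (S : Subgroup G) at h4
    rw [hm] at h4
    exact (Nat.pow_dvd_pow_iff_le_right (le_refl 2)).1 h4
  have hmn : n ≠ m := by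
    rintro rfl
    apply hne
    obtain ⟨T, hT⟩ := hDp.exists_le_sylow
    have hTD : D = (T : Subgroup G) := by
      apply Subgroup.eq_of_le_of_card_ge hT
      rw [hD, T.card_eq_multiplicity, ← S.card_eq_multiplicity]
      exact hm.le
    obtain ⟨hzo, Q, hQ, hQC, hn, hone⟩ := hz
    have hQT := le_of_normal hQ hn T (hTD ▸ h1)
    rw [← hTD] at hQT
    refine hone z' hz' (fun q hq => ?_)
    exact mem_centralizer_singleton_iff.1 (h2 (hQT hq))
  calc 2 ^ (n + 1) ∣ 2 ^ m := Nat.pow_dvd_pow 2 (by omega)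
    _ = Nat.card (S : Subgroup G) := hm.symm
    _ ∣ _ := card_dvd_of_le hS

theorem main [IsSimpleGroup G] (hG : ¬ IsMulCommutative G) (hct : Cfsg.IsCharacteristicTwoType G) :
    ∃ M : Subgroup G, Cfsg.IsMaximalTwoLocal M ∧ ¬ IsCyclic ↥(Subgroup.center ↥(Cfsg.pCore 2 ↥M)) := by
  classical
  have hF : Fact (Nat.Prime 2) := ⟨Nat.prime_two⟩
  by_contra hcon
  push Not at hcon
  obtain ⟨heven, hch⟩ := hct
  -- every 2-local subgroup is in the centralizer of a good involution
  have hmax : ∀ T : Subgroup G, IsPGroup 2 T → T ≠ ⊥ →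
      ∃ z : G, Good z ∧ Subgroup.normalizer (T : Set G) ≤ centralizer ({z} : Set G) := by
    intro T hT hT1
    obtain ⟨M, hM, hmax⟩ := Set.Finite.exists_le_maximal
      (s := {M : Subgroup G | Cfsg.IsTwoLocal M}) (Set.toFinite _)
      (a := Subgroup.normalizer (T : Set G)) ⟨T, hT, hT1, rfl⟩
    have hMm : Cfsg.IsMaximalTwoLocal M :=
      ⟨hmax.prop, fun N hN hMN => le_antisymm (hmax.le_of_ge hN hMN) hMN⟩
    obtain ⟨z, Q, hz, hMz, hQ, hQM, hn, hone⟩ := exists_of_cyclic hch hMm (hcon M hMm)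
    rw [hMz] at hQM hn hM
    exact ⟨z, ⟨hz, Q, hQ, hQM, hn, hone⟩, hM⟩
  obtain ⟨t, ht⟩ : ∃ t : G, orderOf t = 2 := exists_prime_orderOf_dvd_card' 2 heven.two_dvd
  have ht1 : t ≠ 1 := by rintro rfl; rw [orderOf_one] at ht; omega
  obtain ⟨z, hz, -⟩ := hmax (zpowers t) (IsPGroup.of_card (n := 1) (by rw [Nat.card_zpowers, ht, pow_one]))
    (fun h => ht1 (zpowers_eq_bot.1 h))
  have hconj : ∀ g : G, Good (g * z * g⁻¹) := by
    intro g
    obtain ⟨hzo, Q, hQ, hQC, hn, hone⟩ := hz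
    refine ⟨?_, Q.map (MulAut.conj g).toMonoidHom, hQ.map _, ?_, ?_, ?_⟩
    · rw [← hzo]; exact orderOf_conj_eq' _ _
    · rintro _ ⟨q, hq, rfl⟩
      rw [mem_centralizer_singleton_iff]
      have h1 := mem_centralizer_singleton_iff.1 (hQC hq)
      change g * q * g⁻¹ * (g * z * g⁻¹) = g * z * g⁻¹ * (g * q * g⁻¹)
      calc g * q * g⁻¹ * (g * z * g⁻¹) = g * (q * z) * g⁻¹ := by group
        _ = g * (z * q) * g⁻¹ := by rw [h1]
        _ = _ := by group
    · intro x hx
      rw [mem_centralizer_singleton_iff] at hx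
      have h1 : g⁻¹ * x * g ∈ centralizer ({z} : Set G) := by
        rw [mem_centralizer_singleton_iff]
        calc g⁻¹ * x * g * z = g⁻¹ * (x * (g * z * g⁻¹)) * g := by group
          _ = g⁻¹ * (g * z * g⁻¹ * x) * g := by rw [hx]
          _ = _ := by group
      have h2 := mem_normalizer_iff.1 (hn h1)
      rw [mem_normalizer_iff]
      intro y
      constructor
      · rintro ⟨q, hq, rfl⟩
        refine ⟨_, (h2 q).1 hq, ?_⟩
        change g * (g⁻¹ * x * g * q * (g⁻¹ * x * g)⁻¹) * g⁻¹ = x * (g * q * g⁻¹) * x⁻¹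
        group
      · rintro ⟨q, hq, hqy⟩
        change g * q * g⁻¹ = x * y * x⁻¹ at hqy
        refine ⟨g⁻¹ * y * g, (h2 _).2 ?_, ?_⟩
        · have : g⁻¹ * x * g * (g⁻¹ * y * g) * (g⁻¹ * x * g)⁻¹ = q := by
            calc g⁻¹ * x * g * (g⁻¹ * y * g) * (g⁻¹ * x * g)⁻¹ = g⁻¹ * (x * y * x⁻¹) * g := by group
              _ = g⁻¹ * (g * q * g⁻¹) * g := by rw [hqy]
              _ = q := by group
          rw [this]; exact hq
        · change g * (g⁻¹ * y * g) * g⁻¹ = y
          group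
    · intro w hw hwq
      have h1 : g⁻¹ * w * g = z := by
        apply hone
        · rw [← hw]
          have := orderOf_conj_eq' g⁻¹ w
          simpa using this
        · intro q hq
          have h2 := hwq _ ⟨q, hq, rfl⟩
          change g * q * g⁻¹ * w = w * (g * q * g⁻¹) at h2
          calc q * (g⁻¹ * w * g) = g⁻¹ * (g * q * g⁻¹ * w) * g := by group
            _ = g⁻¹ * (w * (g * q * g⁻¹)) * g := by rw [h2]
            _ = _ := by group
      rw [← h1]; group
  obtain ⟨g, hg1, hg2⟩ := ClassificationK.SymplFront.exists_commuting hG hz.1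
  -- a pair with largest common 2-subgroup
  let s : Set (Subgroup G) := {D | IsPGroup 2 D ∧ D ≠ ⊥ ∧ ∃ a b : G, Good a ∧ Good b ∧ a ≠ b ∧
    D ≤ centralizer ({a} : Set G) ∧ D ≤ centralizer ({b} : Set G)}
  have hs : s.Nonempty := by
    have hz1 : z ≠ 1 := by rintro rfl; have := hz.1; rw [orderOf_one] at this; omega
    refine ⟨zpowers z, IsPGroup.of_card (n := 1) (by rw [Nat.card_zpowers, hz.1, pow_one]),
      fun h => hz1 (zpowers_eq_bot.1 h), z, g * z * g⁻¹, hz, hconj g, hg1.symm, ?_, ?_⟩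
    · rw [zpowers_le, mem_centralizer_singleton_iff]
    · rw [zpowers_le, mem_centralizer_singleton_iff]; exact hg2.symm
  obtain ⟨D, ⟨hD, hD1, a, b, ha, hb, hab, hDa, hDb⟩, hDmax⟩ :=
    Set.exists_max_image s (fun D => Nat.card D) (Set.toFinite s) hs
  obtain ⟨n, hn⟩ := IsPGroup.iff_card.1 hD
  obtain ⟨c, hc, hNc⟩ := hmax D hD hD1
  have key : ∀ x y : G, Good x → orderOf y = 2 → y ≠ x → D ≤ centralizer ({x} : Set G) →
      D ≤ centralizer ({y} : Set G) → x = c := by
    intro x y hx hy hyx hDx hDy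
    by_contra hxc
    have h1 := hx.card_dvd hy hyx hn hDx hDy
    obtain ⟨K, hK, hDK, hKc, hKn⟩ := H320.OneClass.exists_grow hDx hn h1
    have h2 : K ∈ s := by
      refine ⟨IsPGroup.of_card hKc, ?_, x, c, hx, hc, hxc, hK, hKn.trans hNc⟩
      rintro rfl
      rw [Subgroup.card_bot] at hKc
      have : 1 < 2 ^ (n + 1) := Nat.one_lt_two_pow (by omega)
      omega
    have h3 := hDmax K h2
    rw [hn, hKc] at h3
    have : 2 ^ n < 2 ^ (n + 1) := Nat.pow_lt_pow_right (by norm_num) (by omega)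
    omega
  exact hab ((key a b ha hb.1 hab.symm hDa hDb).trans (key b a hb ha.1 hab hDb hDa).symm)

end Cfsg.Agent.H447.CyclicCore
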