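import Cfsg.Agent.H447.MathieuLabel
import Cfsg.Agent.S0363
import Cfsg.Agent.S0369

/-!
# The Mathieu groups M12 and M24 do not have the 6-universal transversal property
-/

set_option autoImplicit false

namespace Cfsg.Agent.H447.MathieuUt

open Equiv Equiv.Perm MulAction
open Cfsg.Agent.SporadicA.DegPOne Cfsg.Agent.SporadicA.Cand12 Cfsg.Agent.SporadicA.M12Perm
open scoped Pointwise

/-- The `k`-universal transversal property. -/
def KUt (G Ω : Type*) [Group G] [MulAction G Ω] (k : ℕ) : Prop :=
  ∀ (I : Finset Ω) (f : Ω → Fin k), I.card = k → Function.Surjective f →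
    ∃ g : G, Set.InjOn (fun x => f (g • x)) ↑I

/-- The hexads of the standard copy of M12, as bit masks. -/
def hexL : List ℕ := [125, 183, 207, 250, 315, 343, 366, 414, 429, 473, 483, 500, 543, 619, 630,
  686, 697, 723, 732, 741, 807, 828, 845, 858, 881, 907, 917, 946, 966, 1000, 1086, 1115, 1127,
  1181, 1195, 1238, 1260, 1265, 1295, 1333, 1372, 1385, 1394, 1427, 1446, 1464, 1477, 1482, 1581,
  1587, 1614, 1621, 1656, 1671, 1690, 1716, 1737, 1762, 1814, 1817, 1834, 1859, 1892, 1932, 1953,
  2000, 2095, 2142, 2163, 2203, 2236, 2261, 2278, 2281, 2333, 2358, 2379, 2405, 2424, 2439, 2474,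
  2481, 2508, 2514, 2613, 2618, 2631, 2649, 2668, 2701, 2710, 2723, 2762, 2800, 2830, 2835, 2857,
  2900, 2914, 2968, 2980, 3009, 3095, 3129, 3149, 3178, 3188, 3214, 3237, 3250, 3267, 3288, 3354,
  3363, 3372, 3398, 3409, 3465, 3476, 3552, 3595, 3612, 3622, 3666, 3681, 3729, 3752, 3780, 3845,
  3888, 3912, 3970]

/-- A set is a hexad. -/
def InB (S : Finset (Fin 12)) : Prop := ∃ m ∈ hexL, ∀ i : Fin 12, i ∈ S ↔ m.testBit i = true

/-- check of invariance of the list of hexads -/
def chk (f : ℕ → ℕ) : Bool :=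
  hexL.all fun m => hexL.any fun m' => (List.range 12).all fun i => m'.testBit (f i) == m.testBit i

theorem chk_t : chk tF = true := by decide +kernel
theorem chk_q : chk qF = true := by decide +kernel
theorem chk_w : chk (cand 2 0 0 1) = true := by decide +kernel
theorem chk_u : chk (cand 1 1 1 2) = true := by decide +kernel

theorem inB_map {s : Perm (Fin 12)} {f : ℕ → ℕ} (h : Comp s f) (hf : chk f = true)
    {S : Finset (Fin 12)} (hS : InB S) : InB (S.map s.toEmbedding) := by
  obtain ⟨m, hm, hmS⟩ := hS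
  have h1 := List.all_eq_true.1 hf m hm
  obtain ⟨m', hm', h2⟩ := List.any_eq_true.1 h1
  refine ⟨m', hm', fun j => ?_⟩
  have h3 := List.all_eq_true.1 h2 ((s.symm j : Fin 12) : ℕ) (List.mem_range.2 (s.symm j).2)
  rw [beq_iff_eq, ← h (s.symm j), Equiv.apply_symm_apply] at h3
  rw [h3, ← hmS]
  constructor
  · intro hj
    obtain ⟨i, hi, hij⟩ := Finset.mem_map.1 hj
    have : i = s.symm j := by rw [← hij]; simp
    rwa [← this]
  · intro hj
    exact Finset.mem_map.2 ⟨s.symm j, hj, by simp⟩

theorem inB_std {s : Perm (Fin 12)} (hs : s ∈ Std) : ∀ {S : Finset (Fin 12)}, InB S →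
    InB (S.map s.toEmbedding) := by
  have h1 : s ∈ Submonoid.closure ({tP, qP, w1, uP} : Set (Perm (Fin 12))) := by
    rw [← Subgroup.closure_toSubmonoid_of_finite]
    exact hs
  clear hs
  induction h1 using Submonoid.closure_induction with
  | mem x hx =>
    intro S hS
    rcases hx with rfl | rfl | rfl | rfl
    · exact inB_map tP_comp chk_t hS
    · exact inB_map qP_comp chk_q hS
    · exact inB_map w1_comp chk_w hS
    · exact inB_map uP_comp chk_u hS
  | one =>
    intro S hS
    have : S.map (1 : Perm (Fin 12)).toEmbedding = S := by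
      ext i
      constructor
      · intro hi
        obtain ⟨a, ha, rfl⟩ := Finset.mem_map.1 hi
        exact ha
      · intro hi
        exact Finset.mem_map.2 ⟨i, hi, rfl⟩
    rwa [this]
  | mul x y _ _ hx hy =>
    intro S hS
    have h2 := hx (hy hS)
    have : S.map (x * y).toEmbedding = (S.map y.toEmbedding).map x.toEmbedding := by
      rw [Finset.map_map]
      rfl
    rwa [this]

/-- The partition of the 12 points into 6 parts. -/
def part (i : Fin 12) : Fin 6 := ![0, 1, 2, 3, 5, 4, 5, 5, 5, 5, 5, 4] i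

theorem part_surj : Function.Surjective part := by
  unfold Function.Surjective
  decide +kernel

theorem part_hex : ∀ m ∈ hexL, ∃ i j : Fin 12, m.testBit i = true ∧ m.testBit j = true ∧ i ≠ j ∧
    part i = part j := by
  decide +kernel

variable {G Ω : Type*} [Group G] [Finite G] [MulAction G Ω] [FaithfulSMul G Ω] [Fintype Ω]

/-- M12 in degree 12 does not have the 6-universal transversal property. -/
theorem not_kut_m12 (hs : IsSimpleGroup G) (hc : Nat.card G = 95040)
    (hcard : Fintype.card Ω = 12) (htr : MulAction.IsPretransitive G Ω) : ¬ KUt G Ω 6 := by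
  intro hk
  obtain ⟨e, he⟩ := MathieuLabel.m12_label hs hc hcard htr
  set I0 : Finset (Fin 12) := Finset.univ.filter fun i => Nat.testBit 125 i = true with hI0
  have hI : InB I0 := ⟨125, by decide, fun i => by simp [hI0]⟩
  have hIc : I0.card = 6 := by rw [hI0]; decide +kernel
  obtain ⟨g, hg⟩ := hk (I0.map e.symm.toEmbedding) (fun x => part (e x))
    (by rw [Finset.card_map, hIc]) (part_surj.comp e.surjective)
  obtain ⟨s, hsS, hsg⟩ := he g
  obtain ⟨m, hm, hmS⟩ := inB_std hsS hI
  obtain ⟨i, j, hi, hj, hij, hp⟩ := part_hex m hm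
  rw [← hmS] at hi hj
  obtain ⟨a, ha, rfl⟩ := Finset.mem_map.1 hi
  obtain ⟨b, hb, rfl⟩ := Finset.mem_map.1 hj
  have h1 : e.symm a = e.symm b := by
    apply hg
    · simpa using ha
    · simpa using hb
    · show part (e (g • e.symm a)) = part (e (g • e.symm b))
      rw [hsg, hsg, Equiv.apply_symm_apply, Equiv.apply_symm_apply]
      exact hp
  exact hij (by rw [e.symm.injective h1])

theorem smul_octad {s : Perm Cfsg.GolayPt} (hs : s ∈ Cfsg.M24) {o : Finset Cfsg.GolayPt}
    (ho : o ∈ Cfsg.octads) : o.map s.toEmbedding ∈ Cfsg.octads := by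
  rw [Cfsg.Agent.S0369.result] at hs
  have h1 : s • Cfsg.octads = Cfsg.octads := hs
  rw [← h1]
  refine ⟨o, ho, ?_⟩
  ext x
  constructor
  · intro hx
    obtain ⟨y, hy, rfl⟩ := Finset.mem_smul_finset.1 hx
    exact Finset.mem_map.2 ⟨y, hy, rfl⟩
  · intro hx
    obtain ⟨y, hy, rfl⟩ := Finset.mem_map.1 hx
    exact Finset.mem_smul_finset.2 ⟨y, hy, rfl⟩

/-- M24 in degree 24 does not have the 6-universal transversal property. -/
theorem not_kut_m24 (hs : IsSimpleGroup G) (hc : Nat.card G = 244823040)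
    (hcard : Fintype.card Ω = 24) (htr : MulAction.IsPretransitive G Ω) : ¬ KUt G Ω 6 := by
  classical
  intro hk
  obtain ⟨e, he⟩ := MathieuLabel.m24_label hs hc hcard htr
  have hst := Cfsg.Agent.S0363.result
  have h24 : (Finset.univ : Finset Cfsg.GolayPt).card = 24 := by
    rw [Finset.card_univ]
    decide
  -- an octad
  obtain ⟨s5, hs5⟩ := Finset.exists_subset_card_eq
    (show 5 ≤ (Finset.univ : Finset Cfsg.GolayPt).card by rw [h24]; norm_num)
  obtain ⟨o, ⟨ho, -⟩, -⟩ := hst.2 s5 hs5.2
  have ho8 : o.card = 8 := hst.1 o ho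
  let ε : o ≃ Fin 8 := Fintype.equivFinOfCardEq (by simpa using ho8)
  let f : Cfsg.GolayPt → Fin 6 := fun x => if h : x ∈ o then
    (if h4 : ((ε ⟨x, h⟩ : Fin 8) : ℕ) < 4 then ⟨(ε ⟨x, h⟩ : Fin 8), by omega⟩ else 4) else 5
  have hf5 : ∀ x, f x ≠ 5 → x ∈ o := by
    intro x hx
    by_contra hxo
    exact hx (by simp only [f, dif_neg hxo])
  have hfo : ∀ x, x ∈ o → f x ≠ 5 := by
    intro x hx
    simp only [f, dif_pos hx]
    split_ifs with h4
    · intro h5
      have := congrArg Fin.val h5
      simp at this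
      omega
    · decide
  have hfs : Function.Surjective f := by
    intro i
    by_cases hi4 : (i : ℕ) < 4
    · refine ⟨ε.symm ⟨i, by omega⟩, ?_⟩
      simp only [f, Finset.coe_mem, dite_true, Subtype.coe_eta, Equiv.apply_symm_apply, hi4]
    · by_cases hi5 : i = 5
      · obtain ⟨x, hx⟩ : ∃ x, x ∉ o := by
          by_contra hcon
          push Not at hcon
          have : (Finset.univ : Finset Cfsg.GolayPt).card ≤ o.card :=
            Finset.card_le_card fun x _ => hcon x
          omega
        exact ⟨x, by rw [hi5]; simp only [f, dif_neg hx]⟩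
      · have hi : i = 4 := by
          apply Fin.ext
          have h1 : (i : ℕ) ≠ 5 := fun h => hi5 (Fin.ext h)
          have h2 := i.2
          show (i : ℕ) = 4
          omega
        refine ⟨ε.symm 7, ?_⟩
        rw [hi]
        simp only [f, Finset.coe_mem, dite_true, Subtype.coe_eta, Equiv.apply_symm_apply]
        exact dif_neg (by decide)
  obtain ⟨I, hIo, hI6⟩ := Finset.exists_subset_card_eq (show 6 ≤ o.card by omega)
  obtain ⟨g, hg⟩ := hk (I.map e.symm.toEmbedding) (fun x => f (e x))
    (by rw [Finset.card_map, hI6]) (hfs.comp e.surjective)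
  obtain ⟨s, hsS, hsg⟩ := he g
  set J := I.map s.toEmbedding with hJ
  have hJ6 : J.card = 6 := by rw [hJ, Finset.card_map, hI6]
  have hinj : Set.InjOn f ↑J := by
    intro a ha b hb hab
    obtain ⟨a', ha', rfl⟩ := Finset.mem_map.1 (Finset.mem_coe.1 ha)
    obtain ⟨b', hb', rfl⟩ := Finset.mem_map.1 (Finset.mem_coe.1 hb)
    have h1 : e.symm a' = e.symm b' := by
      apply hg
      · simpa using ha'
      · simpa using hb'
      · show f (e (g • e.symm a')) = f (e (g • e.symm b'))
        rw [hsg, hsg, Equiv.apply_symm_apply, Equiv.apply_symm_apply]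
        exact hab
    rw [e.symm.injective h1]
  have himg : J.image f = Finset.univ := by
    apply Finset.eq_univ_of_card
    rw [Finset.card_image_of_injOn hinj, hJ6]
    rfl
  obtain ⟨z, hzJ, hz5⟩ : ∃ z ∈ J, f z = 5 := by
    have : (5 : Fin 6) ∈ J.image f := by rw [himg]; exact Finset.mem_univ _
    simpa using this
  have hzo : z ∉ o := fun h => hfo z h hz5
  have h5 : 5 ≤ (J.erase z).card := by
    rw [Finset.card_erase_of_mem hzJ, hJ6]
  have hJo : ∀ x ∈ J.erase z, x ∈ o := by
    intro x hx
    obtain ⟨hxz, hxJ⟩ := Finset.mem_erase.1 hx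
    apply hf5
    intro h
    exact hxz (hinj (Finset.mem_coe.2 hxJ) (Finset.mem_coe.2 hzJ) (h.trans hz5.symm))
  obtain ⟨F, hF, hF5⟩ := Finset.exists_subset_card_eq h5
  have ho' := smul_octad hsS ho
  have hJo' : J ⊆ o.map s.toEmbedding := Finset.map_subset_map.2 hIo
  have heq : o.map s.toEmbedding = o := by
    refine (hst.2 F hF5).unique ⟨ho', ?_⟩ ⟨ho, ?_⟩
    · exact fun x hx => hJo' (Finset.mem_of_mem_erase (hF hx))
    · exact fun x hx => hJo x (hF hx)
  exact hzo (by rw [← heq]; exact hJo' hzJ)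

end Cfsg.Agent.H447.MathieuUt
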