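import Cfsg.Prelude.Def_Spor_Mathieu
import Cfsg.Agent.H447.MathieuUt
import Cfsg.Agent.S0748
import Cfsg.Agent.S0365
import Cfsg.Agent.S0382
import Cfsg.Agent.S0383
import Cfsg.Agent.SporadicA.M11Comp

/-!
# The universal transversal property: the elementary parts
-/

set_option autoImplicit false

namespace Cfsg.Agent.H447.KUtMain

open MulAction
open Cfsg.Agent.H447.MathieuUt
open scoped Pointwise

section General

variable {G Ω : Type*} [Group G] [MulAction G Ω] [Fintype Ω] [DecidableEq Ω]

/-- The `k`-universal transversal property implies `(k-1,k)`-homogeneity. -/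
theorem hom_of_kut {k : ℕ} (hk : 1 ≤ k) (hkn : k ≤ Fintype.card Ω) (h : KUt G Ω k)
    (I J : Finset Ω) (hI : I.card = k - 1) (hJ : J.card = k) : ∃ g : G, ∀ x ∈ I, g • x ∈ J := by
  classical
  let ε : I ≃ Fin (k - 1) := Fintype.equivFinOfCardEq (by simpa using hI)
  let f : Ω → Fin k := fun x => if hx : x ∈ I then ⟨(ε ⟨x, hx⟩ : Fin (k - 1)), by omega⟩ else
    ⟨k - 1, by omega⟩
  have hfs : Function.Surjective f := by
    intro i
    by_cases hi : (i : ℕ) < k - 1
    · refine ⟨ε.symm ⟨i, hi⟩, ?_⟩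
      simp only [f, Finset.coe_mem, dite_true, Subtype.coe_eta, Equiv.apply_symm_apply]
    · obtain ⟨x, hx⟩ : ∃ x, x ∉ I := by
        by_contra hcon
        push Not at hcon
        have : (Finset.univ : Finset Ω).card ≤ I.card := Finset.card_le_card fun x _ => hcon x
        rw [Finset.card_univ] at this
        omega
      refine ⟨x, ?_⟩
      simp only [f, dif_neg hx]
      apply Fin.ext
      show k - 1 = (i : ℕ)
      have := i.2
      omega
  obtain ⟨g, hg⟩ := h J f hJ hfs
  refine ⟨g⁻¹, fun x hx => ?_⟩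
  have himg : J.image (fun y => f (g • y)) = Finset.univ := by
    apply Finset.eq_univ_of_card
    rw [Finset.card_image_of_injOn hg, hJ, Fintype.card_fin]
  obtain ⟨y, hy, hyx⟩ : ∃ y ∈ J, f (g • y) = f x := by
    have : f x ∈ J.image (fun y => f (g • y)) := by rw [himg]; exact Finset.mem_univ _
    simpa using this
  have h1 : g • y = x := by
    by_cases hyI : g • y ∈ I
    · simp only [f, dif_pos hx, dif_pos hyI, Fin.mk.injEq] at hyx
      have h2 := ε.injective (Fin.ext hyx)
      exact congrArg Subtype.val h2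
    · simp only [f, dif_pos hx, dif_neg hyI, Fin.mk.injEq] at hyx
      have := (ε ⟨x, hx⟩).2
      omega
  rw [← h1, inv_smul_smul]
  exact hy

/-- A group inducing all even permutations has the universal transversal property. -/
theorem kut_of_alt {k : ℕ} (hkn : k + 2 ≤ Fintype.card Ω)
    (h : ∀ σ : Equiv.Perm Ω, σ ∈ alternatingGroup Ω → ∃ g : G, ∀ x : Ω, g • x = σ x) :
    KUt G Ω k := by
  intro I f hI hf
  have h1 := alternatingGroup.isMultiplyPretransitive Ω
  have h2 : IsMultiplyPretransitive (alternatingGroup Ω) Ω k :=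
    isMultiplyPretransitive_of_le (n := Nat.card Ω - 2)
      (by rw [Nat.card_eq_fintype_card]; omega) (by omega)
  let ε : I ≃ Fin k := Fintype.equivFinOfCardEq (by simpa using hI)
  let x : Fin k ↪ Ω := ⟨fun i => (ε.symm i : Ω), fun i j hij =>
    ε.symm.injective (Subtype.ext hij)⟩
  let y : Fin k ↪ Ω := ⟨Function.surjInv hf, Function.injective_surjInv hf⟩
  obtain ⟨σ, hσ⟩ := MulAction.exists_smul_eq (alternatingGroup Ω) x y
  obtain ⟨g, hg⟩ := h σ σ.2
  have h3 : ∀ a (ha : a ∈ I), f (g • a) = ε ⟨a, ha⟩ := by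
    intro a ha
    have h4 : (σ • x) (ε ⟨a, ha⟩) = y (ε ⟨a, ha⟩) := by rw [hσ]
    have h5 : (σ • x) (ε ⟨a, ha⟩) = (σ : Equiv.Perm Ω) a := by
      show (σ : Equiv.Perm Ω) ((ε.symm (ε ⟨a, ha⟩) : I) : Ω) = _
      rw [Equiv.symm_apply_apply]
    rw [hg, ← h5, h4]
    exact Function.surjInv_eq hf _
  refine ⟨g, fun a ha b hb hab => ?_⟩
  have ha' := Finset.mem_coe.1 ha
  have hb' := Finset.mem_coe.1 hb
  have h4 : f (g • a) = f (g • b) := hab
  rw [h3 a ha', h3 b hb'] at h4
  exact congrArg Subtype.val (ε.injective h4)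

omit [DecidableEq Ω] in
/-- Divisibility from multiple transitivity. -/
theorem descFactorial_dvd [Finite G] {m : ℕ} (hm : m ≤ Fintype.card Ω)
    (ht : IsMultiplyPretransitive G Ω m) :
    (Fintype.card Ω).descFactorial m ∣ Nat.card G := by
  classical
  obtain ⟨x⟩ : Nonempty (Fin m ↪ Ω) := by
    rw [Function.Embedding.nonempty_iff_card_le]
    simpa using hm
  have h1 := Subgroup.card_mul_index (MulAction.stabilizer G x)
  rw [MulAction.index_stabilizer_of_transitive, Nat.card_eq_fintype_card (α := Fin m ↪ Ω),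
    Fintype.card_embedding_eq, Fintype.card_fin] at h1
  exact ⟨_, by rw [mul_comm]; exact h1.symm⟩

end General

theorem squareDodecad_mem : Cfsg.Spor.squareDodecad ∈ Cfsg.dodecads := by
  have h : Cfsg.Spor.squareDodecad = Cfsg.Agent.SporadicA.M11Comp.sqD := by
    ext x
    rw [Cfsg.Agent.SporadicA.M11Comp.mem_sqD]
    revert x
    decide +kernel
  rw [h]
  exact Cfsg.Agent.SporadicA.M11Comp.sqD_mem_dodecads

/-- The two descriptions of `M₁₂`. -/
def equivM12 : ↥(MulAction.stabilizer Cfsg.M24 Cfsg.Spor.squareDodecad) ≃* Cfsg.Spor.M12 where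
  toFun g := ⟨((g : Cfsg.M24) : Equiv.Perm Cfsg.GolayPt), (g : Cfsg.M24).2, g.2⟩
  invFun g := ⟨⟨(g : Equiv.Perm Cfsg.GolayPt), g.2.1⟩, g.2.2⟩
  left_inv _ := rfl
  right_inv _ := rfl
  map_mul' _ _ := rfl

theorem simple_M12 : IsSimpleGroup Cfsg.Spor.M12 :=
  have := Cfsg.Agent.S0383.result _ squareDodecad_mem
  equivM12.isSimpleGroup_congr.1 this

theorem card_M12 : Nat.card Cfsg.Spor.M12 = 95040 := by
  rw [← Cfsg.Agent.S0382.result _ squareDodecad_mem]
  exact (Nat.card_congr equivM12.toEquiv).symm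

variable {Ω : Type*} [Fintype Ω] [DecidableEq Ω]

/-- The end of the proof: `(k-1)`-homogeneous groups with the universal transversal property,
given the list of 4-transitive groups. -/
theorem main (H : Subgroup (Equiv.Perm Ω)) {k : ℕ} (hk : 6 ≤ k) (hkn : 2 * k ≤ Fintype.card Ω + 1)
    (hut : KUt H Ω k)
    (hhom : ∀ I J : Finset Ω, I.card = k - 1 → J.card = k - 1 → ∃ g : H, ∀ x ∈ I, g • x ∈ J)
    (hlist : MulAction.IsMultiplyPretransitive H Ω 4 →
      (MulAction.toPermHom H Ω).range = ⊤ ∨ (MulAction.toPermHom H Ω).range = alternatingGroup Ω ∨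
      (Fintype.card Ω = 11 ∧ Cfsg.Spor.IsoM11 H) ∨ (Fintype.card Ω = 12 ∧ Cfsg.Spor.IsoM12 H) ∨
      (Fintype.card Ω = 23 ∧ Cfsg.Spor.IsoM23 H) ∨ (Fintype.card Ω = 24 ∧ Cfsg.Spor.IsoM24 H)) :
    alternatingGroup Ω ≤ H := by
  have hpre : MulAction.IsPretransitive H (Set.powersetCard Ω (k - 1)) := by
    refine ⟨fun I J => ?_⟩
    obtain ⟨g, hg⟩ := hhom (I : Finset Ω) (J : Finset Ω) I.2 J.2
    refine ⟨g, Subtype.ext ?_⟩
    have hc : ((g • I : Set.powersetCard Ω (k - 1)) : Finset Ω) = g • (I : Finset Ω) :=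
      Set.powersetCard.coe_smul
    rw [hc]
    apply Finset.eq_of_subset_of_card_le
    · intro y hy
      obtain ⟨x, hx, rfl⟩ := Finset.mem_smul_finset.1 hy
      exact hg x hx
    · rw [Finset.card_smul_finset]
      exact (le_of_eq (J.2.trans I.2.symm))
  have htr := Cfsg.Agent.S0748.result H (by omega) (by omega) hpre
  have hN : Nat.card Ω = Fintype.card Ω := Nat.card_eq_fintype_card
  have h5 : MulAction.IsMultiplyPretransitive H Ω 5 :=
    isMultiplyPretransitive_of_le (n := k - 1) (by omega) (by rw [hN]; omega)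
  have h4 : MulAction.IsMultiplyPretransitive H Ω 4 :=
    isMultiplyPretransitive_of_le (n := k - 1) (by omega) (by rw [hN]; omega)
  have h1 : MulAction.IsMultiplyPretransitive H Ω 1 :=
    isMultiplyPretransitive_of_le (n := k - 1) (by omega) (by rw [hN]; omega)
  have h1' : MulAction.IsPretransitive H Ω := is_one_pretransitive_iff.1 h1
  have hrange : (MulAction.toPermHom H Ω).range = H := by
    ext σ
    constructor
    · rintro ⟨g, rfl⟩
      have : MulAction.toPermHom H Ω g = (g : Equiv.Perm Ω) := by ext x; rfl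
      rw [this]
      exact g.2
    · intro hσ
      exact ⟨⟨σ, hσ⟩, by ext x; rfl⟩
  rcases hlist h4 with h | h | ⟨hn, e⟩ | ⟨hn, e⟩ | ⟨hn, e⟩ | ⟨hn, e⟩
  · rw [hrange] at h
    rw [h]
    exact le_top
  · rw [hrange] at h
    exact h.ge
  · exfalso
    have hd := descFactorial_dvd (G := H) (m := 5) (by omega) h5
    rw [hn, Nat.card_congr e.some.toEquiv] at hd
    have h2 : Nat.card Cfsg.Spor.M11 ∣ 95040 := by
      rw [← card_M12]
      exact Subgroup.card_dvd_of_le inf_le_left
    have h3 := hd.trans h2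
    rw [show Nat.descFactorial 11 5 = 55440 by decide] at h3
    omega
  · exfalso
    obtain ⟨e⟩ := e
    have hs : IsSimpleGroup H := e.isSimpleGroup_congr.2 simple_M12
    have hc : Nat.card H = 95040 := by rw [Nat.card_congr e.toEquiv, card_M12]
    have hk6 : k = 6 := by omega
    subst hk6
    exact not_kut_m12 hs hc hn h1' hut
  · exfalso
    have hd := descFactorial_dvd (G := H) (m := 5) (by omega) h5
    rw [hn, Nat.card_congr e.some.toEquiv] at hd
    have h2 : Nat.card Cfsg.Spor.M23 ∣ 244823040 := by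
      rw [← Cfsg.Agent.S0364.result]
      exact Subgroup.card_dvd_of_le inf_le_left
    have h3 := hd.trans h2
    rw [show Nat.descFactorial 23 5 = 4037880 by decide] at h3
    omega
  · exfalso
    obtain ⟨e⟩ := e
    have hs : IsSimpleGroup H := e.isSimpleGroup_congr.2 Cfsg.Agent.S0365.result
    have hc : Nat.card H = 244823040 := by rw [Nat.card_congr e.toEquiv, Cfsg.Agent.S0364.result]
    rcases Nat.lt_or_ge k 7 with hk7 | hk7
    · have hk6 : k = 6 := by omega
      subst hk6
      exact not_kut_m24 hs hc hn h1' hut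
    · have h6 : MulAction.IsMultiplyPretransitive H Ω 6 :=
        isMultiplyPretransitive_of_le (n := k - 1) (by omega) (by rw [hN]; omega)
      have hd := descFactorial_dvd (G := H) (m := 6) (by omega) h6
      rw [hn, hc, show Nat.descFactorial 24 6 = 96909120 by decide] at hd
      omega

end Cfsg.Agent.H447.KUtMain
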