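import Cfsg.Agent.H447.KRowSmall
import Cfsg.Agent.H447.MElems
import Cfsg.Agent.H447.KUtMain
import Cfsg.Agent.SporadicA.MathieuRecog
import Cfsg.Agent.S2062
import Cfsg.Agent.S0387

/-!
# Mathieu rows of S3564 (helper447), first part
-/

set_option autoImplicit false
set_option linter.unusedSectionVars false

namespace Cfsg.Agent.H447.KRowMathieu

open MulAction Cfsg Cfsg.Agent.H397.KHom Cfsg.Agent.H384.TwoTrans Cfsg.Agent.H391.KOrb
open Cfsg.Agent.H447.KRowTools Cfsg.Agent.H447.MElems Cfsg.Agent.H447.KRowSmall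
open scoped Pointwise

universe u v

/-- bound for the automorphism group from the outer automorphism group -/
theorem card_aut_dvd (X : Type*) [Group X] :
    Nat.card (MulAut X) ∣ Nat.card (Cfsg.Out X) * Nat.card X := by
  have h1 : Nat.card (MulAut X) = Nat.card (Cfsg.Out X) * Nat.card (Inn X) :=
    Subgroup.card_eq_card_quotient_mul_card_subgroup (Inn X)
  rw [h1]
  apply Nat.mul_dvd_mul_left
  exact Subgroup.card_range_dvd (MulAut.conj : X →* MulAut X)

variable {G : Type u} {Ω : Type v} [Group G] [MulAction G Ω] {T : Subgroup G} [DecidableEq Ω] [Fintype Ω]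

theorem card_dvd_of_out (A : AS G Ω T) {X : Type*} [Group X] (e : T ≃* X) :
    Nat.card G ∣ Nat.card (Cfsg.Out X) * Nat.card X :=
  ((Cfsg.Agent.H436.TT.card_dvd_aut A).trans (by rw [Nat.card_congr (MulAut.congr e).toEquiv])).trans
    (card_aut_dvd X)

theorem six (A : AS G Ω T) (h : Hom G Ω 6) (hT : SixPair T) : Homog G Ω (6 - 1) := by
  have := A.finG
  have := A.faithful
  obtain ⟨x, y, t, h1, h2, h3, h4, h5, h6, h7⟩ := hT.map T.subtype T.subtype_injective
  obtain ⟨g, a, hga⟩ := exists_orbit_six_pair (Ω := Ω) h1 h2 h3 h4 h5 h6 h7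
  exact h.homog_of_orbit (by norm_num) _ a hga

theorem four (A : AS G Ω T) (h : Hom G Ω 4) (hT : ∃ g : T, orderOf g = 4) : Homog G Ω (4 - 1) := by
  have := A.finG
  have := A.faithful
  obtain ⟨g, hg⟩ := hT
  exact homog_of_orderOf (a := 1) Nat.prime_two h (g := (g : G))
    (by rw [Subgroup.orderOf_coe, hg]; norm_num)

theorem eight (A : AS G Ω T) (h : Hom G Ω 8) (hT : ∃ g : T, orderOf g = 8) : Homog G Ω (8 - 1) := by
  have := A.finG
  have := A.faithful
  obtain ⟨g, hg⟩ := hT
  exact homog_of_orderOf (a := 2) Nat.prime_two h (g := (g : G))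
    (by rw [Subgroup.orderOf_coe, hg]; norm_num)

theorem prime (A : AS G Ω T) {p : ℕ} (hp : p.Prime) (h : Hom G Ω p) (hT : p ∣ Nat.card T) :
    Homog G Ω (p - 1) := by
  have := A.finG
  have := A.faithful
  exact homog_of_prime_dvd hp h (hT.trans (Subgroup.card_subgroup_dvd_card T))

theorem orderOf_transfer {X Y : Type*} [Group X] [Group Y] (e : X ≃* Y) {n : ℕ}
    (h : ∃ g : Y, orderOf g = n) : ∃ g : X, orderOf g = n := by
  obtain ⟨g, hg⟩ := h
  exact ⟨e.symm g, by rw [← hg]; exact orderOf_injective e.symm.toMonoidHom e.symm.injective g⟩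

theorem SixPair.transfer {X Y : Type*} [Group X] [Group Y] (e : X ≃* Y) (h : SixPair Y) : SixPair X :=
  h.map e.symm.toMonoidHom e.symm.injective

theorem card_M11 : Nat.card Spor.M11 = 7920 := by
  have h1 := Cfsg.Agent.S0387.result _ KUtMain.squareDodecad_mem (some 0)
    (by rw [mem_sqD]; decide +kernel)
  rw [← h1]
  refine Nat.card_congr ⟨fun g => ⟨⟨g, g.2.1.1⟩, Subgroup.mem_inf.2 ⟨g.2.1.2, g.2.2⟩⟩,
    fun g => ⟨((g : Cfsg.M24) : Equiv.Perm Cfsg.GolayPt),
      ⟨⟨(g : Cfsg.M24).2, (Subgroup.mem_inf.1 g.2).1⟩, (Subgroup.mem_inf.1 g.2).2⟩⟩, fun _ => rfl, fun _ => rfl⟩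

/-- `M₁₁` in degrees 11 and 12, `M₁₂` in degree 12. -/
theorem row_small (A : AS G Ω T) (hn : Fintype.card Ω ≤ 12) (h4 : ∃ g : T, orderOf g = 4)
    (h5 : 5 ∣ Nat.card T) (h6 : SixPair T) {k : ℕ} (hk : 4 ≤ k) (h2k : 2 * k ≤ Fintype.card Ω + 1)
    (h : Hom G Ω k) : Homog G Ω (k - 1) := by
  rcases (show k = 4 ∨ k = 5 ∨ k = 6 by omega) with rfl | rfl | rfl
  · exact four A h h4
  · exact prime A (by norm_num) h h5
  · exact six A h h6

theorem four_M12 : ∃ g : Spor.M12, orderOf g = 4 := by
  obtain ⟨g, hg⟩ := four_M11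
  exact ⟨Subgroup.inclusion inf_le_left g, by
    rw [← hg]; exact orderOf_injective _ (Subgroup.inclusion_injective _) g⟩

theorem row_m11 (A : AS G Ω T) (hT : Spor.IsoM11 T) (hn : Nat.card Ω = 11 ∨ Nat.card Ω = 12) {k : ℕ}
    (hk : 4 ≤ k) (h2k : 2 * k ≤ Fintype.card Ω + 1) (h : Hom G Ω k) : Homog G Ω (k - 1) := by
  obtain ⟨e⟩ := hT
  rw [Nat.card_eq_fintype_card] at hn
  exact row_small A (by omega) (orderOf_transfer e four_M11)
    (by rw [Nat.card_congr e.toEquiv, card_M11]; norm_num) (SixPair.transfer e pair_M11) hk h2k h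

theorem row_m12 (A : AS G Ω T) (hT : Spor.IsoM12 T) (hn : Nat.card Ω = 12) {k : ℕ}
    (hk : 4 ≤ k) (h2k : 2 * k ≤ Fintype.card Ω + 1) (h : Hom G Ω k) : Homog G Ω (k - 1) := by
  obtain ⟨e⟩ := hT
  rw [Nat.card_eq_fintype_card] at hn
  exact row_small A (by omega) (orderOf_transfer e four_M12)
    (by rw [Nat.card_congr e.toEquiv, KUtMain.card_M12]; norm_num)
    (SixPair.transfer e pair_M12) hk h2k h

theorem dvd_card_of_orbits {X : Type*} [Group X] {Y : Type*} [Finite Y] [MulAction X Y] {m : ℕ}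
    (h : ∀ y : Y, m ∣ (orbit X y).ncard) : m ∣ Nat.card Y := by
  classical
  have := Fintype.ofFinite Y
  have := Fintype.ofFinite (orbitRel.Quotient X Y)
  rw [Nat.card_congr (MulAction.selfEquivSigmaOrbits X Y), Nat.card_sigma]
  apply Finset.dvd_sum
  intro q _
  rw [Nat.card_coe_set_eq]
  exact h _

/-- the 2-adic argument for `M₂₂` -/
theorem kill_m22 (A : AS G Ω T) (hG : Nat.card G = 443520 ∨ Nat.card G = 887040)
    (hn : Fintype.card Ω = 22) {k : ℕ} (hk : k = 9 ∨ k = 10) (h : Hom G Ω k) : False := by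
  have := A.finG
  have key : ∀ I : Finset Ω, I.card = k - 1 → 16 ∣ (orbit G I).ncard := by
    intro I hI
    have h1 := h.choose_le_orbit (by omega) (by omega) hI
    have h2 : (orbit G I).ncard * Nat.card (stabilizer G I) = Nat.card G := by
      rw [← index_stabilizer]
      exact Subgroup.index_mul_card _
    rw [hn] at h1
    generalize (orbit G I).ncard = a at h1 h2 ⊢
    generalize Nat.card (stabilizer G I) = b at h2
    rcases hk with rfl | rfl
    · rw [show Nat.choose 22 (9 - 1) = 319770 by decide +kernel] at h1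
      have hb : b ≤ 24 := by
        by_contra hcon
        have : a * 25 ≤ a * b := Nat.mul_le_mul_left _ (by omega)
        omega
      rcases hG with hG | hG <;> rw [hG] at h2
      · have hb : b ≤ 12 := by
          by_contra hcon
          have : a * 13 ≤ a * b := Nat.mul_le_mul_left _ (by omega)
          omega
        interval_cases b <;> omega
      · interval_cases b <;> omega
    · rw [show Nat.choose 22 (10 - 1) = 497420 by decide +kernel] at h1
      have hb : b ≤ 17 := by
        by_contra hcon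
        have : a * 18 ≤ a * b := Nat.mul_le_mul_left _ (by omega)
        omega
      rcases hG with hG | hG <;> rw [hG] at h2
      · have hb : b ≤ 8 := by
          by_contra hcon
          have : a * 9 ≤ a * b := Nat.mul_le_mul_left _ (by omega)
          omega
        interval_cases b <;> omega
      · interval_cases b <;> omega
  have h3 : 16 ∣ Nat.card (Set.powersetCard Ω (k - 1)) := by
    apply dvd_card_of_orbits (X := G)
    intro y
    have h4 := key y.1 y.2
    have h5 : (orbit G y).ncard = (orbit G y.1).ncard := by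
      have : orbit G y.1 = Subtype.val '' (orbit G y) := by
        ext z
        constructor
        · rintro ⟨g, rfl⟩
          exact ⟨g • y, ⟨g, rfl⟩, rfl⟩
        · rintro ⟨_, ⟨g, rfl⟩, rfl⟩
          exact ⟨g, rfl⟩
      rw [this, Set.ncard_image_of_injective _ Subtype.val_injective]
    rw [h5]
    exact h4
  have h6 : Nat.card (Set.powersetCard Ω (k - 1)) = (Fintype.card Ω).choose (k - 1) := by
    rw [Set.powersetCard.card, Nat.card_eq_fintype_card]
  rw [h6, hn] at h3
  rcases hk with rfl | rfl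
  · rw [show Nat.choose 22 (9 - 1) = 319770 by decide +kernel] at h3
    omega
  · rw [show Nat.choose 22 (10 - 1) = 497420 by decide +kernel] at h3
    omega

theorem row_m22 (A : AS G Ω T) (hT : Spor.IsoM22 T) (hn : Nat.card Ω = 22) {k : ℕ}
    (hk : 4 ≤ k) (h2k : 2 * k ≤ Fintype.card Ω + 1) (h : Hom G Ω k) : Homog G Ω (k - 1) := by
  have := A.finG
  obtain ⟨e⟩ := hT
  have hc : Nat.card T = 443520 := by
    rw [Nat.card_congr e.toEquiv, SporadicA.MathieuRecog.card_M22]
  rw [Nat.card_eq_fintype_card] at hn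
  have h6 : SixPair T := SixPair.transfer e pair_M22
  have h4 : ∃ g : T, orderOf g = 4 := orderOf_transfer e four_M22
  have h8 : ∃ g : T, orderOf g = 8 := orderOf_transfer e eight_M22
  by_cases h910 : k = 9 ∨ k = 10
  · exfalso
    refine kill_m22 A ?_ hn h910 h
    have h1 := card_dvd_of_out A e
    rw [Cfsg.Agent.S2062.result, SporadicA.MathieuRecog.card_M22] at h1
    obtain ⟨c, hc'⟩ := Subgroup.card_subgroup_dvd_card T
    rw [hc] at hc'
    rw [hc'] at h1 ⊢
    have h2 : c ∣ 2 := Nat.dvd_of_mul_dvd_mul_left (k := 443520) (by norm_num)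
      (by rwa [mul_comm 2] at h1)
    rcases (Nat.dvd_prime Nat.prime_two).1 h2 with rfl | rfl
    · left; norm_num
    · right; norm_num
  · rcases (show k = 4 ∨ k = 5 ∨ k = 6 ∨ k = 7 ∨ k = 8 ∨ k = 11 by omega) with
      rfl | rfl | rfl | rfl | rfl | rfl
    · exact four A h h4
    · exact prime A (by norm_num) h (by rw [hc]; norm_num)
    · exact six A h h6
    · exact prime A (by norm_num) h (by rw [hc]; norm_num)
    · exact eight A h h8
    · exact prime A (by norm_num) h (by rw [hc]; norm_num)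

end Cfsg.Agent.H447.KRowMathieu
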