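import Cfsg.Agent.H447.KRowTools
import Cfsg.Agent.S0243

/-!
# Rows `alt`, `psl2_9`, `psl4_2` of S3564 (helper447)
-/

set_option autoImplicit false
set_option linter.unusedSectionVars false

namespace Cfsg.Agent.H447.KRowSmall

open MulAction Cfsg.Agent.H397.KHom Cfsg.Agent.H384.TwoTrans Cfsg.Agent.H391.KOrb
open Cfsg.Agent.H447.KRowTools

universe u v

variable {G : Type u} {Ω : Type v} [Group G] [MulAction G Ω] {T : Subgroup G} [DecidableEq Ω] [Fintype Ω]

theorem card_le_of (A : AS G Ω T) : Nat.card T ≤ Nat.card G := by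
  have := A.finG
  exact Subgroup.card_le_card_group T

theorem row_of_half (A : AS G Ω T) (hT : (Fintype.card Ω).factorial ≤ 2 * Nat.card T) {k : ℕ}
    (hk : 4 ≤ k) (h2k : 2 * k ≤ Fintype.card Ω + 1) : Homog G Ω (k - 1) := by
  have := A.finG
  have := A.faithful
  have h1 := card_le_of A
  exact homog_of_half (by omega) (by omega) (by omega)

/-- Row `alt`. -/
theorem row_alt (A : AS G Ω T) {n : ℕ} (hn : Nat.card Ω = n) (h5 : 5 ≤ n)
    (e : Nonempty (T ≃* ↥(alternatingGroup (Fin n)))) {k : ℕ}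
    (hk : 4 ≤ k) (h2k : 2 * k ≤ Fintype.card Ω + 1) : Homog G Ω (k - 1) := by
  obtain ⟨e⟩ := e
  have hfin : Nontrivial (Fin n) := Fin.nontrivial_iff_two_le.2 (by omega)
  apply row_of_half A _ hk h2k
  rw [Nat.card_congr e.toEquiv, nat_card_alternatingGroup, ← Nat.card_eq_fintype_card, hn,
    Nat.card_eq_fintype_card, Fintype.card_fin]
  have h2 : 2 ∣ n.factorial := Nat.dvd_factorial (by norm_num) (by omega)
  omega

/-- Row `psl2_9`. -/
theorem row_psl2_9 (A : AS G Ω T) (hn : Nat.card Ω = 6) (F : Type) [Field F] [Fintype F]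
    (hF : Fintype.card F = 9) (e : Nonempty (T ≃* Matrix.ProjectiveSpecialLinearGroup (Fin 2) F))
    {k : ℕ} (hk : 4 ≤ k) (h2k : 2 * k ≤ Fintype.card Ω + 1) : Homog G Ω (k - 1) := by
  exfalso
  rw [← Nat.card_eq_fintype_card, hn] at h2k
  omega

/-- Row `psl4_2`. -/
theorem row_psl4_2 (A : AS G Ω T) (hn : Nat.card Ω = 8) (F : Type) [Field F] [Fintype F]
    (hF : Fintype.card F = 2) (e : Nonempty (T ≃* Matrix.ProjectiveSpecialLinearGroup (Fin 4) F))
    {k : ℕ} (hk : 4 ≤ k) (h2k : 2 * k ≤ Fintype.card Ω + 1) : Homog G Ω (k - 1) := by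
  obtain ⟨e⟩ := e
  have h1 := Cfsg.Agent.S0243.result (F := F) rfl 4 (by norm_num)
  rw [hF] at h1
  have h2 : Nat.card (Matrix.ProjectiveSpecialLinearGroup (Fin 4) F) = 20160 := by
    simp [Fin.prod_univ_four] at h1
    omega
  apply row_of_half A _ hk h2k
  rw [Nat.card_congr e.toEquiv, h2, ← Nat.card_eq_fintype_card, hn]
  decide

end Cfsg.Agent.H447.KRowSmall
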