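import Cfsg.Agent.H391.KOrb

/-!
# Tools for the sporadic rows of S3564 (helper447)

* `exists_orbit_six_pair` : if `x`, `y` of order 3 commute with an involution `t = (y⁻¹ x)²` then some
  subgroup has an orbit of length 6;
* `homog_of_half` : groups of order at least `n!/2`.
-/

set_option autoImplicit false
set_option linter.unusedSectionVars false

namespace Cfsg.Agent.H447.KRowTools

open MulAction Cfsg.Agent.H397.KHom Cfsg.Agent.H384.TwoTrans Cfsg.Agent.H391.KOrb

section orbits

variable {G Ω : Type*} [Group G] [MulAction G Ω]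

theorem orbit_six_of_ne [Finite G] {g : G} (h6 : g ^ 6 = 1) {x : Ω} (hx2 : (g ^ 2) • x ≠ x)
    (hx3 : (g ^ 3) • x ≠ x) : (orbit (Subgroup.zpowers g) x).ncard = 6 := by
  have h2 := ncard_orbit_mul (Subgroup.zpowers g) x
  rw [Nat.card_zpowers] at h2
  have h7 : orderOf g ∣ 6 := orderOf_dvd_of_pow_eq_one h6
  have h3 : (orbit (Subgroup.zpowers g) x).ncard ∣ 6 := (Dvd.intro _ h2).trans h7
  have hidx : (stabilizer (Subgroup.zpowers g) x).index = (orbit (Subgroup.zpowers g) x).ncard := by
    rw [Subgroup.index, Nat.card_congr (orbitEquivQuotientStabilizer _ x).symm, Nat.card_coe_set_eq]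
  have hpow : (g ^ (orbit (Subgroup.zpowers g) x).ncard) • x = x := by
    let y : Subgroup.zpowers g := ⟨g, Subgroup.mem_zpowers g⟩
    have := (stabilizer (Subgroup.zpowers g) x).pow_index_mem y
    rw [hidx] at this
    exact this
  have h5 : ∀ (c m : ℕ), (g ^ m) • x = x → (g ^ (m * c)) • x = x := by
    intro c m hm
    induction c with
    | zero => rw [mul_zero, pow_zero, one_smul]
    | succ c ih => rw [mul_add, mul_one, pow_add, mul_smul, hm, ih]
  have h8 : (orbit (Subgroup.zpowers g) x).ncard ≤ 6 := Nat.le_of_dvd (by norm_num) h3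
  interval_cases hc : (orbit (Subgroup.zpowers g) x).ncard
  · simp at h3
  · exact absurd (h5 2 1 hpow) hx2
  · exact absurd hpow hx2
  · exact absurd hpow hx3
  · norm_num at h3
  · norm_num at h3
  · rfl

/-- If two elements `x`, `y` with cube 1 commute with the involution `t = (y⁻¹ x)²`, some cyclic
subgroup has an orbit of length 6. -/
theorem exists_orbit_six_pair [Finite G] [FaithfulSMul G Ω] {x y t : G} (hx : x ^ 3 = 1)
    (hy : y ^ 3 = 1) (ht : t ^ 2 = 1) (ht1 : t ≠ 1) (hxt : Commute x t) (hyt : Commute y t)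
    (hw : t = (y⁻¹ * x) ^ 2) : ∃ (g : G) (a : Ω), (orbit (Subgroup.zpowers g) a).ncard = 6 := by
  obtain ⟨a, ha⟩ : ∃ a : Ω, t • a ≠ a := by
    by_contra hcon
    push Not at hcon
    exact ht1 (FaithfulSMul.eq_of_smul_eq_smul (α := Ω) fun a => by rw [hcon, one_smul])
  have key : ∀ z : G, z ^ 3 = 1 → Commute z t → z • a ≠ a →
      (orbit (Subgroup.zpowers (z * t)) a).ncard = 6 := by
    intro z hz hzt hza
    have h2 : (z * t) ^ 2 = z ^ 2 := by rw [hzt.mul_pow, ht, mul_one]
    have h3 : (z * t) ^ 3 = t := by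
      rw [hzt.mul_pow, hz, one_mul, pow_succ, ht, one_mul]
    apply orbit_six_of_ne
    · rw [show 6 = 2 * 3 from rfl, pow_mul, h2, ← pow_mul, mul_comm, pow_mul, hz, one_pow]
    · rw [h2]
      intro h
      apply hza
      calc z • a = z • (z ^ 2 • a) := by rw [h]
        _ = (z ^ 3) • a := by rw [← mul_smul, ← pow_succ']
        _ = a := by rw [hz, one_smul]
    · rw [h3]
      exact ha
  by_cases hxa : x • a = a
  · by_cases hya : y • a = a
    · exfalso
      apply ha
      have h1 : y⁻¹ • a = a := by rw [inv_smul_eq_iff, hya]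
      rw [hw, pow_two, mul_smul, mul_smul, mul_smul, hxa, h1, hxa, h1]
    · exact ⟨y * t, a, key y hy hyt hya⟩
  · exact ⟨x * t, a, key x hx hxt hxa⟩

end orbits

section half

variable {G Ω : Type*} [Group G] [MulAction G Ω] [DecidableEq Ω] [Fintype Ω]

/-- A subgroup of `Perm Ω` of order at least `n!/2` contains the alternating group; it is
`j`-homogeneous for `j ≤ n - 2`. -/
theorem homog_of_half [Finite G] [FaithfulSMul G Ω] (hn2 : 2 ≤ Fintype.card Ω)
    (hG : (Fintype.card Ω).factorial ≤ 2 * Nat.card G) {j : ℕ} (hj : j + 2 ≤ Fintype.card Ω) :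
    Homog G Ω j := by
  have hnt : Nontrivial Ω := Fintype.one_lt_card_iff_nontrivial.1 (by omega)
  set R := (toPermHom G Ω).range with hR
  have hRc : Nat.card R = Nat.card G := by
    rw [hR]
    exact (Nat.card_congr (MonoidHom.ofInjective (f := toPermHom G Ω)
      MulAction.toPerm_injective).toEquiv).symm
  have hle : alternatingGroup Ω ≤ R := by
    have h1 := R.card_mul_index
    rw [hRc, Nat.card_eq_fintype_card (α := Equiv.Perm Ω), Fintype.card_perm] at h1
    have hpos : 0 < Nat.card G := Nat.card_pos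
    have h3 : R.index ≤ 2 := by
      by_contra hcon
      have : Nat.card G * 3 ≤ Nat.card G * R.index := Nat.mul_le_mul_left _ (by omega)
      omega
    have h4 : R.index ≠ 0 := Subgroup.index_ne_zero_of_finite
    rcases (show R.index = 1 ∨ R.index = 2 by omega) with h5 | h5
    · rw [Subgroup.index_eq_one.1 h5]
      exact le_top
    · exact (Equiv.Perm.eq_alternatingGroup_of_index_eq_two h5).ge
  have h1 := alternatingGroup.isMultiplyPretransitive Ω
  have h2 : IsMultiplyPretransitive (alternatingGroup Ω) Ω j :=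
    isMultiplyPretransitive_of_le (n := Nat.card Ω - 2)
      (by rw [Nat.card_eq_fintype_card]; omega) (by omega)
  intro I J hI hJ
  let ε : I ≃ Fin j := Fintype.equivFinOfCardEq (by simpa using hI)
  let δ : J ≃ Fin j := Fintype.equivFinOfCardEq (by simpa using hJ)
  let x : Fin j ↪ Ω := ⟨fun i => (ε.symm i : Ω), fun i j hij => ε.symm.injective (Subtype.ext hij)⟩
  let y : Fin j ↪ Ω := ⟨fun i => (δ.symm i : Ω), fun i j hij => δ.symm.injective (Subtype.ext hij)⟩
  obtain ⟨σ, hσ⟩ := MulAction.exists_smul_eq (alternatingGroup Ω) x y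
  obtain ⟨g, hg⟩ := hle σ.2
  refine ⟨g, fun a ha => ?_⟩
  have h4 : (σ • x) (ε ⟨a, ha⟩) = y (ε ⟨a, ha⟩) := by rw [hσ]
  have h5 : (σ • x) (ε ⟨a, ha⟩) = (σ : Equiv.Perm Ω) a := by
    show (σ : Equiv.Perm Ω) ((ε.symm (ε ⟨a, ha⟩) : I) : Ω) = _
    rw [Equiv.symm_apply_apply]
  have h6 : g • a = (σ : Equiv.Perm Ω) a := by rw [← hg]; rfl
  rw [h6, ← h5, h4]
  exact (δ.symm (ε ⟨a, ha⟩)).2

end half

end Cfsg.Agent.H447.KRowTools
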