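import Cfsg.Agent.SporadicA.M12Perm
import Cfsg.Agent.SporadicA.M24OfIndex
import Cfsg.Agent.S0374
import Cfsg.Agent.S0364

/-!
# Transitive actions of degree 12 and 24 of the Mathieu groups M12 and M24 are standard

For a faithful transitive action of a simple group of order 95040 on 12 points (order 244823040 on
24 points) there is a bijection of the point set with the standard point set carrying the group
into (onto) the standard copy.
-/

set_option autoImplicit false

namespace Cfsg.Agent.H447.MathieuLabel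

open Equiv Equiv.Perm MulAction
open Cfsg.Agent.SporadicA.DegPOne

variable {G Ω : Type*} [Group G] [Finite G] [MulAction G Ω] [FaithfulSMul G Ω] [Fintype Ω]

/-- A labelling under which a given `p`-cycle belongs to the group. -/
theorem exists_label {n p : ℕ} (hcard : Fintype.card Ω = n) (hp : p.Prime)
    (hpG : p ∣ Nat.card G) (hnp : n < 2 * p) (t : Perm (Fin n)) (ht : orderOf t = p) :
    ∃ e : Ω ≃ Fin n, ∃ g : G, ∀ x : Ω, e (g • x) = t (e x) := by
  classical
  let e0 : Ω ≃ Fin n := Fintype.equivFinOfCardEq hcard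
  let φ2 : G →* Perm (Fin n) := (e0.permCongrHom).toMonoidHom.comp (MulAction.toPermHom G Ω)
  have hφ2 : Function.Injective φ2 := (e0.permCongrHom).injective.comp MulAction.toPerm_injective
  have : Fact p.Prime := ⟨hp⟩
  obtain ⟨g, hg⟩ := exists_prime_orderOf_dvd_card' p hpG
  have hσ : orderOf (φ2 g) = p := by rw [orderOf_injective φ2 hφ2, hg]
  have key : ∀ σ : Perm (Fin n), orderOf σ = p → σ.cycleType = {p} := by
    intro σ h
    obtain ⟨m, hm⟩ := cycleType_prime_order (σ := σ) (by rw [h]; exact hp)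
    rw [h] at hm
    have hsum : σ.cycleType.sum ≤ n := by
      rw [sum_cycleType]
      simpa using Finset.card_le_univ σ.support
    rw [hm, Multiset.sum_replicate, smul_eq_mul] at hsum
    have hm0 : m = 0 := by
      by_contra hne
      have : 2 ≤ m + 1 := by omega
      have := Nat.mul_le_mul_right p this
      omega
    rw [hm, hm0]
    rfl
  have hconj : IsConj (φ2 g) t := by
    rw [isConj_iff_cycleType_eq, key _ hσ, key _ ht]
  obtain ⟨c, hc⟩ := isConj_iff.1 hconj
  refine ⟨e0.trans c, g, fun x => ?_⟩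
  have h1 : φ2 g (e0 x) = e0 (g • x) := by
    show e0 (g • e0.symm (e0 x)) = _
    rw [Equiv.symm_apply_apply]
  show c (e0 (g • x)) = t (c (e0 x))
  rw [← h1, ← hc]
  simp

/-- The image of the group in the symmetric group on the labels. -/
def lab {n : ℕ} (e : Ω ≃ Fin n) : G →* Perm (Fin n) :=
  (e.permCongrHom).toMonoidHom.comp (MulAction.toPermHom G Ω)

omit [Finite G] [FaithfulSMul G Ω] [Fintype Ω] in
theorem lab_apply {n : ℕ} (e : Ω ≃ Fin n) (g : G) (x : Ω) : lab e g (e x) = e (g • x) := by
  show e (g • e.symm (e x)) = _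
  rw [Equiv.symm_apply_apply]

omit [Finite G] [Fintype Ω] in
theorem lab_injective {n : ℕ} (e : Ω ≃ Fin n) : Function.Injective (lab (G := G) e) :=
  (e.permCongrHom).injective.comp MulAction.toPerm_injective

/-- Degree 12. -/
theorem m12_label (hs : IsSimpleGroup G) (hc : Nat.card G = 95040) (hcard : Fintype.card Ω = 12)
    (htr : MulAction.IsPretransitive G Ω) :
    ∃ e : Ω ≃ Fin 12, ∀ g : G, ∃ s ∈ SporadicA.M12Perm.Std, ∀ x : Ω, e (g • x) = s (e x) := by
  obtain ⟨e, g0, hg0⟩ := exists_label (G := G) hcard (by norm_num : Nat.Prime 11)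
    (by rw [hc]; norm_num) (by norm_num) SporadicA.Cand12.tP SporadicA.Cand12.orderOf_tP
  have hyp : SporadicA.M12Perm.Hyp (lab (G := G) e).range :=
    { card := by
        rw [← hc]
        exact (Nat.card_congr (MonoidHom.ofInjective (lab_injective e)).toEquiv).symm
      even := by
        rintro _ ⟨g, rfl⟩
        exact sign_eq_one hs (by rw [hc]; norm_num) _ g
      trans := by
        intro x y
        obtain ⟨g, hg⟩ := MulAction.exists_smul_eq G (e.symm x) (e.symm y)
        refine ⟨lab e g, ⟨g, rfl⟩, ?_⟩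
        have h1 := lab_apply e g (e.symm x)
        rw [hg, Equiv.apply_symm_apply, Equiv.apply_symm_apply] at h1
        exact h1
      t_mem := by
        refine ⟨g0, ?_⟩
        ext1 x
        have h1 := lab_apply e g0 (e.symm x)
        rw [hg0, Equiv.apply_symm_apply] at h1
        exact h1 }
  obtain ⟨σ, h1⟩ := SporadicA.M12Perm.exists_relabel hyp
  refine ⟨e.trans σ, fun g => ⟨σ * lab e g * σ⁻¹, ?_, fun x => ?_⟩⟩
  · rw [← h1]
    exact ⟨lab e g, ⟨g, rfl⟩, rfl⟩
  · show σ (e (g • x)) = σ (lab e g (σ.symm (σ (e x))))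
    rw [Equiv.symm_apply_apply, lab_apply]

/-- Degree 24. -/
theorem m24_label (hs : IsSimpleGroup G) (hc : Nat.card G = 244823040)
    (hcard : Fintype.card Ω = 24) (htr : MulAction.IsPretransitive G Ω) :
    ∃ e : Ω ≃ Cfsg.GolayPt, ∀ g : G, ∃ s ∈ Cfsg.M24, ∀ x : Ω, e (g • x) = s (e x) := by
  obtain ⟨e, g0, hg0⟩ := exists_label (G := G) hcard (by norm_num : Nat.Prime 23)
    (by rw [hc]; norm_num) (by norm_num) SporadicA.Cand24.tP SporadicA.Cand24.orderOf_tP
  have hyp : SporadicA.M24OfIndex.Hyp (lab (G := G) e).range :=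
    { card := by
        rw [← hc]
        exact (Nat.card_congr (MonoidHom.ofInjective (lab_injective e)).toEquiv).symm
      even := by
        rintro _ ⟨g, rfl⟩
        exact sign_eq_one hs (by rw [hc]; norm_num) _ g
      trans := by
        intro x y
        obtain ⟨g, hg⟩ := MulAction.exists_smul_eq G (e.symm x) (e.symm y)
        refine ⟨lab e g, ⟨g, rfl⟩, ?_⟩
        have h1 := lab_apply e g (e.symm x)
        rw [hg, Equiv.apply_symm_apply, Equiv.apply_symm_apply] at h1
        exact h1
      t_mem := by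
        refine ⟨g0, ?_⟩
        ext1 x
        have h1 := lab_apply e g0 (e.symm x)
        rw [hg0, Equiv.apply_symm_apply] at h1
        exact h1 }
  obtain ⟨σ, h1, h2, h3, h4⟩ := SporadicA.M24OfIndex.exists_relabel hyp
  let f : G →* Perm Cfsg.GolayPt :=
    (SporadicA.M24OfIndex.ePt.permCongrHom.toMonoidHom).comp
      ((MulAut.conj σ).toMonoidHom.comp (lab e))
  have hf : Function.Injective f :=
    SporadicA.M24OfIndex.ePt.permCongrHom.injective.comp
      ((MulAut.conj σ).injective.comp (lab_injective e))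
  have hmem : ∀ g ∈ (lab (G := G) e).range.map (MulAut.conj σ).toMonoidHom,
      SporadicA.M24OfIndex.ePt.permCongrHom g ∈ f.range := by
    rintro _ ⟨_, ⟨g, rfl⟩, rfl⟩
    exact ⟨g, rfl⟩
  have hle : Cfsg.M24 ≤ f.range := by
    rw [← Cfsg.Agent.S0374.result, Subgroup.closure_le]
    intro g hg
    rcases hg with rfl | rfl | rfl
    · rw [SporadicA.M24OfIndex.shift_eq]; exact hmem _ h1
    · rw [SporadicA.M24OfIndex.projInv_eq]; exact hmem _ h4
    · obtain ⟨i, hi⟩ := SporadicA.M24OfIndex.cubeTwist_eq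
      rw [hi]
      exact hmem _ (Subgroup.mul_mem _ (Subgroup.pow_mem _ h2 i) h3)
  have hcardf : Nat.card f.range = 244823040 := by
    rw [← hc]
    exact (Nat.card_congr (MonoidHom.ofInjective hf).toEquiv).symm
  have heq : Cfsg.M24 = f.range := by
    apply Subgroup.eq_of_le_of_card_ge hle
    rw [hcardf, Cfsg.Agent.S0364.result]
  refine ⟨(e.trans σ).trans SporadicA.M24OfIndex.ePt, fun g => ⟨f g, ?_, fun x => ?_⟩⟩
  · rw [heq]
    exact ⟨g, rfl⟩
  · show SporadicA.M24OfIndex.ePt (σ (e (g • x))) =
      SporadicA.M24OfIndex.ePt (σ (lab e g (σ.symm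
        (SporadicA.M24OfIndex.ePt.symm (SporadicA.M24OfIndex.ePt (σ (e x)))))))
    rw [Equiv.symm_apply_apply, Equiv.symm_apply_apply, lab_apply]

end Cfsg.Agent.H447.MathieuLabel
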