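import Cfsg.Agent.H153.Cov.Fi23
import Cfsg.Agent.H838.ThreeCl
import Cfsg.Agent.KFacts.FiTTh.Has
import Cfsg.Agent.H609.TH.Expl
import Cfsg.Agent.OrdDiv.Table

/-!
# S3938, the row `Fi23` (helper447)

Every class of elements `g` of prime order has an element `x` of order 23 such that `x g` has order divisible by 13 or
17; no proper subgroup has order divisible by 23 and one of 13, 17.
-/

set_option autoImplicit false
set_option maxRecDepth 100000

namespace Cfsg.Agent.H447.SprFi23

open Subgroup Cfsg Cfsg.Agent.Lib.PermNet Cfsg.Agent.LThreeFi23 Cfsg.Agent.H609.TH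
open Cfsg.Spor (Fi23)

theorem bad (known : H257.El.Known.{0}) : ∀ w ∈ [17, 13], H455.Cov.Bad Fi23 23 w := by
  have hc := NotCT.Orders.fi23 (K := Fi23) ⟨MulEquiv.refl _⟩
  have hW : ∀ w ∈ [17, 13], w.Prime ∧ 23 ≠ w := by
    intro w hw
    simp only [List.mem_cons, List.not_mem_nil, or_false] at hw
    rcases hw with rfl | rfl <;> norm_num
  exact H455.Cov.bad_of_chkW OrdDiv.table known (l := H153.Cov.l23) hc (by norm_num) (fun w hw => (hW w hw).1)
    (fun w hw => H153.Cov.noOrd_23 w (hW w hw).1 (hW w hw).2) (by decide +kernel)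

theorem top_of (known : H257.El.Known.{0}) {R : Subgroup Fi23} {q : ℕ} (hq : q ∈ [17, 13])
    {x y : Fi23} (hx : x ∈ R) (hy : y ∈ R) (h23 : 23 ∣ orderOf x) (hqy : q ∣ orderOf y) : R = ⊤ := by
  by_contra hne
  exact bad known q hq R hne (h23.trans (Subgroup.orderOf_dvd_natCard _ hx)) (hqy.trans (Subgroup.orderOf_dvd_natCard _ hy))

theorem elw_pow (l : List Lt) (n : ℕ) : elw l ^ n = elw ((List.replicate n l).flatten) := by
  induction n with
  | zero =>
    rw [pow_zero, List.replicate_zero, List.flatten_nil, elw_nil]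
  | succ n ih => rw [pow_succ', ih, List.replicate_succ, List.flatten_cons, elw_append]

/-- a point in a cycle of length `r` -/
theorem dvd_orderOf_of_point {G : Type*} [Group G] {α : Type*} (f : G →* Equiv.Perm α) (g : G) {r : ℕ}
    (hr : r.Prime) (a : α) (h1 : f (g ^ r) a = a) (h2 : f g a ≠ a) : r ∣ orderOf g := by
  have h3 : Function.minimalPeriod (f g) a ∣ r := by
    apply Function.IsPeriodicPt.minimalPeriod_dvd
    change (⇑(f g))^[r] a = a
    rw [← Equiv.Perm.coe_pow, ← map_pow]
    exact h1
  have h4 : Function.minimalPeriod (f g) a = r := by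
    rcases (Nat.dvd_prime hr).1 h3 with h | h
    · exact absurd (Function.minimalPeriod_eq_one_iff_isFixedPt.1 h) h2
    · exact h
  rw [← h4]
  apply Function.IsPeriodicPt.minimalPeriod_dvd
  change (⇑(f g))^[orderOf g] a = a
  rw [← Equiv.Perm.coe_pow, ← map_pow, pow_orderOf_eq_one, map_one]
  rfl

/-- an orbit of length `q` -/
theorem dvd_of_pt {l : List Lt} {q p : ℕ} (hq : q.Prime) (h1 : Nat.beq (ptw ((List.replicate q l).flatten) p) p = true)
    (h2 : Nat.beq (ptw l p) p = false) : q ∣ orderOf (elw l) := by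
  have e : ∀ l : List Lt, ptw l p = Cfsg.Agent.Fischer.Fi23Hom.rho (elw l) p := fun l => by
    rw [ptw, ptWord_eq (ntw_ok l), rho_elw]
  have h1' := Nat.eq_of_beq_eq_true h1
  have h2' := Nat.ne_of_beq_eq_false h2
  rw [e] at h1' h2'
  rw [← elw_pow] at h1'
  exact dvd_orderOf_of_point _ _ hq p h1' h2'

theorem ord23 : orderOf (elw y23) = 23 := by
  have : Fact (Nat.Prime 23) := ⟨by norm_num⟩
  exact orderOf_eq_prime pow23 y23_ne

theorem ord17 : orderOf (elw y17) = 17 := by
  have : Fact (Nat.Prime 17) := ⟨by norm_num⟩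
  exact orderOf_eq_prime pow17 y17_ne

/-- a representative -/
theorem good_of (known : H257.El.Known.{0}) {g u : List Lt} {q p : ℕ} (hq : q.Prime) (hq' : q ∈ [17, 13])
    (h1 : Nat.beq (ptw ((List.replicate q (u ++ y23 ++ u.reverse ++ g)).flatten) p) p = true)
    (h2 : Nat.beq (ptw (u ++ y23 ++ u.reverse ++ g) p) p = false) : GoodI (elw g) := by
  refine ⟨elw (u ++ y23 ++ u.reverse), ?_⟩
  have hx : elw (u ++ y23 ++ u.reverse) ∈ closure ({elw (u ++ y23 ++ u.reverse), elw g} : Set Fi23) :=
    Subgroup.subset_closure (Or.inl rfl)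
  have hg : elw g ∈ closure ({elw (u ++ y23 ++ u.reverse), elw g} : Set Fi23) := Subgroup.subset_closure (Or.inr rfl)
  refine top_of known hq' hx (mul_mem hx hg) ?_ ?_
  · have h3 : elw (u ++ y23 ++ u.reverse) = elw u * elw y23 * (elw u)⁻¹ := by
      rw [elw_append, elw_append, elw_reverse]
    have h4 : orderOf (elw (u ++ y23 ++ u.reverse)) = orderOf (elw y23) := by
      rw [h3]
      exact orderOf_injective (MulAut.conj (elw u)).toMonoidHom (MulAut.conj (elw u)).injective _
    rw [h4, ord23]
  · rw [← elw_append]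
    exact dvd_of_pt hq h1 h2

theorem g2a (known : H257.El.Known.{0}) : GoodI (elw [.z]) :=
  good_of known (u := [.j, .g, .f]) (q := 13) (p := 38) (by norm_num) (by simp) (by decide +kernel) (by decide +kernel)
theorem g2b (known : H257.El.Known.{0}) : GoodI (elw [.z, .a]) :=
  good_of known (u := [.b, .j, .z]) (q := 13) (p := 36) (by norm_num) (by simp) (by decide +kernel) (by decide +kernel)
theorem g2c (known : H257.El.Known.{0}) : GoodI (elw [.z, .a, .c]) :=
  good_of known (u := [.d, .h, .b]) (q := 13) (p := 0) (by norm_num) (by simp) (by decide +kernel) (by decide +kernel)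
theorem g3a (known : H257.El.Known.{0}) : GoodI (elw [.z, .j]) :=
  good_of known (u := [.j, .g]) (q := 13) (p := 201) (by norm_num) (by simp) (by decide +kernel) (by decide +kernel)
theorem g3b (known : H257.El.Known.{0}) : GoodI (elw H838.Three.y135) :=
  good_of known (u := [.h]) (q := 17) (p := 0) (by norm_num) (by simp) (by decide +kernel) (by decide +kernel)
theorem g3c (known : H257.El.Known.{0}) : GoodI (elw H838.Three.y324) :=
  good_of known (u := [.g]) (q := 13) (p := 0) (by norm_num) (by simp) (by decide +kernel) (by decide +kernel)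
theorem g3d (known : H257.El.Known.{0}) : GoodI (elw H838.Three.y27) :=
  good_of known (u := [.c]) (q := 13) (p := 215) (by norm_num) (by simp) (by decide +kernel) (by decide +kernel)
theorem g5 (known : H257.El.Known.{0}) : GoodI (elw y5) :=
  good_of known (u := [.e]) (q := 13) (p := 2) (by norm_num) (by simp) (by decide +kernel) (by decide +kernel)
theorem g7 (known : H257.El.Known.{0}) : GoodI (elw y7) :=
  good_of known (u := [.d]) (q := 13) (p := 0) (by norm_num) (by simp) (by decide +kernel) (by decide +kernel)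
theorem g11 (known : H257.El.Known.{0}) : GoodI (elw y11) :=
  good_of known (u := []) (q := 13) (p := 4) (by norm_num) (by simp) (by decide +kernel) (by decide +kernel)

theorem ord_of {y : Fi23} {p : ℕ} (hp : p.Prime) (h : y ^ p = 1) (h1 : y ≠ 1) : orderOf y = p := by
  have : Fact p.Prime := ⟨hp⟩
  exact orderOf_eq_prime h h1

theorem good_inv {g : Fi23} (h : GoodI g⁻¹) : GoodI g :=
  GoodI.of_zpowers (inv_mem (mem_zpowers g)) h

theorem good_of_isConj {g g₀ : Fi23} (h : IsConj g g₀) (H : GoodI g₀) : GoodI g := by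
  obtain ⟨u, hu⟩ := isConj_iff.1 h
  exact GoodI.of_conj u (by rw [hu]; exact H)

theorem good (known : H257.El.Known.{0}) (g : Fi23) (hg : (orderOf g).Prime) : GoodI g := by
  have hgp : g ^ orderOf g = 1 := pow_orderOf_eq_one g
  have hg1 : g ≠ 1 := by
    rintro rfl
    rw [orderOf_one] at hg
    exact Nat.not_prime_one hg
  have hdvd : orderOf g ∣ 4089470473293004800 := prime_dvd_card hg hgp hg1
  generalize hr : orderOf g = r at hg hgp hdvd
  by_cases h2 : r = 2
  · subst h2
    rw [pow_two] at hgp
    rcases KFacts.FiTTh.Has.inv g hgp hg1 with h | h | h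
    · refine good_of_isConj h ?_
      have := g2a known
      rwa [elw_cons, elw_nil, mul_one] at this
    · refine good_of_isConj h ?_
      have := g2b known
      rwa [elw_cons, elw_cons, elw_nil, mul_one] at this
    · refine good_of_isConj h ?_
      have := g2c known
      rwa [elw_cons, elw_cons, elw_cons, elw_nil, mul_one, ← mul_assoc] at this
  by_cases h3 : r = 3
  · subst h3
    obtain ⟨k, u, hu⟩ := H838.Three.classes hgp hg1
    have hk : GoodI (H838.Three.rep k) := by
      fin_cases k
      · have := g3a known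
        rwa [elw_cons, elw_cons, elw_nil, mul_one] at this
      · exact g3b known
      · exact g3c known
      · exact g3d known
    refine GoodI.of_conj u ?_
    rcases hu with hu | hu
    · rw [hu]; exact hk
    · rw [hu]
      exact good_inv (by rw [inv_inv]; exact hk)
  have h5 : 5 ≤ r := by
    rcases Nat.lt_or_ge r 5 with h | h
    · interval_cases r
      · exact absurd hg (by norm_num)
      · exact absurd hg (by norm_num)
      · exact absurd rfl h2
      · exact absurd rfl h3
      · exact absurd hg (by norm_num)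
    · exact h
  rcases prime_cases hg h5 hdvd with rfl | rfl | rfl | rfl | rfl | rfl
  · obtain ⟨u, i, hu⟩ := conj_five hgp
    exact goodI_of_rep hg hr (by rw [hu]; exact zpow_mem (mem_zpowers _) i) (ord_of hg pow5 y5_ne) (g5 known)
  · obtain ⟨u, i, hu⟩ := conj_seven hgp
    exact goodI_of_rep hg hr (by rw [hu]; exact zpow_mem (mem_zpowers _) i) (ord_of hg pow7 y7_ne) (g7 known)
  · obtain ⟨u, i, hu⟩ := conj_eleven hgp
    exact goodI_of_rep hg hr (by rw [hu]; exact zpow_mem (mem_zpowers _) i) (ord_of hg pow11 y11_ne) (g11 known)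
  · exact ⟨elw y23, top_of known (q := 13) (by simp) (Subgroup.subset_closure (Or.inl rfl))
      (Subgroup.subset_closure (Or.inr rfl)) (by rw [ord23]) (by rw [hr])⟩
  · exact ⟨elw y23, top_of known (q := 17) (by simp) (Subgroup.subset_closure (Or.inl rfl))
      (Subgroup.subset_closure (Or.inr rfl)) (by rw [ord23]) (by rw [hr])⟩
  · exact ⟨elw y17, top_of known (q := 17) (by simp) (Subgroup.subset_closure (Or.inr rfl))
      (Subgroup.subset_closure (Or.inl rfl)) (by rw [hr]) (by rw [ord17])⟩

/-- **S3938, the row `Fi23`** -/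
theorem spr_fi23 (known : H257.El.Known.{0}) {T : Type} [Group T] [Finite T] (h : Spor.IsoFi23 T) :
    H424.Spr.Spr T := by
  obtain ⟨e⟩ := h
  have hs : IsSimpleGroup Fi23 := nsimple
  refine H424.Spr.Spr.congr e.symm ?_
  refine spr_of_inner (exists_not_comm card_G (by norm_num)) (good known) KFacts.FiTTh.Has.inn

end Cfsg.Agent.H447.SprFi23
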